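import Cfsg.Agent.Lib.helper41.ChevCommF4_0
import Cfsg.Agent.Lib.helper41.ChevCommF4_1
import Cfsg.Agent.Lib.helper41.ChevCommF4_2
import Cfsg.Agent.Lib.helper41.ChevCommF4_3

/-! The commutator formula at `u = 1` for all pairs of roots of type F4. -/

set_option autoImplicit false
set_option maxRecDepth 100000

namespace Cfsg.Agent.Lib.helper41.TabF4

open Cfsg.Lie Cfsg.Agent.Lib.helper41

theorem comm_base {K : Type*} [Field K] (r s : ℕ) (hr : r < chevF4.nroots) (hs : s < chevF4.nroots)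
    (hrs : s ≠ r) (hneg : s ≠ chevF4.neg r) (t : K) :
    chevF4.x K s 1 * chevF4.x K r t =
      chevF4.x K r t * chevF4.x K s 1 * chevF4.wordMat K (chevF4.commWord K r s t 1) := by
  have hr' : r < 48 := hr
  interval_cases r
  · exact comm_of_rowF chevF4 tab.col colValid 0 hr 0 48 commRow_0 s hs (Nat.zero_le _) hs hrs hneg t
  · exact comm_of_rowF chevF4 tab.col colValid 1 hr 0 48 commRow_1 s hs (Nat.zero_le _) hs hrs hneg t
  · exact comm_of_rowF chevF4 tab.col colValid 2 hr 0 48 commRow_2 s hs (Nat.zero_le _) hs hrs hneg t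
  · exact comm_of_rowF chevF4 tab.col colValid 3 hr 0 48 commRow_3 s hs (Nat.zero_le _) hs hrs hneg t
  · exact comm_of_rowF chevF4 tab.col colValid 4 hr 0 48 commRow_4 s hs (Nat.zero_le _) hs hrs hneg t
  · exact comm_of_rowF chevF4 tab.col colValid 5 hr 0 48 commRow_5 s hs (Nat.zero_le _) hs hrs hneg t
  · exact comm_of_rowF chevF4 tab.col colValid 6 hr 0 48 commRow_6 s hs (Nat.zero_le _) hs hrs hneg t
  · exact comm_of_rowF chevF4 tab.col colValid 7 hr 0 48 commRow_7 s hs (Nat.zero_le _) hs hrs hneg t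
  · exact comm_of_rowF chevF4 tab.col colValid 8 hr 0 48 commRow_8 s hs (Nat.zero_le _) hs hrs hneg t
  · exact comm_of_rowF chevF4 tab.col colValid 9 hr 0 48 commRow_9 s hs (Nat.zero_le _) hs hrs hneg t
  · exact comm_of_rowF chevF4 tab.col colValid 10 hr 0 48 commRow_10 s hs (Nat.zero_le _) hs hrs hneg t
  · exact comm_of_rowF chevF4 tab.col colValid 11 hr 0 48 commRow_11 s hs (Nat.zero_le _) hs hrs hneg t
  · exact comm_of_rowF chevF4 tab.col colValid 12 hr 0 48 commRow_12 s hs (Nat.zero_le _) hs hrs hneg t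
  · exact comm_of_rowF chevF4 tab.col colValid 13 hr 0 48 commRow_13 s hs (Nat.zero_le _) hs hrs hneg t
  · exact comm_of_rowF chevF4 tab.col colValid 14 hr 0 48 commRow_14 s hs (Nat.zero_le _) hs hrs hneg t
  · exact comm_of_rowF chevF4 tab.col colValid 15 hr 0 48 commRow_15 s hs (Nat.zero_le _) hs hrs hneg t
  · exact comm_of_rowF chevF4 tab.col colValid 16 hr 0 48 commRow_16 s hs (Nat.zero_le _) hs hrs hneg t
  · exact comm_of_rowF chevF4 tab.col colValid 17 hr 0 48 commRow_17 s hs (Nat.zero_le _) hs hrs hneg t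
  · exact comm_of_rowF chevF4 tab.col colValid 18 hr 0 48 commRow_18 s hs (Nat.zero_le _) hs hrs hneg t
  · exact comm_of_rowF chevF4 tab.col colValid 19 hr 0 48 commRow_19 s hs (Nat.zero_le _) hs hrs hneg t
  · exact comm_of_rowF chevF4 tab.col colValid 20 hr 0 48 commRow_20 s hs (Nat.zero_le _) hs hrs hneg t
  · exact comm_of_rowF chevF4 tab.col colValid 21 hr 0 48 commRow_21 s hs (Nat.zero_le _) hs hrs hneg t
  · exact comm_of_rowF chevF4 tab.col colValid 22 hr 0 48 commRow_22 s hs (Nat.zero_le _) hs hrs hneg t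
  · exact comm_of_rowF chevF4 tab.col colValid 23 hr 0 48 commRow_23 s hs (Nat.zero_le _) hs hrs hneg t
  · exact comm_of_rowF chevF4 tab.col colValid 24 hr 0 48 commRow_24 s hs (Nat.zero_le _) hs hrs hneg t
  · exact comm_of_rowF chevF4 tab.col colValid 25 hr 0 48 commRow_25 s hs (Nat.zero_le _) hs hrs hneg t
  · exact comm_of_rowF chevF4 tab.col colValid 26 hr 0 48 commRow_26 s hs (Nat.zero_le _) hs hrs hneg t
  · exact comm_of_rowF chevF4 tab.col colValid 27 hr 0 48 commRow_27 s hs (Nat.zero_le _) hs hrs hneg t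
  · exact comm_of_rowF chevF4 tab.col colValid 28 hr 0 48 commRow_28 s hs (Nat.zero_le _) hs hrs hneg t
  · exact comm_of_rowF chevF4 tab.col colValid 29 hr 0 48 commRow_29 s hs (Nat.zero_le _) hs hrs hneg t
  · exact comm_of_rowF chevF4 tab.col colValid 30 hr 0 48 commRow_30 s hs (Nat.zero_le _) hs hrs hneg t
  · exact comm_of_rowF chevF4 tab.col colValid 31 hr 0 48 commRow_31 s hs (Nat.zero_le _) hs hrs hneg t
  · exact comm_of_rowF chevF4 tab.col colValid 32 hr 0 48 commRow_32 s hs (Nat.zero_le _) hs hrs hneg t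
  · exact comm_of_rowF chevF4 tab.col colValid 33 hr 0 48 commRow_33 s hs (Nat.zero_le _) hs hrs hneg t
  · exact comm_of_rowF chevF4 tab.col colValid 34 hr 0 48 commRow_34 s hs (Nat.zero_le _) hs hrs hneg t
  · exact comm_of_rowF chevF4 tab.col colValid 35 hr 0 48 commRow_35 s hs (Nat.zero_le _) hs hrs hneg t
  · exact comm_of_rowF chevF4 tab.col colValid 36 hr 0 48 commRow_36 s hs (Nat.zero_le _) hs hrs hneg t
  · exact comm_of_rowF chevF4 tab.col colValid 37 hr 0 48 commRow_37 s hs (Nat.zero_le _) hs hrs hneg t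
  · exact comm_of_rowF chevF4 tab.col colValid 38 hr 0 48 commRow_38 s hs (Nat.zero_le _) hs hrs hneg t
  · exact comm_of_rowF chevF4 tab.col colValid 39 hr 0 48 commRow_39 s hs (Nat.zero_le _) hs hrs hneg t
  · exact comm_of_rowF chevF4 tab.col colValid 40 hr 0 48 commRow_40 s hs (Nat.zero_le _) hs hrs hneg t
  · exact comm_of_rowF chevF4 tab.col colValid 41 hr 0 48 commRow_41 s hs (Nat.zero_le _) hs hrs hneg t
  · exact comm_of_rowF chevF4 tab.col colValid 42 hr 0 48 commRow_42 s hs (Nat.zero_le _) hs hrs hneg t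
  · exact comm_of_rowF chevF4 tab.col colValid 43 hr 0 48 commRow_43 s hs (Nat.zero_le _) hs hrs hneg t
  · exact comm_of_rowF chevF4 tab.col colValid 44 hr 0 48 commRow_44 s hs (Nat.zero_le _) hs hrs hneg t
  · exact comm_of_rowF chevF4 tab.col colValid 45 hr 0 48 commRow_45 s hs (Nat.zero_le _) hs hrs hneg t
  · exact comm_of_rowF chevF4 tab.col colValid 46 hr 0 48 commRow_46 s hs (Nat.zero_le _) hs hrs hneg t
  · exact comm_of_rowF chevF4 tab.col colValid 47 hr 0 48 commRow_47 s hs (Nat.zero_le _) hs hrs hneg t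

end Cfsg.Agent.Lib.helper41.TabF4
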