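import Cfsg.Agent.Lib.helper41.WeylTab
import Cfsg.Agent.Lib.helper41.ChevTabE6

/-! The Weyl group of type E6 as a permutation group of the root indices: its Poincaré series
(generated orbit certificates, kernel-checked). -/

set_option autoImplicit false
set_option maxRecDepth 100000

namespace Cfsg.Agent.Lib.helper41.TabE6

open Cfsg.Lie Cfsg.Agent.Lib.helper41 Cfsg.Agent.Lib.helper41.RootTab

def simpP : ℕ := 0x2425272a2e38

def rfP : ℕ := 0x47464543444240413e3f3d3b3c3a393837353633343230312f2e2c2d2b2a282927252623242122201e1f1d1c1a1b191816171513141112100f0e0d0b0c0a0809060705030402010047464445434142403f3d3e3c3a3b3938363735343233312f302e2d2b2c2a2927282422262125231f201e1d1b1c1a191718161415131210110f0e0c0d0b090a0807050604020301004745464443423f3e41403d3c3b393a3837343336353231302e2f2d2c2a2b262520292824231f1e2722211c1d1b1a181917161512111413100f0d0e0c0b0a0706090805040301020047464241404544433f3e3d3c3b3a383937363531302f3433322e2928271d2d2c2b2625242322211c1b1a2a201f1e191514131817161211100e0f0d0c0b0a0908040302070605010046474544434241403c3b3a3f3e3d39383736352d2c2b292827193433322a31302f2625242322211817161d1514132e201f1e1c1b1a1211100f0e0a09080d0c0b070605040302000147464544433736353433322d2c2b2a0f4241403f3e3d31302f2e3c3b3a39292827262524232221201f1e0e0d0c0b191817160a0908070605381d1c1b1a1514131211100403020100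

/-- the root tables of type E6 -/
def rootTab : RootTab :=
  { n := 72, l := 6, half := 36, simple := pk8 simpP,
    rf := fun i r => pk8 rfP (Nat.add (Nat.mul i 72) r), cart := fast.cart, cor := fast.cor }

theorem rootOK : rootTab.ok = true := by decide +kernel

theorem rootValid : rootTab.Valid := RootTab.valid_of_ok _ rootOK

/-- the Weyl group data of type E6 -/
noncomputable def weylData : WeylData rootTab.n rootTab.l := rootTab.weyl rootValid

def jf0 : ℕ → Bool := fun _ => true

-- step 0: nodes [0, 1, 2, 3, 4, 5], orbit of root 71 of size 72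
def cert0 : OrbCert :=
  { θ := 71, lev := pk8 0x1020304030405050607060708090a0405060607080708090a0708090a08090a090a0a0b0b0c0b0c0d0b0c0d0e0b0c0d0e0d0e0f0f10110b0c0d0e0f0e0f101011121112131415,
    parJ := pk8 0x103040502040503050401050403020004050305040205040301050403020504030504050404030303020202020101010102020203030400000000000000000303040202040301,
    parS := pk8 0x47464544454241413f3e3f3c3b3a394237363634333431302f342d2c2b2d29282926262425232722212a201f1e2e201f1e181716141311381d1c1b1a1514130908060706030201 }

theorem orb0 : orbCheck rootTab jf0 cert0 22 = true := by decide +kernel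

def jf1 : ℕ → Bool := nextJ rootTab jf0 71

-- step 1: nodes [0, 2, 3, 4, 5], orbit of root 60 of size 30
def cert1 : OrbCert :=
  { θ := 60, lev := pk8 0xffffffffffffffffffffff0001020304ffffffffffffffffffff0102030402030403040405050605060705060708ffffffffffffffffffff0506070809ffffffffffffffffffffff,
    parJ := pk8 0x50403020000000000000000000000050403020504030504050404030303020202020000000000000000000000000000000000000000000000000000,
    parS := pk8 0x3c3b3a39000000000000000000003c2d2c2b2d29282926262425232722212a201f1e00000000000000000000381d1c1b1a0000000000000000000000 }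

theorem orb1 : orbCheck rootTab jf1 cert1 10 = true := by decide +kernel

def jf2 : ℕ → Bool := nextJ rootTab jf1 60

-- step 2: nodes [2, 3, 4], orbit of root 44 of size 12
def cert2 : OrbCert :=
  { θ := 44, lev := pk8 0xffffffffffffffffffffffffffffffffffffffffffffffffffffff000102ff0102ff02ffff03ff0304ff030405ffffffffffffffffffffffffffffffffffffffffffffffffffffff,
    parJ := pk8 0x403000204000300000400030300020202000000000000000000000000000000000000000000000000000000,
    parS := pk8 0x2c2b002c280028000025002722002a201f000000000000000000000000000000000000000000000000000000 }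

theorem orb2 : orbCheck rootTab jf2 cert2 6 = true := by decide +kernel

def jf3 : ℕ → Bool := nextJ rootTab jf2 44

-- step 3: nodes [3], orbit of root 39 of size 2
def cert3 : OrbCert :=
  { θ := 39, lev := pk8 0xffffffffffffffffffffffffffffffffffffffffffffffffffffffffffffffff00ffffffffffff01ffffffffffffffffffffffffffffffffffffffffffffffffffffffffffffffff,
    parJ := pk8 0x30000000000000000000000000000000000000000000000000000000000000000,
    parS := pk8 0x270000000000000000000000000000000000000000000000000000000000000000 }

theorem orb3 : orbCheck rootTab jf3 cert3 2 = true := by decide +kernel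

def jf4 : ℕ → Bool := nextJ rootTab jf3 39

theorem jfEnd : allBelow 6 (fun i => !(jf4 i)) = true := by decide +kernel

theorem polyOK :
    pMul (orbPoly rootTab cert0 22) (pMul (orbPoly rootTab cert1 10) (pMul (orbPoly rootTab cert2 6) (pMul (orbPoly rootTab cert3 2) ([1])))) =
    pMul (List.replicate 2 1) (pMul (List.replicate 5 1) (pMul (List.replicate 6 1) (pMul (List.replicate 8 1) (pMul (List.replicate 9 1) (pMul (List.replicate 12 1) ([1])))))) := by decide +kernel

/-- the Poincaré series of the Weyl group of type E6 -/
theorem poincare (q : ℕ) :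
    weylData.poin Set.univ q = (∑ j ∈ Finset.range 2, q ^ j) * (∑ j ∈ Finset.range 5, q ^ j) * (∑ j ∈ Finset.range 6, q ^ j) * (∑ j ∈ Finset.range 8, q ^ j) * (∑ j ∈ Finset.range 9, q ^ j) * (∑ j ∈ Finset.range 12, q ^ j) := by
  have h0 : (Set.univ : Set (Fin rootTab.l)) = nodeSet rootTab jf0 := by
    ext i
    exact ⟨fun _ => rfl, fun _ => Set.mem_univ i⟩
  have hend : ∀ i, i ∉ nodeSet rootTab jf4 := by
    intro i hi
    have h1 := (allBelow_iff _ _).mp jfEnd i.val i.isLt
    have h2 : jf4 i.val = true := hi
    rw [h2] at h1
    exact absurd h1 (by decide)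
  have hp := congrArg (pEval q) polyOK
  simp only [pEval_pMul, pEval_replicate_one, pEval_one] at hp
  have e0 : weylData.poin (nodeSet rootTab jf0) q =
      pEval q (orbPoly rootTab cert0 22) * weylData.poin (nodeSet rootTab jf1) q :=
    poin_orb rootValid jf0 cert0 22 orb0 q
  have e1 : weylData.poin (nodeSet rootTab jf1) q =
      pEval q (orbPoly rootTab cert1 10) * weylData.poin (nodeSet rootTab jf2) q :=
    poin_orb rootValid jf1 cert1 10 orb1 q
  have e2 : weylData.poin (nodeSet rootTab jf2) q =
      pEval q (orbPoly rootTab cert2 6) * weylData.poin (nodeSet rootTab jf3) q :=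
    poin_orb rootValid jf2 cert2 6 orb2 q
  have e3 : weylData.poin (nodeSet rootTab jf3) q =
      pEval q (orbPoly rootTab cert3 2) * weylData.poin (nodeSet rootTab jf4) q :=
    poin_orb rootValid jf3 cert3 2 orb3 q
  rw [h0, e0, e1, e2, e3, WeylData.poin_empty weylData (nodeSet rootTab jf4) hend q]
  simpa [mul_assoc] using hp

end Cfsg.Agent.Lib.helper41.TabE6
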