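import Cfsg.Agent.Lib.helper41.ChevGraph
import Cfsg.Agent.Lib.helper41.ChevGenD4

/-! Graph automorphisms of the Chevalley group of type D4: effect on all root elements
(generated certificate, kernel-checked). -/

set_option autoImplicit false
set_option maxRecDepth 100000

namespace Cfsg.Agent.Lib.helper41.TabD4

open Cfsg.Lie Cfsg.Agent.Lib.helper41

def syms : List (List ℕ) := [[0, 1, 2, 3], [0, 1, 3, 2], [2, 1, 0, 3], [2, 1, 3, 0], [3, 1, 0, 2], [3, 1, 2, 0]]

theorem symOK : symSearch chevD4 syms chevD4.rank [] = true := by decide +kernel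

theorem graphOK : (syms.all fun l => graphCheck chevD4 fast.cor (fun j => l.getD j 0)) = true := by
  decide +kernel

theorem graphAut {F : Type*} [Field F] (π : Equiv.Perm (Fin chevD4.rank))
    (hπ : chevD4.IsDiagramSymmetry π) (φ : ↥(chevD4.group F) ≃* ↥(chevD4.group F))
    (hφ : ∀ (g : ↥(chevD4.group F)) (i : Fin chevD4.rank) (t : F),
      (((g : GL chevD4.Idx F) : Matrix chevD4.Idx chevD4.Idx F) = chevD4.x F (chevD4.simple i) t →
        ((φ g : GL chevD4.Idx F) : Matrix chevD4.Idx chevD4.Idx F) = chevD4.x F (chevD4.simple (π i)) t) ∧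
      (((g : GL chevD4.Idx F) : Matrix chevD4.Idx chevD4.Idx F) = chevD4.x F (chevD4.neg (chevD4.simple i)) t →
        ((φ g : GL chevD4.Idx F) : Matrix chevD4.Idx chevD4.Idx F) = chevD4.x F (chevD4.neg (chevD4.simple (π i))) t))
    (r : ℕ) (hr : r < chevD4.nroots) :
    ∃ ε : F, (ε = 1 ∨ ε = -1) ∧ ∀ (g : ↥(chevD4.group F)) (t : F),
      ((g : GL chevD4.Idx F) : Matrix chevD4.Idx chevD4.Idx F) = chevD4.x F r t →
        ((φ g : GL chevD4.Idx F) : Matrix chevD4.Idx chevD4.Idx F) = chevD4.x F (chevD4.permRoot π r) (ε * t) :=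
  graphAut_of_checks chevD4 fast valid (pk8 levP) (pk8 parJP) (pk8 parSP) genOK reflHyp
    (invHyp_of_invAll chevD4 tab.col colValid invOK) simple_lt syms symOK graphOK π hπ φ hφ r hr

end Cfsg.Agent.Lib.helper41.TabD4
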