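import Cfsg.Agent.Lib.helper41.ChevOrder
import Cfsg.Agent.Lib.helper41.ChevWeylE6
import Cfsg.Agent.Lib.helper22.ChevBNCertE6
import Cfsg.Agent.S1035
import Cfsg.Agent.S1036
import Cfsg.Agent.S1041
import Cfsg.Agent.S1043

/-! The order of the Chevalley group of type E6 over a finite field. -/

set_option autoImplicit false
set_option maxRecDepth 100000

namespace Cfsg.Agent.Lib.helper41.TabE6

open Cfsg.Lie Cfsg.Agent.Lib.helper41 Cfsg.Agent.Lib.helper22

theorem linkOK : (allBelow 6 fun i => Nat.beq (rootTab.simple i) (chevE6.simple i) &&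
    allBelow 72 fun r => Nat.beq (rootTab.rf i r) (chevE6.reflectRoot i r)) = true := by decide +kernel

/-- the Weyl group data on the root indices of `chevE6` -/
noncomputable def weylD : WeylData chevE6.nroots chevE6.rank := weylData

theorem wlink : WLink chevE6 weylD where
  σ i r := by
    have h := (allBelow_iff _ _).mp linkOK i.val i.isLt
    rw [Bool.and_eq_true] at h
    exact Nat.eq_of_beq_eq_true ((allBelow_iff _ _).mp h.2 r.val r.isLt)
  pos _ := Iff.rfl
  simple i := by
    have h := (allBelow_iff _ _).mp linkOK i.val i.isLt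
    rw [Bool.and_eq_true] at h
    exact Nat.eq_of_beq_eq_true h.1

theorem mem_list : chevE6 ∈ [chevG2, chevB2, chevD4, chevF4, chevE6, chevE7, chevE8] := by simp

/-- `|G| = q^N |H| ∏ (1 + q + ⋯ + q^{d_i - 1})` -/
theorem card_group {F : Type*} [Field F] [Fintype F] :
    Nat.card (chevE6.group F) = Fintype.card F ^ 36 * Nat.card (chevE6.diagonalSubgroup F) *
      ((∑ j ∈ Finset.range 2, Fintype.card F ^ j) * (∑ j ∈ Finset.range 5, Fintype.card F ^ j) * (∑ j ∈ Finset.range 6, Fintype.card F ^ j) * (∑ j ∈ Finset.range 8, Fintype.card F ^ j) * (∑ j ∈ Finset.range 9, Fintype.card F ^ j) * (∑ j ∈ Finset.range 12, Fintype.card F ^ j)) := by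
  obtain ⟨hBG, hNG, hG⟩ := Cfsg.Agent.S1043.result (F := F) chevE6 mem_list
  have hpn := Cfsg.Agent.S1041.posNegOK_spec chevE6 (Cfsg.Agent.S1041.posNegOK_all chevE6 mem_list)
  have hN := negOK_of_triOK chevE6 (triOK_all chevE6 mem_list)
  have hp : PrimHyp chevE6 F := fun r hr δ h =>
    prim_of_corGcd chevE6 r (ordOK_spec chevE6 ordOK_E6 r hr).2.2 δ h
  have h := card_group_formula (bnInput_E6 F) hp wlink hpn hN hBG hNG hG.ge
    (Cfsg.Agent.S1036.result (F := F) chevE6 mem_list).2
  have h2 : weylD.poin Set.univ (Fintype.card F) = _ := poincare (Fintype.card F)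
  rw [h, h2]
  rfl

/-- the order formula of the Chevalley group of type E6 -/
theorem order_formula {F : Type*} [Field F] [Fintype F] :
    Nat.gcd 3 (Fintype.card F - 1) * Nat.card (chevE6.group F) =
      Fintype.card F ^ 36 * (Fintype.card F ^ 2 - 1) * (Fintype.card F ^ 5 - 1) * (Fintype.card F ^ 6 - 1) * (Fintype.card F ^ 8 - 1) * (Fintype.card F ^ 9 - 1) * (Fintype.card F ^ 12 - 1) := by
  have hH : Nat.gcd 3 (Fintype.card F - 1) * Nat.card (chevE6.diagonalSubgroup F) = (Fintype.card F - 1) ^ 6 :=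
    Cfsg.Agent.S1035.result (F := F) rfl (chevE6, Nat.gcd 3 (Fintype.card F - 1)) (List.mem_cons_of_mem _ (List.mem_cons_of_mem _ (List.mem_cons_of_mem _ (List.mem_cons_self))))
  have hq1 : 1 ≤ Fintype.card F := Fintype.card_pos
  rw [card_group, ← pred_mul_geom (Fintype.card F) 2 hq1, ← pred_mul_geom (Fintype.card F) 5 hq1, ← pred_mul_geom (Fintype.card F) 6 hq1, ← pred_mul_geom (Fintype.card F) 8 hq1, ← pred_mul_geom (Fintype.card F) 9 hq1, ← pred_mul_geom (Fintype.card F) 12 hq1]
  generalize Nat.card (chevE6.diagonalSubgroup F) = h at hH ⊢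
  generalize Fintype.card F - 1 = a at hH ⊢
  have key : ∀ (e x P : ℕ), e * (x * h * P) = x * (e * h) * P := fun e x P => by ring
  rw [key, hH]
  ring

end Cfsg.Agent.Lib.helper41.TabE6
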