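import Cfsg.Agent.Lib.helper41.ChevOrderG2
import Cfsg.Agent.Lib.helper41.ChevOrderB2
import Cfsg.Agent.Lib.helper41.ChevOrderD4
import Cfsg.Agent.Lib.helper41.ChevOrderF4
import Cfsg.Agent.Lib.helper41.ChevOrderE6
import Cfsg.Agent.Lib.helper41.ChevOrderE7
import Cfsg.Agent.Lib.helper41.ChevOrderE8
import Cfsg.Agent.Lib.helper22.ChevBNAll

/-!
All the facts about the seven tabulated Chevalley data used by the structure theory, in one
package: the `BN` input, primitivity of the coroots, the Weyl group data on the root indices,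
and the Bruhat decomposition.
-/

set_option autoImplicit false

namespace Cfsg.Agent.Lib.helper41

open Cfsg.Lie Cfsg.Agent.Lib.helper22

universe u

/-- the facts about a Chevalley datum over a field used by the structure theory -/
structure ChevPkg (D : ChevalleyDatum) (F : Type u) [Field F] where
  η : ℕ → ℕ → ℤ
  I : BNInput D F η
  hp : PrimHyp D F
  A : WeylData D.nroots D.rank
  hA : WLink D A
  hpn : ∀ r, r < D.nroots → D.IsPosRoot r ∨ D.IsNegRoot r
  hN : ∀ r, D.IsNegRoot r → NegOK D r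
  hBG : D.borelSubgroup F ≤ D.group F
  hNG : D.monomialSubgroup F ≤ D.group F
  hG : D.group F ≤ D.borelSubgroup F ⊔ D.monomialSubgroup F
  hUH : D.posUnipotent F ⊓ D.diagonalSubgroup F = ⊥

theorem wlink_all (D : ChevalleyDatum)
    (hD : D ∈ [chevG2, chevB2, chevD4, chevF4, chevE6, chevE7, chevE8]) :
    ∃ A : WeylData D.nroots D.rank, WLink D A := by
  simp only [List.mem_cons, List.not_mem_nil, or_false] at hD
  rcases hD with rfl | rfl | rfl | rfl | rfl | rfl | rfl
  · exact ⟨_, TabG2.wlink⟩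
  · exact ⟨_, TabB2.wlink⟩
  · exact ⟨_, TabD4.wlink⟩
  · exact ⟨_, TabF4.wlink⟩
  · exact ⟨_, TabE6.wlink⟩
  · exact ⟨_, TabE7.wlink⟩
  · exact ⟨_, TabE8.wlink⟩

theorem primHyp_all (D : ChevalleyDatum)
    (hD : D ∈ [chevG2, chevB2, chevD4, chevF4, chevE6, chevE7, chevE8]) (F : Type u) [Field F] :
    PrimHyp D F := fun r hr δ h =>
  prim_of_corGcd D r (ordOK_spec D (ordOK_all D hD).1 r hr).2.2 δ h

theorem chevPkg_all (D : ChevalleyDatum)
    (hD : D ∈ [chevG2, chevB2, chevD4, chevF4, chevE6, chevE7, chevE8]) (F : Type u) [Field F] :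
    Nonempty (ChevPkg D F) := by
  obtain ⟨η, I⟩ := bnInput_all D hD F
  obtain ⟨A, hA⟩ := wlink_all D hD
  obtain ⟨hBG, hNG, hG⟩ := Cfsg.Agent.S1043.result (F := F) D hD
  exact ⟨⟨η, I, primHyp_all D hD F, A, hA,
    Cfsg.Agent.S1041.posNegOK_spec D (Cfsg.Agent.S1041.posNegOK_all D hD),
    negOK_of_triOK D (triOK_all D hD), hBG, hNG, hG.ge,
    (Cfsg.Agent.S1036.result (F := F) D hD).2⟩⟩

/-- `|H|` divides `(q - 1)^l` -/
theorem diag_card_all (D : ChevalleyDatum)
    (hD : D ∈ [chevG2, chevB2, chevD4, chevF4, chevE6, chevE7, chevE8]) (F : Type u) [Field F]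
    [Fintype F] :
    ∃ d, d * Nat.card (D.diagonalSubgroup F) = (Fintype.card F - 1) ^ D.rank := by
  simp only [List.mem_cons, List.not_mem_nil, or_false] at hD
  rcases hD with rfl | rfl | rfl | rfl | rfl | rfl | rfl
  · exact ⟨_, Cfsg.Agent.S1035.result (F := F) rfl (chevG2, 1) (by simp)⟩
  · exact ⟨_, Cfsg.Agent.S1035.result (F := F) rfl (chevB2, Nat.gcd 2 (Fintype.card F - 1)) (by simp)⟩
  · exact ⟨_, Cfsg.Agent.S1035.result (F := F) rfl (chevD4, Nat.gcd 2 (Fintype.card F - 1) ^ 2) (by simp)⟩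
  · exact ⟨_, Cfsg.Agent.S1035.result (F := F) rfl (chevF4, 1) (by simp)⟩
  · exact ⟨_, Cfsg.Agent.S1035.result (F := F) rfl (chevE6, Nat.gcd 3 (Fintype.card F - 1)) (by simp)⟩
  · exact ⟨_, Cfsg.Agent.S1035.result (F := F) rfl (chevE7, Nat.gcd 2 (Fintype.card F - 1)) (by simp)⟩
  · exact ⟨_, Cfsg.Agent.S1035.result (F := F) rfl (chevE8, 1) (by simp)⟩

end Cfsg.Agent.Lib.helper41
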