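/-
helper41: the centre of a Chevalley group (of one of the seven tabulated types, over any field) is
trivial.
-/
import Cfsg.Agent.Lib.helper41.ChevAll
import Cfsg.Agent.Lib.helper23.ChevNormal

set_option autoImplicit false

namespace Cfsg.Agent.Lib.helper41

open Cfsg.Lie Cfsg.Agent.Lib.helper22

universe u

theorem center_group_eq_bot (D : ChevalleyDatum)
    (hD : D ∈ [chevG2, chevB2, chevD4, chevF4, chevE6, chevE7, chevE8]) (K : Type u) [Field K] :
    Subgroup.center ↥(D.group K) = ⊥ := by
  rcases Cfsg.Agent.Lib.helper23.chev_normal_dichotomy (F := K) D hD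
    (Subgroup.center ↥(D.group K)) with h | h
  · exact h
  · exfalso
    obtain ⟨B', hB'⟩ : ∃ B' : Subgroup ↥(D.group K),
        B' = (D.borelSubgroup K).subgroupOf (D.group K) := ⟨_, rfl⟩
    rw [← hB'] at h
    have hnorm : B'.Normal := by
      constructor
      intro n hn g
      have hg : g ∈ Subgroup.center ↥(D.group K) ⊔ B' := by
        rw [h]
        exact Subgroup.mem_top g
      rw [← SetLike.mem_coe, Subgroup.normal_mul] at hg
      obtain ⟨z, hz, b, hb, rfl⟩ := Set.mem_mul.mp hg
      have hz' := Subgroup.mem_center_iff.mp hz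
      have e : z * b * n * (z * b)⁻¹ = b * n * b⁻¹ := by
        calc z * b * n * (z * b)⁻¹ = z * (b * n * b⁻¹) * z⁻¹ := by group
          _ = (b * n * b⁻¹) * z * z⁻¹ := by rw [hz' (b * n * b⁻¹)]
          _ = _ := by group
      rw [e]
      exact mul_mem (mul_mem hb hn) (inv_mem hb)
    have hcore : B'.normalCore = ⊥ := by
      rw [hB']
      exact Cfsg.Agent.S1051.result D hD
    have hB : B' = ⊥ := by
      rw [← hcore]
      exact (Subgroup.normalCore_eq_self B').symm
    obtain ⟨C⟩ := chevPkg_all D hD K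
    have hrank : 0 < D.rank := by
      simp only [List.mem_cons, List.not_mem_nil, or_false] at hD
      rcases hD with rfl | rfl | rfl | rfl | rfl | rfl | rfl <;> decide
    have hN := C.I.hNorm
    unfold simpleNormOK at hN
    rw [List.all_eq_true] at hN
    have hN1 := hN 0 (List.mem_range.mpr hrank)
    rw [Bool.and_eq_true, decide_eq_true_eq] at hN1
    obtain ⟨hp1, hp2⟩ := (C.I.hU.pos_iff _).mp hN1.1
    obtain ⟨g, hg1, hg2⟩ := exists_xGL C.I hp2 (1 : K)
    have hgU := hg2 hp1
    have hgG : g ∈ D.group K := C.hBG (Subgroup.mem_sup_left hgU)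
    have hmem : (⟨g, hgG⟩ : ↥(D.group K)) ∈ B' := by
      rw [hB']
      exact Subgroup.mem_subgroupOf.mpr (Subgroup.mem_sup_left hgU)
    rw [hB, Subgroup.mem_bot] at hmem
    have hg1' : g = 1 := congrArg Subtype.val hmem
    have e1 : D.x K (D.simple 0) 1 = 1 := by
      rw [← hg1, hg1', Units.val_one]
    exact one_ne_zero (x_eq_one_all C.I C.hp hp2 e1)

end Cfsg.Agent.Lib.helper41
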