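/-
helper41: table checks behind Steinberg's presentation of the Chevalley groups: the negative root
subgroups other than `X_{-p}` are normalised by `X_p` and `X_{-p}` (`p` fundamental), and for each
fundamental root `p` a pair of roots whose commutator word contains `p` with coefficient `±1`.
-/
import Cfsg.Prelude.Def_ChevStructure

set_option autoImplicit false

namespace Cfsg.Agent.Lib.helper41

open Cfsg.Lie

/-- the check: for the `i`-th fundamental root `p` and a negative root `s ≠ -p`, the terms of the
commutator words of `(p, s)` and `(-p, s)` are negative roots other than `-p` -/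
def negNormRow (D : ChevalleyDatum) (i : ℕ) : Bool :=
  (List.range (D.nroots / 2)).all fun s =>
    decide (s = D.neg (D.simple i)) ||
      ((D.commTerms (D.simple i) s).all (fun c =>
          decide (c.1 < D.nroots / 2) && decide (c.1 ≠ D.neg (D.simple i))) &&
        (D.commTerms (D.neg (D.simple i)) s).all (fun c =>
          decide (c.1 < D.nroots / 2) && decide (c.1 ≠ D.neg (D.simple i))))

theorem negNormRow_spec {D : ChevalleyDatum} {i : ℕ} (h : negNormRow D i = true) (s : ℕ)
    (hs : s < D.nroots / 2) (hne : s ≠ D.neg (D.simple i)) :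
    (∀ c ∈ D.commTerms (D.simple i) s, c.1 < D.nroots / 2 ∧ c.1 ≠ D.neg (D.simple i)) ∧
    (∀ c ∈ D.commTerms (D.neg (D.simple i)) s, c.1 < D.nroots / 2 ∧ c.1 ≠ D.neg (D.simple i)) := by
  unfold negNormRow at h
  rw [List.all_eq_true] at h
  have h1 := h s (List.mem_range.mpr hs)
  simp only [Bool.or_eq_true, decide_eq_true_eq, Bool.and_eq_true, List.all_eq_true] at h1
  rcases h1 with h1 | ⟨h1, h2⟩
  · exact absurd h1 hne
  · exact ⟨fun c hc => h1 c hc, fun c hc => h2 c hc⟩

/-- the roots `p_j` and the negative roots other than `-p_j` -/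
def InT (D : ChevalleyDatum) (j s : ℕ) : Prop :=
  s = D.simple j ∨ (s < D.nroots / 2 ∧ s ≠ D.neg (D.simple j))

instance instDecidableInT (D : ChevalleyDatum) (j s : ℕ) : Decidable (InT D j s) :=
  inferInstanceAs (Decidable (_ ∨ _))

/-- a witness for the `k`-th fundamental root `p`: the commutator word of the roots `(b, g)` has the
term `p` at position `m`, with coefficient `c0 = ±1` and exponents `(i0, j0)`, one of them `1`;
the other terms are mapped by the reflection `w_p` to roots of `InT D j`, and so are the terms of the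
commutator word of `(w_p b, w_p g)` -/
def WitP (D : ChevalleyDatum) (k j b g m : ℕ) (c0 : ℤ) (i0 j0 : ℕ) : Prop :=
  j < D.rank ∧ b < D.nroots ∧ g < D.nroots ∧ g ≠ b ∧ g ≠ D.neg b ∧
  b ≠ D.simple k ∧ b ≠ D.neg (D.simple k) ∧ g ≠ D.simple k ∧ g ≠ D.neg (D.simple k) ∧
  D.reflectRoot k g ≠ D.reflectRoot k b ∧ D.reflectRoot k g ≠ D.neg (D.reflectRoot k b) ∧
  D.neg (D.simple k) ≠ D.neg (D.simple j) ∧
  (D.commTerms b g)[m]? = some (D.simple k, c0, i0, j0) ∧ (c0 = 1 ∨ c0 = -1) ∧ (i0 = 1 ∨ j0 = 1) ∧
  (∀ c ∈ (D.commTerms b g).take m ++ (D.commTerms b g).drop (m + 1),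
    c.1 < D.nroots ∧ c.1 ≠ D.simple k ∧ c.1 ≠ D.neg (D.simple k) ∧ InT D j (D.reflectRoot k c.1)) ∧
  (∀ c ∈ D.commTerms (D.reflectRoot k b) (D.reflectRoot k g), InT D j c.1)

instance instDecidableWitP (D : ChevalleyDatum) (k j b g m : ℕ) (c0 : ℤ) (i0 j0 : ℕ) :
    Decidable (WitP D k j b g m c0 i0 j0) :=
  inferInstanceAs (Decidable (_ ∧ _))

theorem list_split_getElem? {α : Type*} (l : List α) (m : ℕ) (x : α) (h : l[m]? = some x) :
    l = l.take m ++ x :: l.drop (m + 1) := by
  induction l generalizing m with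
  | nil => simp at h
  | cons a l ih =>
    cases m with
    | zero =>
      simp at h
      subst h
      simp
    | succ m =>
      simp at h
      simp only [List.take_succ_cons, List.drop_succ_cons, List.cons_append]
      rw [← ih m h]

/-- the table checks for a datum -/
structure StTab (D : ChevalleyDatum) : Prop where
  norm : ∀ i, i < D.rank → negNormRow D i = true
  wit : ∀ k, k < D.rank → ∃ (j b g m : ℕ) (c0 : ℤ) (i0 j0 : ℕ), WitP D k j b g m c0 i0 j0

end Cfsg.Agent.Lib.helper41
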