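/-
helper41: Steinberg's presentation.  A group `Γ` with elements `X r t` satisfying the relations (R1)
and (R2) and a homomorphism `θ` to the Chevalley group with `θ (X r t) = x_r(t)`: `θ` is injective
on the subgroups generated by the positive, and by the negative, root elements.
-/
import Cfsg.Agent.Lib.helper41.ChevAll
import Cfsg.Agent.Lib.helper41.StTab
import Cfsg.Agent.Lib.helper22.TwRoot

set_option autoImplicit false

namespace Cfsg.Agent.Lib.helper41

open Cfsg.Lie Cfsg.Agent.Lib.helper22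

universe u

/-- a group with elements `X r t` satisfying Steinberg's relations (R1) and (R2), mapped to the
Chevalley group by `X r t ↦ x_r(t)` -/
structure StData (D : ChevalleyDatum) (K : Type u) [Field K] (Γ : Type u) [Group Γ] where
  X : ℕ → K → Γ
  θ : Γ →* GL D.Idx K
  add : ∀ (r : ℕ) (t u : K), X r (t + u) = X r t * X r u
  comm : ∀ r s, r < D.nroots → s < D.nroots → s ≠ r → s ≠ D.neg r → ∀ t u : K,
    X s u * X r t = X r t * X s u * ((D.commWord K r s t u).map fun p => X p.1 p.2).prod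
  θX : ∀ (r : ℕ) (t : K), r < D.nroots →
    ((θ (X r t) : GL D.Idx K) : Matrix D.Idx D.Idx K) = D.x K r t
  gen : Subgroup.closure {g : Γ | ∃ (r : ℕ) (t : K), r < D.nroots ∧ g = X r t} = ⊤

/-- the subgroup of `GL` generated by the `x_r(t)`, `r` in a set of roots -/
def gcl (D : ChevalleyDatum) (K : Type u) [Field K] (P : ℕ → Prop) : Subgroup (GL D.Idx K) :=
  Subgroup.closure {g : GL D.Idx K | ∃ (r : ℕ) (t : K), P r ∧
    (g : Matrix D.Idx D.Idx K) = D.x K r t}

/-- the conditions under which `X_a` normalises the subgroup generated by the `X_b`, `P b` -/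
def NormCond (D : ChevalleyDatum) (a : ℕ) (P : ℕ → Prop) : Prop :=
  a < D.nroots ∧ ∀ b, P b → b < D.nroots ∧ b ≠ a ∧ b ≠ D.neg a ∧ ∀ c ∈ D.commTerms a b, P c.1

/-- the positive roots -/
def PosR (D : ChevalleyDatum) (r : ℕ) : Prop := D.nroots / 2 ≤ r ∧ r < D.nroots

/-- the negative roots -/
def NegR (D : ChevalleyDatum) (r : ℕ) : Prop := r < D.nroots / 2

namespace StData

variable {D : ChevalleyDatum} {K : Type u} [Field K] {Γ : Type u} [Group Γ] (S : StData D K Γ)

theorem X_zero (r : ℕ) : S.X r 0 = 1 := by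
  have h := S.add r 0 0
  rw [add_zero] at h
  have h2 : S.X r 0 * 1 = S.X r 0 * S.X r 0 := by rw [mul_one]; exact h
  exact (mul_left_cancel h2).symm

theorem X_neg (r : ℕ) (t : K) : S.X r (-t) = (S.X r t)⁻¹ := by
  apply eq_inv_of_mul_eq_one_left
  rw [← S.add, neg_add_cancel, S.X_zero]

/-- the product of a word -/
def W (w : List (ℕ × K)) : Γ := (w.map fun p => S.X p.1 p.2).prod

theorem W_nil : S.W [] = 1 := by
  unfold W
  rw [List.map_nil, List.prod_nil]

theorem W_cons (p : ℕ × K) (w : List (ℕ × K)) : S.W (p :: w) = S.X p.1 p.2 * S.W w := by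
  unfold W
  rw [List.map_cons, List.prod_cons]

theorem W_append (w₁ w₂ : List (ℕ × K)) : S.W (w₁ ++ w₂) = S.W w₁ * S.W w₂ := by
  unfold W
  rw [List.map_append, List.prod_append]

theorem comm' {r s : ℕ} (hr : r < D.nroots) (hs : s < D.nroots) (h1 : s ≠ r) (h2 : s ≠ D.neg r)
    (t u : K) : S.X s u * S.X r t = S.X r t * S.X s u * S.W (D.commWord K r s t u) :=
  S.comm r s hr hs h1 h2 t u

/-- the subgroup generated by the `X r t`, `r` in a set of roots -/
def cl (P : ℕ → Prop) : Subgroup Γ :=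
  Subgroup.closure {g : Γ | ∃ (r : ℕ) (t : K), P r ∧ g = S.X r t}

theorem X_mem_cl {P : ℕ → Prop} {r : ℕ} (hr : P r) (t : K) : S.X r t ∈ S.cl P :=
  Subgroup.subset_closure ⟨r, t, hr, rfl⟩

theorem cl_mono {P Q : ℕ → Prop} (h : ∀ r, P r → Q r) : S.cl P ≤ S.cl Q :=
  Subgroup.closure_mono (by rintro g ⟨r, t, hr, rfl⟩; exact ⟨r, t, h r hr, rfl⟩)

theorem W_mem_cl {P : ℕ → Prop} (w : List (ℕ × K)) (hw : ∀ q ∈ w, P q.1) : S.W w ∈ S.cl P := by
  induction w with
  | nil => rw [W_nil]; exact one_mem _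
  | cons q w ih =>
    rw [W_cons]
    exact mul_mem (S.X_mem_cl (hw q List.mem_cons_self) _)
      (ih fun q' hq' => hw q' (List.mem_cons_of_mem _ hq'))

theorem commWord_mem_cl {P : ℕ → Prop} {r s : ℕ} (h : ∀ c ∈ D.commTerms r s, P c.1) (t u : K) :
    S.W (D.commWord K r s t u) ∈ S.cl P := by
  apply S.W_mem_cl
  intro q hq
  unfold ChevalleyDatum.commWord at hq
  rw [List.mem_map] at hq
  obtain ⟨c, hc, rfl⟩ := hq
  exact h c hc

theorem conj_inv_mem {a : ℕ} {P : ℕ → Prop} (h : NormCond D a P) (t : K) :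
    ∀ x ∈ S.cl P, (S.X a t)⁻¹ * x * S.X a t ∈ S.cl P := by
  have key := conj_mem_closure {g : Γ | ∃ (r : ℕ) (t : K), P r ∧ g = S.X r t} (S.X a t)⁻¹ (by
    rintro x ⟨b, u, hb, rfl⟩
    obtain ⟨hb1, hb2, hb3, hb4⟩ := h.2 b hb
    have e := S.comm' h.1 hb1 hb2 hb3 t u
    have e2 : (S.X a t)⁻¹ * S.X b u * (S.X a t)⁻¹⁻¹ = S.X b u * S.W (D.commWord K a b t u) := by
      rw [inv_inv, mul_assoc, e, mul_assoc, inv_mul_cancel_left]
    rw [e2]
    exact mul_mem (S.X_mem_cl hb u) (S.commWord_mem_cl hb4 t u))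
  intro x hx
  have h2 := key x hx
  rwa [inv_inv] at h2

theorem conj_mem {a : ℕ} {P : ℕ → Prop} (h : NormCond D a P) (t : K) :
    ∀ x ∈ S.cl P, S.X a t * x * (S.X a t)⁻¹ ∈ S.cl P := by
  intro x hx
  have h2 := S.conj_inv_mem h (-t) x hx
  rwa [S.X_neg, inv_inv] at h2

theorem cl_decomp {a : ℕ} {P : ℕ → Prop} (h : NormCond D a P) :
    ∀ g ∈ S.cl (fun r => r = a ∨ P r), ∃ (t : K) (x : Γ), x ∈ S.cl P ∧ g = S.X a t * x := by
  intro g hg
  change g ∈ Subgroup.closure {g : Γ | ∃ (r : ℕ) (t : K), (r = a ∨ P r) ∧ g = S.X r t} at hg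
  induction hg using Subgroup.closure_induction with
  | mem g hg =>
    obtain ⟨r, t, hr, rfl⟩ := hg
    rcases hr with hr | hr
    · rw [hr]
      exact ⟨t, 1, one_mem _, (mul_one _).symm⟩
    · exact ⟨0, S.X r t, S.X_mem_cl hr t, by rw [S.X_zero, one_mul]⟩
  | one => exact ⟨0, 1, one_mem _, by rw [S.X_zero, one_mul]⟩
  | mul x y _ _ hx hy =>
    obtain ⟨t1, x1, hx1, rfl⟩ := hx
    obtain ⟨t2, x2, hx2, rfl⟩ := hy
    refine ⟨t1 + t2, (S.X a t2)⁻¹ * x1 * S.X a t2 * x2,
      mul_mem (S.conj_inv_mem h t2 x1 hx1) hx2, ?_⟩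
    rw [S.add]
    group
  | inv x _ hx =>
    obtain ⟨t, x1, hx1, rfl⟩ := hx
    refine ⟨-t, (S.X a (-t))⁻¹ * x1⁻¹ * S.X a (-t), S.conj_inv_mem h (-t) _ (inv_mem hx1), ?_⟩
    rw [S.X_neg]
    group

theorem θ_mem_gcl {P : ℕ → Prop} (hP : ∀ r, P r → r < D.nroots) :
    ∀ g ∈ S.cl P, S.θ g ∈ gcl D K P := by
  intro g hg
  have h1 : S.cl P ≤ (gcl D K P).comap S.θ := by
    unfold cl
    rw [Subgroup.closure_le]
    rintro x ⟨r, t, hr, rfl⟩
    show S.θ (S.X r t) ∈ gcl D K P
    exact Subgroup.subset_closure ⟨r, t, hr, S.θX r t (hP r hr)⟩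
  exact h1 hg

/-- `θ` is injective on the subgroup generated by the `X r t`, `P r` -/
def Inj (P : ℕ → Prop) : Prop := ∀ g ∈ S.cl P, S.θ g = 1 → g = 1

theorem inj_eq {P : ℕ → Prop} (h : S.Inj P) {a b : Γ} (ha : a ∈ S.cl P) (hb : b ∈ S.cl P)
    (hab : S.θ a = S.θ b) : a = b := by
  have h1 := h (a⁻¹ * b) (mul_mem (inv_mem ha) hb)
    (by rw [map_mul, map_inv, hab, inv_mul_cancel])
  exact inv_mul_eq_one.mp h1

theorem inj_step {a : ℕ} {P : ℕ → Prop} (h : NormCond D a P) (hinj : S.Inj P)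
    (hsep : ∀ (t : K) (g : GL D.Idx K), g ∈ gcl D K P →
      (g : Matrix D.Idx D.Idx K) = D.x K a t → t = 0) :
    S.Inj (fun r => r = a ∨ P r) := by
  intro g hg hθ
  obtain ⟨t, x, hx, rfl⟩ := S.cl_decomp h g hg
  rw [map_mul] at hθ
  have h1 : S.θ (S.X a t) = (S.θ x)⁻¹ := eq_inv_of_mul_eq_one_left hθ
  have h2 : (S.θ x)⁻¹ ∈ gcl D K P := inv_mem (S.θ_mem_gcl (fun r hr => (h.2 r hr).1) x hx)
  have ht : t = 0 := hsep t _ h2 (by rw [← h1]; exact S.θX a t h.1)
  subst ht
  have hx1 : S.θ x = 1 := by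
    rw [S.X_zero, map_one, one_mul] at hθ
    exact hθ
  rw [S.X_zero, one_mul]
  exact hinj x hx hx1

end StData

section Sep

variable {D : ChevalleyDatum} {K : Type u} [Field K]

theorem gsep_pos {η : ℕ → ℕ → ℤ} (I : BNInput D K η) (hp : PrimHyp D K) {m : ℕ}
    (hm1 : D.nroots / 2 ≤ m) (hm : m < D.nroots) :
    ∀ (t : K) (g : GL D.Idx K), g ∈ gcl D K (fun r => m + 1 ≤ r ∧ r < D.nroots) →
      (g : Matrix D.Idx D.Idx K) = D.x K m t → t = 0 := by
  have hcol : ∀ g : GL D.Idx K, g ∈ gcl D K (fun r => m + 1 ≤ r ∧ r < D.nroots) →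
      ColOK D (D.neg m) (g : Matrix D.Idx D.Idx K) := by
    intro g hg
    change g ∈ Subgroup.closure {g : GL D.Idx K | ∃ (r : ℕ) (t : K),
        (m + 1 ≤ r ∧ r < D.nroots) ∧ (g : Matrix D.Idx D.Idx K) = D.x K r t} at hg
    induction hg using Subgroup.closure_induction'' with
    | mem x hx =>
      obtain ⟨r, u, ⟨hr1, hr2⟩, hx⟩ := hx
      rw [hx]
      have h1 := I.hU.negrev r hr2
      have h2 := I.hU.negrev m hm
      exact colOK_x hr2 (I.hU.posOK r (by omega) hr2) (by omega) u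
    | inv_mem x hx =>
      obtain ⟨r, u, ⟨hr1, hr2⟩, hx⟩ := hx
      have e : ((x⁻¹ : GL D.Idx K) : Matrix D.Idx D.Idx K) = D.x K r (-u) :=
        gl_inv_eq (by rw [hx, x_mul_neg I.hSD'])
      rw [e]
      have h1 := I.hU.negrev r hr2
      have h2 := I.hU.negrev m hm
      exact colOK_x hr2 (I.hU.posOK r (by omega) hr2) (by omega) (-u)
    | one => rw [Units.val_one]; exact colOK_one _
    | mul x y _ _ hx hy => rw [Units.val_mul]; exact hx.mul hy
  intro t g hg hgt
  apply hp m hm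
  intro j
  have e := (hcol g hg ⟨D.neg m, I.neg_lt hm⟩ (le_refl _)).1 j
  rw [hgt, x_entry_neg I hm] at e
  exact e

/-- `M` maps the span of the `e_s`, `s ≤ c`, into itself -/
def ColOKn (D : ChevalleyDatum) {K : Type u} [Field K] (c : ℕ) (M : Matrix D.Idx D.Idx K) : Prop :=
  ∀ s : Fin D.nroots, s.val ≤ c → (∀ j : Fin D.rank, M (Sum.inl j) (Sum.inr s) = 0) ∧
    ∀ u : Fin D.nroots, c < u.val → M (Sum.inr u) (Sum.inr s) = 0

theorem colOKn_one (c : ℕ) : ColOKn D c (1 : Matrix D.Idx D.Idx K) := by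
  intro s hs
  refine ⟨fun j => Matrix.one_apply_ne (by simp), fun u hu => Matrix.one_apply_ne ?_⟩
  intro h
  have := congrArg Fin.val (Sum.inr.inj h)
  omega

theorem ColOKn.mul {c : ℕ} {M N : Matrix D.Idx D.Idx K} (hM : ColOKn D c M) (hN : ColOKn D c N) :
    ColOKn D c (M * N) := by
  intro s hs
  have key : ∀ x : D.Idx, (∀ s' : Fin D.nroots, s'.val ≤ c → M x (Sum.inr s') = 0) →
      (M * N) x (Sum.inr s) = 0 := by
    intro x hx
    rw [Matrix.mul_apply]
    refine Finset.sum_eq_zero fun z _ => ?_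
    rcases z with j | u
    · rw [(hN s hs).1 j, mul_zero]
    · by_cases hu : c < u.val
      · rw [(hN s hs).2 u hu, mul_zero]
      · rw [hx u (by omega), zero_mul]
  exact ⟨fun j => key _ fun s' hs' => (hM s' hs').1 j,
    fun u hu => key _ fun s' hs' => (hM s' hs').2 u hu⟩

theorem colOKn_x {r : ℕ} (hr : r < D.nroots) (hP : NegOK D r) {c : ℕ} (hc : c < D.neg r) (a : K) :
    ColOKn D c (D.x K r a) := by
  rw [x_eq D K ⟨r, hr⟩]
  intro s hs
  constructor
  · intro j
    rw [xMat_inl_inr]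
    split_ifs with h1 h2
    · rfl
    · exfalso
      have h2' : s.val = D.neg r := h2
      omega
    · rfl
  · intro u hu
    rw [xMat_inr_inr]
    by_cases h1 : s = ⟨r, hr⟩
    · rw [if_pos h1, if_neg]
      intro h
      have e1 : u.val = r := congrArg Fin.val h
      have e2 : s.val = r := congrArg Fin.val h1
      have h3 := hP.1
      have h4 := hP.2.1
      omega
    · rw [if_neg h1]
      by_cases h2 : s.val = D.neg r
      · omega
      · have h2' : ¬ s.val = D.neg (⟨r, hr⟩ : Fin D.nroots).val := h2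
        rw [if_neg h2', if_neg (fun h => by rw [h] at hu; omega), zero_add]
        by_contra hne
        obtain ⟨e, he, hes, q, hq, hqu⟩ := chainCoeff_ne_nil D (sum_chainCoeff_ne_zero hne)
        have := hP.2.2 e he q hq
        omega

theorem gsep_neg {η : ℕ → ℕ → ℤ} (I : BNInput D K η) (hp : PrimHyp D K)
    (hN : ∀ r, r < D.nroots / 2 → NegOK D r) {m : ℕ} (hm1 : m < D.nroots / 2) :
    ∀ (t : K) (g : GL D.Idx K), g ∈ gcl D K (fun r => r < m) →
      (g : Matrix D.Idx D.Idx K) = D.x K m t → t = 0 := by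
  have he := I.hU.even
  have hm : m < D.nroots := by omega
  have hcol : ∀ g : GL D.Idx K, g ∈ gcl D K (fun r => r < m) →
      ColOKn D (D.neg m) (g : Matrix D.Idx D.Idx K) := by
    intro g hg
    change g ∈ Subgroup.closure {g : GL D.Idx K | ∃ (r : ℕ) (t : K),
        r < m ∧ (g : Matrix D.Idx D.Idx K) = D.x K r t} at hg
    induction hg using Subgroup.closure_induction'' with
    | mem x hx =>
      obtain ⟨r, u, hr1, hx⟩ := hx
      rw [hx]
      have hr2 : r < D.nroots := by omega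
      have h1 := I.hU.negrev r hr2
      have h2 := I.hU.negrev m hm
      exact colOKn_x hr2 (hN r (by omega)) (by omega) u
    | inv_mem x hx =>
      obtain ⟨r, u, hr1, hx⟩ := hx
      have e : ((x⁻¹ : GL D.Idx K) : Matrix D.Idx D.Idx K) = D.x K r (-u) :=
        gl_inv_eq (by rw [hx, x_mul_neg I.hSD'])
      rw [e]
      have hr2 : r < D.nroots := by omega
      have h1 := I.hU.negrev r hr2
      have h2 := I.hU.negrev m hm
      exact colOKn_x hr2 (hN r (by omega)) (by omega) (-u)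
    | one => rw [Units.val_one]; exact colOKn_one _
    | mul x y _ _ hx hy => rw [Units.val_mul]; exact hx.mul hy
  intro t g hg hgt
  apply hp m hm
  intro j
  have e := (hcol g hg ⟨D.neg m, I.neg_lt hm⟩ (le_refl _)).1 j
  rw [hgt, x_entry_neg I hm] at e
  exact e

theorem chainRoot_lt_of_negOK {r s i k : ℕ} (hr : NegOK D r) (h : D.chainRoot r s i = some k) :
    k < s := by
  unfold ChevalleyDatum.chainRoot at h
  rw [Option.map_eq_some_iff] at h
  obtain ⟨q, hq, rfl⟩ := h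
  have hq' : q ∈ D.chainEntry r s := List.mem_of_getElem? hq
  unfold ChevalleyDatum.chainEntry at hq'
  split at hq'
  · simp at hq'
  · rename_i e he
    have h1 := List.mem_of_find?_eq_some he
    have h2 := List.find?_some he
    have h3 : e.1 = s := by simpa using h2
    have := hr.2.2 e h1 q hq'
    omega

theorem commTerms_mem {r s : ℕ} {c : ℕ × ℤ × ℕ × ℕ} (hc : c ∈ D.commTerms r s) :
    D.chainRoot r s 1 = some c.1 ∨ D.chainRoot r s 2 = some c.1 ∨ D.chainRoot s r 2 = some c.1 ∨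
    D.chainRoot r s 3 = some c.1 ∨ D.chainRoot s r 3 = some c.1 ∨
    (∃ k, D.chainRoot r s 3 = some k ∧ D.chainRoot k s 1 = some c.1) ∨
    (∃ k, D.chainRoot s r 3 = some k ∧ D.chainRoot k r 1 = some c.1) := by
  unfold ChevalleyDatum.commTerms at hc
  simp only [List.mem_filterMap, List.mem_cons, List.not_mem_nil, or_false] at hc
  obtain ⟨cand, hcand, hmap⟩ := hc
  rw [Option.map_eq_some_iff] at hmap
  obtain ⟨k, hk, rfl⟩ := hmap
  rcases hcand with rfl | rfl | rfl | rfl | rfl | rfl | rfl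
  · exact Or.inl hk
  · exact Or.inr (Or.inl hk)
  · exact Or.inr (Or.inr (Or.inl hk))
  · exact Or.inr (Or.inr (Or.inr (Or.inl hk)))
  · exact Or.inr (Or.inr (Or.inr (Or.inr (Or.inl hk))))
  · rw [Option.bind_eq_some_iff] at hk
    exact Or.inr (Or.inr (Or.inr (Or.inr (Or.inr (Or.inl hk)))))
  · rw [Option.bind_eq_some_iff] at hk
    exact Or.inr (Or.inr (Or.inr (Or.inr (Or.inr (Or.inr hk)))))

theorem commTerms_lt_neg (hN : ∀ r, r < D.nroots / 2 → NegOK D r) {a b : ℕ}
    (ha : a < D.nroots / 2) (hb : b < a) : ∀ c ∈ D.commTerms a b, c.1 < a := by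
  intro c hc
  have hNa := hN a ha
  have hNb := hN b (by omega)
  rcases commTerms_mem hc with h | h | h | h | h | ⟨k, h1, h2⟩ | ⟨k, h1, h2⟩
  · have := chainRoot_lt_of_negOK hNa h
    omega
  · have := chainRoot_lt_of_negOK hNa h
    omega
  · exact chainRoot_lt_of_negOK hNb h
  · have := chainRoot_lt_of_negOK hNa h
    omega
  · exact chainRoot_lt_of_negOK hNb h
  · have hk := chainRoot_lt_of_negOK hNa h1
    have := chainRoot_lt_of_negOK (hN k (by omega)) h2
    omega
  · have hk := chainRoot_lt_of_negOK hNb h1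
    exact chainRoot_lt_of_negOK (hN k (by omega)) h2

end Sep

end Cfsg.Agent.Lib.helper41
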