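/-
helper41: Steinberg's presentation, continued.  The elements `n̄_p(t)` of a group with the relations
(R1), (R2) act on the elements `X s u` as the `n_p(t)` act on the root elements of the Chevalley group.
-/
import Cfsg.Agent.Lib.helper41.StPres

set_option autoImplicit false

namespace Cfsg.Agent.Lib.helper41

open Cfsg.Lie Cfsg.Agent.Lib.helper22

universe u

section Facts

variable {D : ChevalleyDatum} {K : Type u} [Field K]

theorem ChevPkg.negOK_lt (C : ChevPkg D K) (r : ℕ) (hr : r < D.nroots / 2) : NegOK D r := by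
  have he := C.I.hU.even
  have hr' : r < D.nroots := by omega
  rcases C.hpn r hr' with h | h
  · have := ((C.I.hU.pos_iff r).mp h).1
    omega
  · exact C.hN r h

theorem ChevPkg.isNeg_lt (C : ChevPkg D K) (r : ℕ) (hr : r < D.nroots / 2) : D.IsNegRoot r := by
  have he := C.I.hU.even
  have hr' : r < D.nroots := by omega
  rcases C.hpn r hr' with h | h
  · have := ((C.I.hU.pos_iff r).mp h).1
    omega
  · exact h

theorem simple_posR {η : ℕ → ℕ → ℤ} (I : BNInput D K η) {i : ℕ} (hi : i < D.rank) :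
    D.nroots / 2 ≤ D.simple i ∧ D.simple i < D.nroots := by
  have hN := I.hNorm
  unfold simpleNormOK at hN
  rw [List.all_eq_true] at hN
  have hN1 := hN i (List.mem_range.mpr hi)
  rw [Bool.and_eq_true, decide_eq_true_eq] at hN1
  exact (I.hU.pos_iff _).mp hN1.1

theorem simpleNorm_spec {η : ℕ → ℕ → ℤ} (I : BNInput D K η) {i : ℕ} (hi : i < D.rank) (s : ℕ)
    (hs1 : D.nroots / 2 ≤ s) (hs2 : s < D.nroots) (hsp : s ≠ D.simple i) :
    (∀ c ∈ D.commTerms (D.simple i) s,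
      D.nroots / 2 ≤ c.1 ∧ c.1 < D.nroots ∧ c.1 ≠ D.simple i) ∧
    (∀ c ∈ D.commTerms (D.neg (D.simple i)) s,
      D.nroots / 2 ≤ c.1 ∧ c.1 < D.nroots ∧ c.1 ≠ D.simple i) := by
  have hN := I.hNorm
  unfold simpleNormOK at hN
  rw [List.all_eq_true] at hN
  have hN1 := hN i (List.mem_range.mpr hi)
  rw [Bool.and_eq_true, decide_eq_true_eq, List.all_eq_true] at hN1
  have h1 := hN1.2 s (List.mem_range.mpr hs2)
  simp only [Bool.or_eq_true, decide_eq_true_eq, Bool.and_eq_true, List.all_eq_true] at h1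
  rcases h1 with h1 | h1 | ⟨h1, h2⟩
  · omega
  · exact absurd h1 hsp
  · exact ⟨fun c hc => by have := h1 c hc; exact ⟨this.1, this.2.1, this.2.2⟩,
      fun c hc => by have := h2 c hc; exact ⟨this.1, this.2.1, this.2.2⟩⟩

theorem reflectRoot_self (D : ChevalleyDatum) (k : ℕ) :
    D.reflectRoot k (D.simple k) = D.neg (D.simple k) := by
  unfold ChevalleyDatum.reflectRoot
  simp

theorem reflectRoot_neg_self (D : ChevalleyDatum) (k : ℕ) (h : D.neg (D.simple k) ≠ D.simple k) :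
    D.reflectRoot k (D.neg (D.simple k)) = D.simple k := by
  unfold ChevalleyDatum.reflectRoot
  simp [h]

theorem rootAct_nMat {η : ℕ → ℕ → ℤ} (I : BNInput D K η) {k : ℕ} (hk : k < D.rank) {t : K}
    (ht : t ≠ 0) : ∃ c : ℕ → K, RootAct D K (D.nMat K (D.simple k) t) (D.reflectRoot k) c := by
  obtain ⟨hp1, hp2⟩ := simple_posR I hk
  obtain ⟨S0, hS0⟩ := I.hSD ⟨D.simple k, hp2⟩
  have e : D.nMat K (D.simple k) t = D.hMat K (D.simple k) t * D.nMat K (D.simple k) 1 :=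
    nMat_eq_hMat_mul_nMat S0 t ht
  have e2 : ((sl2Hom S0 (sl2h t ht) : GL D.Idx K) : Matrix D.Idx D.Idx K) =
      D.hMat K (D.simple k) t := sl2Hom_sl2h S0 t ht
  have hh : sl2Hom S0 (sl2h t ht) ∈ torus D K :=
    diagonalSubgroup_le_torus I.hSD' (Subgroup.subset_closure ⟨D.simple k, t, hp2, ht, e2⟩)
  obtain ⟨c1, hc1⟩ := rootAct_torus I.hSD hh
  rw [e2] at hc1
  have h2 := hc1.mul (rootAct_simple I.R k hk)
  exact ⟨_, by rw [e]; exact h2⟩

end Facts

namespace StData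

variable {D : ChevalleyDatum} {K : Type u} [Field K] {Γ : Type u} [Group Γ] (S : StData D K Γ)

theorem inj_pos_tail (C : ChevPkg D K) : ∀ len m, m + len = D.nroots → D.nroots / 2 ≤ m →
    S.Inj (fun r => m ≤ r ∧ r < D.nroots) := by
  intro len
  induction len with
  | zero =>
    intro m hm _ g hg _
    have h1 : S.cl (fun r => m ≤ r ∧ r < D.nroots) ≤ ⊥ := by
      unfold cl
      rw [Subgroup.closure_le]
      rintro x ⟨r, t, ⟨h1, h2⟩, rfl⟩
      exact absurd h2 (by omega)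
    exact Subgroup.mem_bot.mp (h1 hg)
  | succ len ih =>
    intro m hm hm1
    have he := C.I.hU.even
    have hmlt : m < D.nroots := by omega
    have hcond : NormCond D m (fun r => m + 1 ≤ r ∧ r < D.nroots) := by
      refine ⟨hmlt, fun b ⟨hb1, hb2⟩ => ⟨hb2, by omega, ?_, fun c hc => ?_⟩⟩
      · have := C.I.hU.negrev m hmlt
        omega
      · have := C.I.hU.terms m b hm1 (by omega) hb2 c hc
        exact ⟨this.1, this.2⟩
    have h1 := S.inj_step hcond (ih (m + 1) (by omega) (by omega)) (gsep_pos C.I C.hp hm1 hmlt)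
    intro g hg
    exact h1 g (S.cl_mono (fun r (hr : m ≤ r ∧ r < D.nroots) => by
      by_cases h : r = m
      · exact Or.inl h
      · exact Or.inr ⟨by omega, hr.2⟩) hg)

theorem inj_neg_init (C : ChevPkg D K) : ∀ m, m ≤ D.nroots / 2 → S.Inj (fun r => r < m) := by
  intro m
  induction m with
  | zero =>
    intro _ g hg _
    have h1 : S.cl (fun r => r < 0) ≤ ⊥ := by
      unfold cl
      rw [Subgroup.closure_le]
      rintro x ⟨r, t, h1, rfl⟩
      exact absurd h1 (by omega)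
    exact Subgroup.mem_bot.mp (h1 hg)
  | succ m ih =>
    intro hm
    have he := C.I.hU.even
    have hmlt : m < D.nroots := by omega
    have hcond : NormCond D m (fun r => r < m) := by
      refine ⟨hmlt, fun b (hb : b < m) => ⟨by omega, by omega, ?_,
        commTerms_lt_neg C.negOK_lt (by omega) hb⟩⟩
      have := C.I.hU.negrev m hmlt
      omega
    have h1 := S.inj_step hcond (ih (by omega)) (gsep_neg C.I C.hp C.negOK_lt (by omega))
    intro g hg
    exact h1 g (S.cl_mono (fun r (hr : r < m + 1) => by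
      by_cases h : r = m
      · exact Or.inl h
      · exact Or.inr (by omega)) hg)

theorem inj_pos (C : ChevPkg D K) : S.Inj (PosR D) :=
  S.inj_pos_tail C (D.nroots / 2) (D.nroots / 2) C.I.hU.even (le_refl _)

theorem inj_neg (C : ChevPkg D K) : S.Inj (NegR D) :=
  S.inj_neg_init C (D.nroots / 2) (le_refl _)

theorem θ_mem_neg (C : ChevPkg D K) : ∀ g ∈ S.cl (NegR D), S.θ g ∈ D.negUnipotent K := by
  intro g hg
  have h1 : S.cl (NegR D) ≤ (D.negUnipotent K).comap S.θ := by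
    unfold cl
    rw [Subgroup.closure_le]
    rintro x ⟨r, t, hr, rfl⟩
    have he := C.I.hU.even
    have hr' : r < D.nroots / 2 := hr
    show S.θ (S.X r t) ∈ D.negUnipotent K
    exact Subgroup.subset_closure ⟨r, t, C.isNeg_lt r hr, S.θX r t (by omega)⟩
  exact h1 hg

theorem θ_mem_pos (C : ChevPkg D K) : ∀ g ∈ S.cl (PosR D), S.θ g ∈ D.posUnipotent K := by
  intro g hg
  have h1 : S.cl (PosR D) ≤ (D.posUnipotent K).comap S.θ := by
    unfold cl
    rw [Subgroup.closure_le]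
    rintro x ⟨r, t, hr, rfl⟩
    show S.θ (S.X r t) ∈ D.posUnipotent K
    exact Subgroup.subset_closure ⟨r, t, (C.I.hU.pos_iff r).mpr hr, S.θX r t hr.2⟩
  exact h1 hg

theorem inj_T (C : ChevPkg D K) (T : StTab D) {j : ℕ} (hj : j < D.rank) : S.Inj (InT D j) := by
  have he := C.I.hU.even
  obtain ⟨hq1, hq2⟩ := simple_posR C.I hj
  have hnq := C.I.hU.negrev _ hq2
  have hcond : NormCond D (D.simple j)
      (fun s => s < D.nroots / 2 ∧ s ≠ D.neg (D.simple j)) := by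
    refine ⟨hq2, fun b ⟨hb1, hb2⟩ => ⟨by omega, by omega, hb2, fun c hc => ?_⟩⟩
    exact (negNormRow_spec (T.norm j hj) b hb1 hb2).1 c hc
  intro g hg hθ
  have hg' : g ∈ S.cl (fun r => r = D.simple j ∨
      (r < D.nroots / 2 ∧ r ≠ D.neg (D.simple j))) := hg
  obtain ⟨t, x, hx, rfl⟩ := S.cl_decomp hcond g hg'
  have hxV : x ∈ S.cl (NegR D) := S.cl_mono (fun r hr => hr.1) hx
  rw [map_mul] at hθ
  have h1 : S.θ (S.X (D.simple j) t) = (S.θ x)⁻¹ := eq_inv_of_mul_eq_one_left hθ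
  have hU : S.θ (S.X (D.simple j) t) ∈ D.borelSubgroup K :=
    Subgroup.mem_sup_left (Subgroup.subset_closure
      ⟨D.simple j, t, (C.I.hU.pos_iff _).mpr ⟨hq1, hq2⟩, S.θX _ t hq2⟩)
  have hV : S.θ (S.X (D.simple j) t) ∈ D.negUnipotent K := by
    rw [h1]
    exact inv_mem (S.θ_mem_neg C x hxV)
  have h2 := borel_inf_neg C.I C.hN hU hV
  have ht : t = 0 := x_eq_one_all C.I C.hp hq2 (by rw [← S.θX _ t hq2, h2, Units.val_one])
  subst ht
  have hx1 : S.θ x = 1 := by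
    rw [S.X_zero, map_one, one_mul] at hθ
    exact hθ
  rw [S.X_zero, one_mul]
  exact S.inj_neg C x hxV hx1

/-- `n̄_r(t)` -/
def nb (r : ℕ) (t : K) : Γ := S.X r t * S.X (D.neg r) (-t⁻¹) * S.X r t

theorem nb_inv (r : ℕ) (t : K) : (S.nb r t)⁻¹ = S.nb r (-t) := by
  unfold nb
  rw [mul_inv_rev, mul_inv_rev, ← S.X_neg, ← S.X_neg, inv_neg, neg_neg, mul_assoc]

theorem Xneg_eq (r : ℕ) (w : K) :
    S.X (D.neg r) w = S.X r w⁻¹ * S.nb r (-w⁻¹) * S.X r w⁻¹ := by
  unfold nb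
  rw [inv_neg, inv_inv, neg_neg, S.X_neg]
  group

theorem θ_nb {r : ℕ} (hr : r < D.nroots) (hnr : D.neg r < D.nroots) (t : K) :
    ((S.θ (S.nb r t) : GL D.Idx K) : Matrix D.Idx D.Idx K) = D.nMat K r t := by
  unfold nb
  rw [map_mul, map_mul, Units.val_mul, Units.val_mul, S.θX r t hr, S.θX _ _ hnr, nMat_eq_three,
    mul_assoc]

theorem act_of_inj {Q Q' : ℕ → Prop} (hQ' : S.Inj Q') (hQQ' : ∀ r, Q r → Q' r)
    (hQn : ∀ r, Q' r → r < D.nroots) {g : Γ} (hg : ∀ x ∈ S.cl Q, g * x * g⁻¹ ∈ S.cl Q)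
    {π : ℕ → ℕ} {c : ℕ → K}
    (hR : RootAct D K ((S.θ g : GL D.Idx K) : Matrix D.Idx D.Idx K) π c)
    {s : ℕ} (hs : Q s) (hπs : Q' (π s)) (u : K) :
    g * S.X s u * g⁻¹ = S.X (π s) (c s * u) := by
  have hs' := hQn s (hQQ' s hs)
  apply S.inj_eq hQ'
  · exact S.cl_mono hQQ' (hg _ (S.X_mem_cl hs u))
  · exact S.X_mem_cl hπs _
  · apply Units.ext
    rw [map_mul, map_mul, map_inv, Units.val_mul, Units.val_mul, S.θX s u hs',
      S.θX _ _ (hQn _ hπs), (hR s hs').2.2 u, mul_assoc, ← Units.val_mul, mul_inv_cancel,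
      Units.val_one, mul_one]

theorem act_scalar (C : ChevPkg D K) {g : Γ} {π : ℕ → ℕ} {c : ℕ → K}
    (hR : RootAct D K ((S.θ g : GL D.Idx K) : Matrix D.Idx D.Idx K) π c) {s : ℕ}
    (hs : s < D.nroots) {u v : K} (h : g * S.X s u * g⁻¹ = S.X (π s) v) : v = c s * u := by
  have hπ := (hR s hs).1
  have h' : S.θ (S.X (π s) v) = S.θ (S.X (π s) (c s * u)) := by
    rw [← h]
    apply Units.ext
    rw [map_mul, map_mul, map_inv, Units.val_mul, Units.val_mul, S.θX s u hs,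
      S.θX _ _ hπ, (hR s hs).2.2 u, mul_assoc, ← Units.val_mul, mul_inv_cancel,
      Units.val_one, mul_one]
  have e : ((S.θ (S.X (π s) v) : GL D.Idx K) : Matrix D.Idx D.Idx K) =
      ((S.θ (S.X (π s) (c s * u)) : GL D.Idx K) : Matrix D.Idx D.Idx K) :=
    congrArg (fun x : GL D.Idx K => (x : Matrix D.Idx D.Idx K)) h'
  rw [S.θX _ _ hπ, S.θX _ _ hπ] at e
  exact x_inj C.I hπ e

theorem nb_conj_mem {p : ℕ} {P : ℕ → Prop} (h1 : NormCond D p P) (h2 : NormCond D (D.neg p) P)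
    (t : K) : ∀ x ∈ S.cl P, S.nb p t * x * (S.nb p t)⁻¹ ∈ S.cl P := by
  intro x hx
  have e : S.nb p t * x * (S.nb p t)⁻¹ = S.X p t * (S.X (D.neg p) (-t⁻¹) *
      (S.X p t * x * (S.X p t)⁻¹) * (S.X (D.neg p) (-t⁻¹))⁻¹) * (S.X p t)⁻¹ := by
    unfold nb
    group
  rw [e]
  exact S.conj_mem h1 t _ (S.conj_mem h2 _ _ (S.conj_mem h1 t x hx))

theorem normCond_pos (C : ChevPkg D K) {k : ℕ} (hk : k < D.rank) :
    NormCond D (D.simple k) (fun s => D.nroots / 2 ≤ s ∧ s < D.nroots ∧ s ≠ D.simple k) ∧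
    NormCond D (D.neg (D.simple k))
      (fun s => D.nroots / 2 ≤ s ∧ s < D.nroots ∧ s ≠ D.simple k) := by
  have he := C.I.hU.even
  obtain ⟨hp1, hp2⟩ := simple_posR C.I hk
  have hnp := C.I.hU.negrev _ hp2
  have hnn : D.neg (D.neg (D.simple k)) = D.simple k := by
    have := C.I.hU.negrev (D.neg (D.simple k)) (by omega)
    omega
  constructor
  · refine ⟨hp2, fun b ⟨hb1, hb2, hb3⟩ => ⟨hb2, hb3, by omega, fun c hc => ?_⟩⟩
    exact (simpleNorm_spec C.I hk b hb1 hb2 hb3).1 c hc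
  · refine ⟨by omega, fun b ⟨hb1, hb2, hb3⟩ => ⟨hb2, by omega, by rw [hnn]; exact hb3,
      fun c hc => ?_⟩⟩
    exact (simpleNorm_spec C.I hk b hb1 hb2 hb3).2 c hc

theorem normCond_neg (C : ChevPkg D K) (T : StTab D) {k : ℕ} (hk : k < D.rank) :
    NormCond D (D.simple k) (fun s => s < D.nroots / 2 ∧ s ≠ D.neg (D.simple k)) ∧
    NormCond D (D.neg (D.simple k)) (fun s => s < D.nroots / 2 ∧ s ≠ D.neg (D.simple k)) := by
  have he := C.I.hU.even
  obtain ⟨hp1, hp2⟩ := simple_posR C.I hk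
  have hnp := C.I.hU.negrev _ hp2
  have hnn : D.neg (D.neg (D.simple k)) = D.simple k := by
    have := C.I.hU.negrev (D.neg (D.simple k)) (by omega)
    omega
  constructor
  · refine ⟨hp2, fun b ⟨hb1, hb2⟩ => ⟨by omega, by omega, hb2, fun c hc => ?_⟩⟩
    exact (negNormRow_spec (T.norm k hk) b hb1 hb2).1 c hc
  · refine ⟨by omega, fun b ⟨hb1, hb2⟩ => ⟨by omega, hb2, by rw [hnn]; omega, fun c hc => ?_⟩⟩
    exact (negNormRow_spec (T.norm k hk) b hb1 hb2).2 c hc

theorem nb_act_ne (C : ChevPkg D K) (T : StTab D) {k : ℕ} (hk : k < D.rank) {t : K} {c : ℕ → K}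
    (hR : RootAct D K (D.nMat K (D.simple k) t) (D.reflectRoot k) c) {s : ℕ} (hs : s < D.nroots)
    (h1 : s ≠ D.simple k) (h2 : s ≠ D.neg (D.simple k)) (u : K) :
    S.nb (D.simple k) t * S.X s u * (S.nb (D.simple k) t)⁻¹ =
      S.X (D.reflectRoot k s) (c s * u) := by
  have he := C.I.hU.even
  obtain ⟨hp1, hp2⟩ := simple_posR C.I hk
  have hnp := C.I.hU.negrev _ hp2
  have hR' : RootAct D K ((S.θ (S.nb (D.simple k) t) : GL D.Idx K) : Matrix D.Idx D.Idx K)
      (D.reflectRoot k) c := by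
    rw [S.θ_nb hp2 (by omega)]
    exact hR
  have hlt := (hR s hs).1
  by_cases hsN : D.nroots / 2 ≤ s
  · obtain ⟨n1, n2⟩ := normCond_pos C hk
    have hw := C.I.R.w_up k s hk hsN hs h1
    exact S.act_of_inj (Q := fun s => D.nroots / 2 ≤ s ∧ s < D.nroots ∧ s ≠ D.simple k)
      (Q' := PosR D) (S.inj_pos C) (fun r hr => ⟨hr.1, hr.2.1⟩) (fun r hr => hr.2)
      (S.nb_conj_mem n1 n2 t) hR' ⟨hsN, hs, h1⟩ ⟨hw.1, hlt⟩ u
  · obtain ⟨n1, n2⟩ := normCond_neg C T hk
    have hns := C.I.hU.negrev s hs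
    have hw := C.I.R.w_up k (D.neg s) hk (by omega) (by omega) (by omega)
    have hwn := C.I.R.w_neg k s hk hs
    have hn2 := C.I.hU.negrev _ hlt
    rw [hwn] at hw
    have hlt' : D.reflectRoot k s < D.nroots / 2 := by omega
    exact S.act_of_inj (Q := fun s => s < D.nroots / 2 ∧ s ≠ D.neg (D.simple k))
      (Q' := NegR D) (S.inj_neg C) (fun r hr => hr.1)
      (fun r (hr : r < D.nroots / 2) => by omega)
      (S.nb_conj_mem n1 n2 t) hR' ⟨by omega, h2⟩ hlt' u

end StData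

end Cfsg.Agent.Lib.helper41
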