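/-
helper41: Steinberg's presentation, continued.  In a group with the relations (R1), (R2) mapped to
the Chevalley group by `X r t ↦ x_r(t)`, every element is in `Ū M̄ Ū`, and the kernel of the map is
central.
-/
import Cfsg.Agent.Lib.helper41.StAct

set_option autoImplicit false

namespace Cfsg.Agent.Lib.helper41

open Cfsg.Lie Cfsg.Agent.Lib.helper22

universe u

namespace StData

variable {D : ChevalleyDatum} {K : Type u} [Field K] {Γ : Type u} [Group Γ] (S : StData D K Γ)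

theorem conj_W_mem {P : ℕ → Prop} {g : Γ} {π : ℕ → ℕ} {c : ℕ → K} (w : List (ℕ × K))
    (hw : ∀ q ∈ w, P (π q.1) ∧ ∀ u : K, g * S.X q.1 u * g⁻¹ = S.X (π q.1) (c q.1 * u)) :
    g * S.W w * g⁻¹ ∈ S.cl P := by
  induction w with
  | nil =>
    rw [S.W_nil, mul_one, mul_inv_cancel]
    exact one_mem _
  | cons q w ih =>
    rw [S.W_cons]
    have e : g * (S.X q.1 q.2 * S.W w) * g⁻¹ = (g * S.X q.1 q.2 * g⁻¹) * (g * S.W w * g⁻¹) := by
      group
    rw [e, (hw q List.mem_cons_self).2]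
    exact mul_mem (S.X_mem_cl (hw q List.mem_cons_self).1 _)
      (ih fun q' hq' => hw q' (List.mem_cons_of_mem _ hq'))

theorem nb_act_self (C : ChevPkg D K) (T : StTab D) {k : ℕ} (hk : k < D.rank) {t : K} {c : ℕ → K}
    (hR : RootAct D K (D.nMat K (D.simple k) t) (D.reflectRoot k) c) (v : K) :
    S.nb (D.simple k) t * S.X (D.simple k) v * (S.nb (D.simple k) t)⁻¹ =
      S.X (D.neg (D.simple k)) (c (D.simple k) * v) := by
  have he := C.I.hU.even
  obtain ⟨hp1, hp2⟩ := simple_posR C.I hk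
  have hnp := C.I.hU.negrev _ hp2
  have hnplt : D.neg (D.simple k) < D.nroots := by omega
  have hR' : RootAct D K ((S.θ (S.nb (D.simple k) t) : GL D.Idx K) : Matrix D.Idx D.Idx K)
      (D.reflectRoot k) c := by
    rw [S.θ_nb hp2 hnplt]
    exact hR
  obtain ⟨j, b, g, m, c0, i0, j0, hj, hb, hg, hgb, hgnb, hbp, hbnp, hgp, hgnp, hne', hnne', hpj,
    hm, hc0, hij, hgood, hterms'⟩ := T.wit k hk
  obtain ⟨l1, l2, hsplit, hgood'⟩ : ∃ l1 l2 : List (ℕ × ℤ × ℕ × ℕ),
      D.commTerms b g = l1 ++ (D.simple k, c0, i0, j0) :: l2 ∧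
      ∀ c ∈ l1 ++ l2, c.1 < D.nroots ∧ c.1 ≠ D.simple k ∧ c.1 ≠ D.neg (D.simple k) ∧
        InT D j (D.reflectRoot k c.1) :=
    ⟨_, _, list_split_getElem? _ m _ hm, hgood⟩
  obtain ⟨t', u', hval⟩ : ∃ t' u' : K, (c0 : K) * (-t') ^ i0 * u' ^ j0 = v := by
    have hcc : (c0 : K) * (c0 : K) = 1 := by
      rcases hc0 with h | h <;> rw [h] <;> simp
    rcases hij with h | h
    · refine ⟨-((c0 : K) * v), 1, ?_⟩
      rw [h, neg_neg, pow_one, one_pow, mul_one, ← mul_assoc, hcc, one_mul]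
    · refine ⟨-1, (c0 : K) * v, ?_⟩
      rw [h, neg_neg, one_pow, pow_one, mul_one, ← mul_assoc, hcc, one_mul]
  obtain ⟨f, hf⟩ : ∃ f : ℕ × ℤ × ℕ × ℕ → ℕ × K,
      f = fun c => (c.1, (c.2.1 : K) * (-t') ^ c.2.2.1 * u' ^ c.2.2.2) := ⟨_, rfl⟩
  have hW : S.W (D.commWord K b g t' u') =
      S.W (l1.map f) * (S.X (D.simple k) v * S.W (l2.map f)) := by
    have e1 : D.commWord K b g t' u' = l1.map f ++ (D.simple k, v) :: l2.map f := by
      unfold ChevalleyDatum.commWord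
      rw [hsplit, List.map_append, List.map_cons, hf]
      simp only [hval]
    rw [e1, S.W_append, S.W_cons]
  have hcomm := S.comm' hb hg hgb hgnb t' u'
  have hXp : S.X (D.simple k) v = (S.W (l1.map f))⁻¹ *
      ((S.X b t' * S.X g u')⁻¹ * (S.X g u' * S.X b t')) * (S.W (l2.map f))⁻¹ := by
    rw [hcomm, hW]
    group
  obtain ⟨n, hn⟩ : ∃ n : Γ, n = S.nb (D.simple k) t := ⟨_, rfl⟩
  rw [← hn] at hR' ⊢
  have hact : ∀ s, s < D.nroots → s ≠ D.simple k → s ≠ D.neg (D.simple k) → ∀ u : K,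
      n * S.X s u * n⁻¹ = S.X (D.reflectRoot k s) (c s * u) := by
    intro s hs h1 h2 u
    rw [hn]
    exact S.nb_act_ne C T hk hR hs h1 h2 u
  have hA := hact b hb hbp hbnp t'
  have hB := hact g hg hgp hgnp u'
  have hb' := (hR b hb).1
  have hg' := (hR g hg).1
  have hcomm2 := S.comm' hb' hg' hne' hnne' (c b * t') (c g * u')
  have hW' : S.W (D.commWord K (D.reflectRoot k b) (D.reflectRoot k g) (c b * t') (c g * u')) ∈
      S.cl (InT D j) := S.commWord_mem_cl hterms' _ _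
  have hl : ∀ l : List (ℕ × ℤ × ℕ × ℕ), (∀ c ∈ l, c ∈ l1 ++ l2) →
      n * S.W (l.map f) * n⁻¹ ∈ S.cl (InT D j) := by
    intro l hl
    apply S.conj_W_mem (π := D.reflectRoot k) (c := c)
    intro q hq
    rw [List.mem_map] at hq
    obtain ⟨c', hc', rfl⟩ := hq
    obtain ⟨h1, h2, h3, h4⟩ := hgood' c' (hl c' hc')
    rw [hf]
    exact ⟨h4, fun u => hact _ h1 h2 h3 u⟩
  have h1 := hl l1 (fun c hc => List.mem_append_left _ hc)
  have h2 := hl l2 (fun c hc => List.mem_append_right _ hc)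
  have hLHS : n * S.X (D.simple k) v * n⁻¹ = (n * S.W (l1.map f) * n⁻¹)⁻¹ *
      S.W (D.commWord K (D.reflectRoot k b) (D.reflectRoot k g) (c b * t') (c g * u')) *
      (n * S.W (l2.map f) * n⁻¹)⁻¹ := by
    have e1 : n * S.X (D.simple k) v * n⁻¹ = (n * S.W (l1.map f) * n⁻¹)⁻¹ *
        ((n * S.X b t' * n⁻¹ * (n * S.X g u' * n⁻¹))⁻¹ *
          (n * S.X g u' * n⁻¹ * (n * S.X b t' * n⁻¹))) * (n * S.W (l2.map f) * n⁻¹)⁻¹ := by
      rw [hXp]
      group
    rw [e1, hA, hB, hcomm2]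
    group
  have hθ : S.θ (n * S.X (D.simple k) v * n⁻¹) =
      S.θ (S.X (D.neg (D.simple k)) (c (D.simple k) * v)) := by
    apply Units.ext
    rw [map_mul, map_mul, map_inv, Units.val_mul, Units.val_mul, S.θX _ v hp2,
      S.θX _ _ hnplt, (hR' _ hp2).2.2 v, reflectRoot_self, mul_assoc, ← Units.val_mul,
      mul_inv_cancel, Units.val_one, mul_one]
  apply S.inj_eq (S.inj_T C T hj) _ _ hθ
  · rw [hLHS]
    exact mul_mem (mul_mem (inv_mem h1) hW') (inv_mem h2)
  · exact S.X_mem_cl (Or.inr ⟨by omega, hpj⟩) _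

theorem nb_act_neg_self (C : ChevPkg D K) (T : StTab D) {k : ℕ} (hk : k < D.rank) {t : K}
    (ht : t ≠ 0) {c : ℕ → K}
    (hR : RootAct D K (D.nMat K (D.simple k) t) (D.reflectRoot k) c) (u : K) :
    S.nb (D.simple k) t * S.X (D.neg (D.simple k)) u * (S.nb (D.simple k) t)⁻¹ =
      S.X (D.simple k) (c (D.neg (D.simple k)) * u) := by
  have he := C.I.hU.even
  obtain ⟨hp1, hp2⟩ := simple_posR C.I hk
  have hnp := C.I.hU.negrev _ hp2
  have hnplt : D.neg (D.simple k) < D.nroots := by omega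
  have hR0 : RootAct D K ((S.θ (S.nb (D.simple k) t) : GL D.Idx K) : Matrix D.Idx D.Idx K)
      (D.reflectRoot k) c := by
    rw [S.θ_nb hp2 hnplt]
    exact hR
  obtain ⟨c', hR'⟩ := rootAct_nMat C.I hk (neg_ne_zero.mpr ht)
  have hR'' : RootAct D K ((S.θ (S.nb (D.simple k) (-t)) : GL D.Idx K) : Matrix D.Idx D.Idx K)
      (D.reflectRoot k) c' := by
    rw [S.θ_nb hp2 hnplt]
    exact hR'
  have hc' : c' (D.simple k) ≠ 0 := rootAct_ne_zero_all C.I C.hp hR'' hp2
  have h1 := S.nb_act_self C T hk hR' (u / c' (D.simple k))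
  have e0 : c' (D.simple k) * (u / c' (D.simple k)) = u := by
    field_simp
  rw [e0, ← S.nb_inv, inv_inv] at h1
  have e1 : S.nb (D.simple k) t * S.X (D.neg (D.simple k)) u * (S.nb (D.simple k) t)⁻¹ =
      S.X (D.simple k) (u / c' (D.simple k)) := by
    rw [← h1]
    group
  have e2 : S.nb (D.simple k) t * S.X (D.neg (D.simple k)) u * (S.nb (D.simple k) t)⁻¹ =
      S.X (D.reflectRoot k (D.neg (D.simple k))) (u / c' (D.simple k)) := by
    rw [reflectRoot_neg_self D k (by omega)]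
    exact e1
  rw [e1, S.act_scalar C hR0 hnplt e2]

theorem nb_act (C : ChevPkg D K) (T : StTab D) {k : ℕ} (hk : k < D.rank) {t : K} (ht : t ≠ 0)
    {c : ℕ → K} (hR : RootAct D K (D.nMat K (D.simple k) t) (D.reflectRoot k) c) {s : ℕ}
    (hs : s < D.nroots) (u : K) :
    S.nb (D.simple k) t * S.X s u * (S.nb (D.simple k) t)⁻¹ =
      S.X (D.reflectRoot k s) (c s * u) := by
  have he := C.I.hU.even
  obtain ⟨hp1, hp2⟩ := simple_posR C.I hk
  have hnp := C.I.hU.negrev _ hp2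
  by_cases h1 : s = D.simple k
  · rw [h1, reflectRoot_self]
    exact S.nb_act_self C T hk hR u
  · by_cases h2 : s = D.neg (D.simple k)
    · rw [h2, reflectRoot_neg_self D k (by omega)]
      exact S.nb_act_neg_self C T hk ht hR u
    · exact S.nb_act_ne C T hk hR hs h1 h2 u

/-- `g` permutes the `X s u` as `θ g` permutes the root elements -/
def RA (g : Γ) : Prop :=
  ∃ (π : ℕ → ℕ) (c : ℕ → K),
    RootAct D K ((S.θ g : GL D.Idx K) : Matrix D.Idx D.Idx K) π c ∧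
    ∀ s, s < D.nroots → ∀ u : K, g * S.X s u * g⁻¹ = S.X (π s) (c s * u)

theorem RA_one : S.RA 1 := by
  refine ⟨fun s => s, fun _ => 1, ?_, fun s _ u => ?_⟩
  · rw [map_one, Units.val_one]
    exact rootAct_one
  · rw [one_mul, inv_one, mul_one, one_mul]

theorem RA_mul {g g' : Γ} (h : S.RA g) (h' : S.RA g') : S.RA (g * g') := by
  obtain ⟨π, c, hR, hA⟩ := h
  obtain ⟨π', c', hR', hA'⟩ := h'
  refine ⟨fun s => π (π' s), fun s => c (π' s) * c' s, ?_, fun s hs u => ?_⟩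
  · rw [map_mul, Units.val_mul]
    exact hR.mul hR'
  · have e : g * g' * S.X s u * (g * g')⁻¹ = g * (g' * S.X s u * g'⁻¹) * g⁻¹ := by group
    rw [e, hA' s hs u, hA (π' s) (hR' s hs).1, mul_assoc]

theorem RA_nb (C : ChevPkg D K) (T : StTab D) {k : ℕ} (hk : k < D.rank) {t : K} (ht : t ≠ 0) :
    S.RA (S.nb (D.simple k) t) := by
  have he := C.I.hU.even
  obtain ⟨hp1, hp2⟩ := simple_posR C.I hk
  have hnp := C.I.hU.negrev _ hp2
  obtain ⟨c, hR⟩ := rootAct_nMat C.I hk ht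
  refine ⟨D.reflectRoot k, c, ?_, fun s hs u => S.nb_act C T hk ht hR hs u⟩
  rw [S.θ_nb hp2 (by omega)]
  exact hR

/-- the subgroup generated by the `n̄_p(t)`, `p` fundamental -/
def Mb : Subgroup Γ :=
  Subgroup.closure {g : Γ | ∃ (k : ℕ) (t : K), k < D.rank ∧ t ≠ 0 ∧ g = S.nb (D.simple k) t}

theorem nb_mem_Mb {k : ℕ} (hk : k < D.rank) {t : K} (ht : t ≠ 0) : S.nb (D.simple k) t ∈ S.Mb :=
  Subgroup.subset_closure ⟨k, t, hk, ht, rfl⟩

theorem RA_of_mem_Mb (C : ChevPkg D K) (T : StTab D) : ∀ g ∈ S.Mb, S.RA g := by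
  intro g hg
  change g ∈ Subgroup.closure {g : Γ | ∃ (k : ℕ) (t : K), k < D.rank ∧ t ≠ 0 ∧
    g = S.nb (D.simple k) t} at hg
  induction hg using Subgroup.closure_induction'' with
  | mem x hx =>
    obtain ⟨k, t, hk, ht, rfl⟩ := hx
    exact S.RA_nb C T hk ht
  | inv_mem x hx =>
    obtain ⟨k, t, hk, ht, rfl⟩ := hx
    rw [S.nb_inv]
    exact S.RA_nb C T hk (neg_ne_zero.mpr ht)
  | one => exact S.RA_one
  | mul x y _ _ hx hy => exact S.RA_mul hx hy

theorem gen_simple (C : ChevPkg D K) (T : StTab D) :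
    Subgroup.closure {g : Γ | ∃ (k : ℕ) (u : K), k < D.rank ∧
      (g = S.X (D.simple k) u ∨ g = S.X (D.neg (D.simple k)) u)} = ⊤ := by
  have hM : ∀ k, k < D.rank → ∀ t : K, S.nb (D.simple k) t ∈
      Subgroup.closure {g : Γ | ∃ (k : ℕ) (u : K), k < D.rank ∧
        (g = S.X (D.simple k) u ∨ g = S.X (D.neg (D.simple k)) u)} := fun k hk t =>
    mul_mem (mul_mem (Subgroup.subset_closure ⟨k, t, hk, Or.inl rfl⟩)
      (Subgroup.subset_closure ⟨k, _, hk, Or.inr rfl⟩))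
      (Subgroup.subset_closure ⟨k, t, hk, Or.inl rfl⟩)
  have hall : ∀ r, r < D.nroots → ∀ u : K, S.X r u ∈
      Subgroup.closure {g : Γ | ∃ (k : ℕ) (u : K), k < D.rank ∧
        (g = S.X (D.simple k) u ∨ g = S.X (D.neg (D.simple k)) u)} := by
    apply C.I.R.reach
    · intro i hi u
      exact Subgroup.subset_closure ⟨i, u, hi, Or.inl rfl⟩
    · intro a ha hPa i hi u
      have he := C.I.hU.even
      obtain ⟨hp1, hp2⟩ := simple_posR C.I hi
      have hnp := C.I.hU.negrev _ hp2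
      obtain ⟨c, hR⟩ := rootAct_nMat C.I hi (one_ne_zero (α := K))
      have hR' : RootAct D K ((S.θ (S.nb (D.simple i) 1) : GL D.Idx K) : Matrix D.Idx D.Idx K)
          (D.reflectRoot i) c := by
        rw [S.θ_nb hp2 (by omega)]
        exact hR
      have hc : c a ≠ 0 := rootAct_ne_zero_all C.I C.hp hR' ha
      have e := S.nb_act C T hi one_ne_zero hR ha (u / c a)
      have e0 : c a * (u / c a) = u := by field_simp
      rw [e0] at e
      rw [← e]
      exact mul_mem (mul_mem (hM i hi 1) (hPa _)) (inv_mem (hM i hi 1))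
  rw [eq_top_iff, ← S.gen, Subgroup.closure_le]
  rintro g ⟨r, t, hr, rfl⟩
  exact hall r hr t

/-- the elements of `Ū M̄ Ū` -/
def InY (g : Γ) : Prop :=
  ∃ a ∈ S.cl (PosR D), ∃ m ∈ S.Mb, ∃ b ∈ S.cl (PosR D), g = a * m * b

theorem inY_mul_right {g : Γ} (h : S.InY g) {x : Γ} (hx : x ∈ S.cl (PosR D)) : S.InY (g * x) := by
  obtain ⟨a, ha, m, hm, b, hb, rfl⟩ := h
  exact ⟨a, ha, m, hm, b * x, mul_mem hb hx, by group⟩

theorem inY_core (C : ChevPkg D K) (T : StTab D) {a m : Γ} (ha : a ∈ S.cl (PosR D))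
    (hm : m ∈ S.Mb) {k : ℕ} (hk : k < D.rank) (v : K) {t : K} (ht : t ≠ 0) :
    S.InY (a * m * S.X (D.simple k) v * S.nb (D.simple k) t) := by
  have he := C.I.hU.even
  obtain ⟨hp1, hp2⟩ := simple_posR C.I hk
  have hnp := C.I.hU.negrev _ hp2
  have hnplt : D.neg (D.simple k) < D.nroots := by omega
  obtain ⟨π, c, hR, hA⟩ := S.RA_of_mem_Mb C T m hm
  have hπp := (hR _ hp2).1
  have hnb := S.nb_mem_Mb hk ht
  by_cases hpos : D.nroots / 2 ≤ π (D.simple k)
  · refine ⟨a * S.X (π (D.simple k)) (c (D.simple k) * v),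
      mul_mem ha (S.X_mem_cl ⟨hpos, hπp⟩ _), m * S.nb (D.simple k) t, mul_mem hm hnb, 1,
      one_mem _, ?_⟩
    rw [← hA _ hp2 v]
    group
  · by_cases hv : v = 0
    · refine ⟨a, ha, m * S.nb (D.simple k) t, mul_mem hm hnb, 1, one_mem _, ?_⟩
      rw [hv, S.X_zero]
      group
    · obtain ⟨c2, hR2⟩ := rootAct_nMat C.I hk (neg_ne_zero.mpr ht)
      have hR2' : RootAct D K ((S.θ (S.nb (D.simple k) (-t)) : GL D.Idx K) :
          Matrix D.Idx D.Idx K) (D.reflectRoot k) c2 := by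
        rw [S.θ_nb hp2 hnplt]
        exact hR2
      have hc2 : c2 (D.simple k) ≠ 0 := rootAct_ne_zero_all C.I C.hp hR2' hp2
      have h2 := S.nb_act_self C T hk hR2 v
      rw [← S.nb_inv, inv_inv] at h2
      obtain ⟨w, hw⟩ : ∃ w : K, w = c2 (D.simple k) * v := ⟨_, rfl⟩
      rw [← hw] at h2
      have hw0 : w ≠ 0 := by
        rw [hw]
        exact mul_ne_zero hc2 hv
      have h3 := S.Xneg_eq (D.simple k) w
      obtain ⟨c1, hR1⟩ := rootAct_nMat C.I hk ht
      have h4 := S.nb_act_self C T hk hR1 w⁻¹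
      have h5 := hA (D.neg (D.simple k)) hnplt (c1 (D.simple k) * w⁻¹)
      have h6 : π (D.neg (D.simple k)) = D.neg (π (D.simple k)) := (hR _ hp2).2.1
      have h7 := C.I.hU.negrev _ hπp
      refine ⟨a * S.X (π (D.neg (D.simple k))) (c (D.neg (D.simple k)) *
          (c1 (D.simple k) * w⁻¹)),
        mul_mem ha (S.X_mem_cl ⟨by rw [h6]; omega, by rw [h6]; omega⟩ _),
        m * S.nb (D.simple k) t * S.nb (D.simple k) (-w⁻¹),
        mul_mem (mul_mem hm hnb) (S.nb_mem_Mb hk (neg_ne_zero.mpr (inv_ne_zero hw0))),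
        S.X (D.simple k) w⁻¹, S.X_mem_cl ⟨hp1, hp2⟩ _, ?_⟩
      have e1 : S.X (D.simple k) v * S.nb (D.simple k) t = S.nb (D.simple k) t *
          (S.X (D.simple k) w⁻¹ * S.nb (D.simple k) (-w⁻¹) * S.X (D.simple k) w⁻¹) := by
        rw [← h3, ← h2]
        group
      rw [← h5, ← h4]
      calc a * m * S.X (D.simple k) v * S.nb (D.simple k) t
          = a * m * (S.X (D.simple k) v * S.nb (D.simple k) t) := by group
        _ = _ := by
          rw [e1]
          group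

theorem inY_mul_neg (C : ChevPkg D K) (T : StTab D) {g : Γ} (h : S.InY g) {k : ℕ}
    (hk : k < D.rank) (u : K) : S.InY (g * S.X (D.neg (D.simple k)) u) := by
  by_cases hu : u = 0
  · rw [hu, S.X_zero, mul_one]
    exact h
  obtain ⟨a, ha, m, hm, b, hb, rfl⟩ := h
  have he := C.I.hU.even
  obtain ⟨hp1, hp2⟩ := simple_posR C.I hk
  have hnp := C.I.hU.negrev _ hp2
  obtain ⟨n1, n2⟩ := normCond_pos C hk
  obtain ⟨tb, xb, hxb, hbinv⟩ := S.cl_decomp n1 b⁻¹ (S.cl_mono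
    (fun r (hr : D.nroots / 2 ≤ r ∧ r < D.nroots) => by
      by_cases h : r = D.simple k
      · exact Or.inl h
      · exact Or.inr ⟨hr.1, hr.2, h⟩) (inv_mem hb))
  have hb' : b = xb⁻¹ * S.X (D.simple k) (-tb) := by
    rw [S.X_neg, ← mul_inv_rev, ← hbinv, inv_inv]
  have hq := S.Xneg_eq (D.simple k) u
  have hb2 := S.conj_inv_mem n1 (-tb + u⁻¹) _ (inv_mem hxb)
  have hn' : (S.nb (D.simple k) (-u⁻¹))⁻¹ = S.nb (D.simple k) u⁻¹ := by
    rw [S.nb_inv, neg_neg]
  have hb3 := S.nb_conj_mem n1 n2 u⁻¹ _ hb2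
  have hcore := S.inY_core C T ha hm hk (-tb + u⁻¹) (t := -u⁻¹)
    (neg_ne_zero.mpr (inv_ne_zero hu))
  have hfin := S.inY_mul_right hcore (mul_mem (S.cl_mono
    (fun r (hr : D.nroots / 2 ≤ r ∧ r < D.nroots ∧ r ≠ D.simple k) => ⟨hr.1, hr.2.1⟩) hb3)
    (S.X_mem_cl ⟨hp1, hp2⟩ u⁻¹))
  have key : a * m * b * S.X (D.neg (D.simple k)) u =
      (a * m * S.X (D.simple k) (-tb + u⁻¹) * S.nb (D.simple k) (-u⁻¹)) *
      (S.nb (D.simple k) u⁻¹ * ((S.X (D.simple k) (-tb + u⁻¹))⁻¹ * xb⁻¹ *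
        S.X (D.simple k) (-tb + u⁻¹)) * (S.nb (D.simple k) u⁻¹)⁻¹ * S.X (D.simple k) u⁻¹) := by
    rw [hb', hq, ← hn', S.add]
    group
  rw [key]
  exact hfin

theorem inY_all (C : ChevPkg D K) (T : StTab D) : ∀ g : Γ, S.InY g := by
  have h1 : S.InY 1 := ⟨1, one_mem _, 1, one_mem _, 1, one_mem _, by group⟩
  have key : ∀ x ∈ Subgroup.closure {g : Γ | ∃ (k : ℕ) (u : K), k < D.rank ∧
      (g = S.X (D.simple k) u ∨ g = S.X (D.neg (D.simple k)) u)},
      ∀ g, S.InY g → S.InY (g * x) := by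
    intro x hx
    induction hx using Subgroup.closure_induction'' with
    | mem x hx =>
      obtain ⟨k, u, hk, rfl | rfl⟩ := hx
      · intro g hg
        exact S.inY_mul_right hg (S.X_mem_cl (simple_posR C.I hk) u)
      · intro g hg
        exact S.inY_mul_neg C T hg hk u
    | inv_mem x hx =>
      obtain ⟨k, u, hk, rfl | rfl⟩ := hx
      · intro g hg
        rw [← S.X_neg]
        exact S.inY_mul_right hg (S.X_mem_cl (simple_posR C.I hk) (-u))
      · intro g hg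
        rw [← S.X_neg]
        exact S.inY_mul_neg C T hg hk (-u)
    | one =>
      intro g hg
      rwa [mul_one]
    | mul x y _ _ hx hy =>
      intro g hg
      rw [← mul_assoc]
      exact hy _ (hx g hg)
  intro g
  have h2 := key g (by rw [S.gen_simple C T]; exact Subgroup.mem_top g) 1 h1
  rwa [one_mul] at h2

theorem θ_mem_monomial (C : ChevPkg D K) : ∀ m ∈ S.Mb, S.θ m ∈ D.monomialSubgroup K := by
  intro m hm
  have h1 : S.Mb ≤ (D.monomialSubgroup K).comap S.θ := by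
    unfold Mb
    rw [Subgroup.closure_le]
    rintro x ⟨k, t, hk, ht, rfl⟩
    show S.θ (S.nb (D.simple k) t) ∈ D.monomialSubgroup K
    have he := C.I.hU.even
    obtain ⟨hp1, hp2⟩ := simple_posR C.I hk
    have hnp := C.I.hU.negrev _ hp2
    obtain ⟨S0, -⟩ := C.I.hSD ⟨D.simple k, hp2⟩
    have e2 : ((sl2Hom S0 (sl2h t ht) : GL D.Idx K) : Matrix D.Idx D.Idx K) =
        D.hMat K (D.simple k) t := sl2Hom_sl2h S0 t ht
    have e3 : ((sl2Hom S0 (sl2n 1 one_ne_zero) : GL D.Idx K) : Matrix D.Idx D.Idx K) =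
        D.nMat K (D.simple k) 1 := sl2Hom_sl2n S0 1 one_ne_zero
    have e1 : S.θ (S.nb (D.simple k) t) =
        sl2Hom S0 (sl2h t ht) * sl2Hom S0 (sl2n 1 one_ne_zero) := by
      apply Units.ext
      rw [Units.val_mul, S.θ_nb hp2 (by omega), e2, e3]
      exact nMat_eq_hMat_mul_nMat S0 t ht
    rw [e1]
    exact mul_mem (Subgroup.mem_sup_left (Subgroup.subset_closure ⟨D.simple k, t, hp2, ht, e2⟩))
      (Subgroup.mem_sup_right (Subgroup.subset_closure ⟨D.simple k, hp2, e3⟩))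
  exact h1 hm

/-- the kernel of `θ` is central -/
theorem ker_le_center (C : ChevPkg D K) (T : StTab D) : S.θ.ker ≤ Subgroup.center Γ := by
  intro g hg
  rw [MonoidHom.mem_ker] at hg
  obtain ⟨a, ha, m, hm, b, hb, rfl⟩ := S.inY_all C T g
  rw [map_mul, map_mul] at hg
  have hθm : S.θ m = (S.θ a)⁻¹ * (S.θ b)⁻¹ := by
    calc S.θ m = (S.θ a)⁻¹ * (S.θ a * S.θ m * S.θ b) * (S.θ b)⁻¹ := by group
      _ = _ := by rw [hg, mul_one]
  have hU : S.θ m ∈ D.posUnipotent K := by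
    rw [hθm]
    exact mul_mem (inv_mem (S.θ_mem_pos C a ha)) (inv_mem (S.θ_mem_pos C b hb))
  have hN := S.θ_mem_monomial C m hm
  have hH : S.θ m ∈ D.diagonalSubgroup K := by
    rw [← borelSubgroup_inf_monomialSubgroup C.I.hSD C.I.posOK]
    exact ⟨Subgroup.mem_sup_left hU, hN⟩
  have hm1 : S.θ m = 1 := by
    have h1 : S.θ m ∈ D.posUnipotent K ⊓ D.diagonalSubgroup K := ⟨hU, hH⟩
    rw [C.hUH] at h1
    exact Subgroup.mem_bot.mp h1
  have hab : a * b = 1 := by
    apply S.inj_pos C (a * b) (mul_mem ha hb)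
    rw [hm1, mul_one] at hg
    rw [map_mul]
    exact hg
  obtain ⟨π, c, hR, hA⟩ := S.RA_of_mem_Mb C T m hm
  rw [hm1, Units.val_one] at hR
  have hfix : ∀ s, s < D.nroots → π s = s ∧ c s = 1 := by
    intro s hs
    obtain ⟨h1, -, h3⟩ := hR s hs
    have e := h3 1
    rw [one_mul, mul_one, mul_one] at e
    have hπ : π s = s := by
      by_contra hne
      exact one_ne_zero (x_ne_of_ne C.I C.hp hs h1 (fun h => hne h.symm) e)
    rw [hπ] at e
    exact ⟨hπ, (x_inj C.I hs e).symm⟩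
  have hmc : m ∈ Subgroup.center Γ := by
    rw [Subgroup.mem_center_iff]
    intro x
    have hcen : (⊤ : Subgroup Γ) ≤ Subgroup.centralizer {m} := by
      rw [← S.gen, Subgroup.closure_le]
      rintro y ⟨s, u, hs, rfl⟩
      rw [SetLike.mem_coe, Subgroup.mem_centralizer_iff]
      intro z hz
      rw [Set.mem_singleton_iff] at hz
      have h1 := hA s hs u
      rw [(hfix s hs).1, (hfix s hs).2, one_mul] at h1
      rw [hz]
      calc m * S.X s u = m * S.X s u * m⁻¹ * m := by group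
        _ = S.X s u * m := by rw [h1]
    have h2 := hcen (Subgroup.mem_top x)
    rw [Subgroup.mem_centralizer_iff] at h2
    exact (h2 m rfl).symm
  have hb' : b = a⁻¹ := eq_inv_of_mul_eq_one_right hab
  rw [hb']
  rw [Subgroup.mem_center_iff] at hmc ⊢
  have e : a * m * a⁻¹ = m := by
    rw [hmc a]
    group
  rw [e]
  exact hmc

end StData

end Cfsg.Agent.Lib.helper41
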