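/-
helper41: Steinberg's presentation, continued.  The kernel of the map to the Chevalley group lies in
the subgroup generated by the `h̄_p(t)`, `p` fundamental.
-/
import Cfsg.Agent.Lib.helper41.StKer

set_option autoImplicit false

namespace Cfsg.Agent.Lib.helper41

open Cfsg.Lie Cfsg.Agent.Lib.helper22

universe u

/-- the action of a word of fundamental reflections on the root indices -/
def wAct (D : ChevalleyDatum) (w : List ℕ) (r : ℕ) : ℕ :=
  w.foldr (fun i s => D.reflectRoot i s) r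

theorem wAct_append (D : ChevalleyDatum) (w₁ w₂ : List ℕ) (r : ℕ) :
    wAct D (w₁ ++ w₂) r = wAct D w₁ (wAct D w₂ r) := by
  unfold wAct
  rw [List.foldr_append]

namespace StData

variable {D : ChevalleyDatum} {K : Type u} [Field K] {Γ : Type u} [Group Γ] (S : StData D K Γ)

/-- the elements of the kernel of `θ` are in `M̄` -/
theorem ker_mem_Mb (C : ChevPkg D K) (T : StTab D) : ∀ g : Γ, S.θ g = 1 → g ∈ S.Mb := by
  intro g hg
  obtain ⟨a, ha, m, hm, b, hb, rfl⟩ := S.inY_all C T g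
  rw [map_mul, map_mul] at hg
  have hθm : S.θ m = (S.θ a)⁻¹ * (S.θ b)⁻¹ := by
    calc S.θ m = (S.θ a)⁻¹ * (S.θ a * S.θ m * S.θ b) * (S.θ b)⁻¹ := by group
      _ = _ := by rw [hg, mul_one]
  have hU : S.θ m ∈ D.posUnipotent K := by
    rw [hθm]
    exact mul_mem (inv_mem (S.θ_mem_pos C a ha)) (inv_mem (S.θ_mem_pos C b hb))
  have hN := S.θ_mem_monomial C m hm
  have hH : S.θ m ∈ D.diagonalSubgroup K := by
    rw [← borelSubgroup_inf_monomialSubgroup C.I.hSD C.I.posOK]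
    exact ⟨Subgroup.mem_sup_left hU, hN⟩
  have hm1 : S.θ m = 1 := by
    have h1 : S.θ m ∈ D.posUnipotent K ⊓ D.diagonalSubgroup K := ⟨hU, hH⟩
    rw [C.hUH] at h1
    exact Subgroup.mem_bot.mp h1
  have hab : a * b = 1 := by
    apply S.inj_pos C (a * b) (mul_mem ha hb)
    rw [hm1, mul_one] at hg
    rw [map_mul]
    exact hg
  have hmc : m ∈ Subgroup.center Γ := by
    apply S.ker_le_center C T
    rw [MonoidHom.mem_ker]
    exact hm1
  have hb' : b = a⁻¹ := eq_inv_of_mul_eq_one_right hab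
  rw [hb']
  rw [Subgroup.mem_center_iff] at hmc
  have e : a * m * a⁻¹ = m := by
    rw [hmc a]
    group
  rw [e]
  exact hm

/-- `g` acts on the `X s u` through the map `π` of the roots, up to signs -/
def SA (g : Γ) (π : ℕ → ℕ) : Prop :=
  ∃ c : ℕ → K, (∀ s, s < D.nroots → (c s = 1 ∨ c s = -1) ∧ c (D.neg s) = c s) ∧
    (∀ s, s < D.nroots → π s < D.nroots ∧ π (D.neg s) = D.neg (π s)) ∧
    ∀ s, s < D.nroots → ∀ u : K, g * S.X s u * g⁻¹ = S.X (π s) (c s * u)

theorem SA_one : S.SA 1 (fun s => s) :=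
  ⟨fun _ => 1, fun s _ => ⟨Or.inl rfl, rfl⟩, fun s hs => ⟨hs, rfl⟩,
    fun s _ u => by rw [one_mul, inv_one, mul_one, one_mul]⟩

theorem SA_mul {g g' : Γ} {π π' : ℕ → ℕ} (h : S.SA g π) (h' : S.SA g' π') :
    S.SA (g * g') (fun s => π (π' s)) := by
  obtain ⟨c, hc, hπ, hA⟩ := h
  obtain ⟨c', hc', hπ', hA'⟩ := h'
  refine ⟨fun s => c (π' s) * c' s, fun s hs => ⟨?_, ?_⟩,
    fun s hs => ⟨(hπ _ (hπ' s hs).1).1, ?_⟩, fun s hs u => ?_⟩
  · show c (π' s) * c' s = 1 ∨ c (π' s) * c' s = -1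
    rcases (hc _ (hπ' s hs).1).1 with h1 | h1 <;> rcases (hc' s hs).1 with h2 | h2 <;>
      rw [h1, h2] <;> simp
  · show c (π' (D.neg s)) * c' (D.neg s) = c (π' s) * c' s
    rw [(hπ' s hs).2, (hc _ (hπ' s hs).1).2, (hc' s hs).2]
  · show π (π' (D.neg s)) = D.neg (π (π' s))
    rw [(hπ' s hs).2, (hπ _ (hπ' s hs).1).2]
  · have e : g * g' * S.X s u * (g * g')⁻¹ = g * (g' * S.X s u * g'⁻¹) * g⁻¹ := by group
    rw [e, hA' s hs u, hA _ (hπ' s hs).1, mul_assoc]

theorem SA_nb (C : ChevPkg D K) (T : StTab D) {i : ℕ} (hi : i < D.rank) :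
    S.SA (S.nb (D.simple i) 1) (D.reflectRoot i) := by
  have hR : RootAct D K (D.nMat K (D.simple i) 1) (D.reflectRoot i) (fun s => (C.η i s : K)) :=
    rootAct_simple C.I.R i hi
  refine ⟨fun s => (C.η i s : K), fun s hs => ⟨?_, ?_⟩,
    fun s hs => ⟨(hR s hs).1, (hR s hs).2.1⟩,
    fun s hs u => S.nb_act C T hi one_ne_zero hR hs u⟩
  · rcases (C.I.R.refl i s hi hs).1 with h | h
    · left
      show ((C.η i s : ℤ) : K) = 1
      rw [h]
      simp
    · right
      show ((C.η i s : ℤ) : K) = -1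
      rw [h]
      simp
  · show ((C.η i (D.neg s) : ℤ) : K) = ((C.η i s : ℤ) : K)
    rw [C.I.R.eta_neg i s hi hs]

/-- the product of the `n̄_p(1)` along a word of fundamental roots -/
def nbW (w : List ℕ) : Γ := (w.map fun i => S.nb (D.simple i) 1).prod

theorem nbW_nil : S.nbW [] = 1 := by
  unfold nbW
  rw [List.map_nil, List.prod_nil]

theorem nbW_cons (i : ℕ) (w : List ℕ) : S.nbW (i :: w) = S.nb (D.simple i) 1 * S.nbW w := by
  unfold nbW
  rw [List.map_cons, List.prod_cons]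

theorem nbW_append (w₁ w₂ : List ℕ) : S.nbW (w₁ ++ w₂) = S.nbW w₁ * S.nbW w₂ := by
  unfold nbW
  rw [List.map_append, List.prod_append]

theorem nbW_mem_Mb {w : List ℕ} (hw : ∀ i ∈ w, i < D.rank) : S.nbW w ∈ S.Mb := by
  induction w with
  | nil =>
    rw [S.nbW_nil]
    exact one_mem _
  | cons i w ih =>
    rw [S.nbW_cons]
    exact mul_mem (S.nb_mem_Mb (hw i List.mem_cons_self) one_ne_zero)
      (ih fun j hj => hw j (List.mem_cons_of_mem _ hj))

theorem SA_nbW (C : ChevPkg D K) (T : StTab D) :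
    ∀ w : List ℕ, (∀ i ∈ w, i < D.rank) → S.SA (S.nbW w) (wAct D w) := by
  intro w
  induction w with
  | nil =>
    intro _
    rw [S.nbW_nil]
    exact S.SA_one
  | cons i w ih =>
    intro hw
    rw [S.nbW_cons]
    have h := S.SA_mul (π := D.reflectRoot i) (π' := wAct D w)
      (S.SA_nb C T (hw i List.mem_cons_self)) (ih fun j hj => hw j (List.mem_cons_of_mem _ hj))
    exact h

theorem SA_conj_nb {g : Γ} {π : ℕ → ℕ} (h : S.SA g π) {r : ℕ} (hr : r < D.nroots)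
    (hnr : D.neg r < D.nroots) :
    g * S.nb r 1 * g⁻¹ = S.nb (π r) 1 ∨ g * S.nb r 1 * g⁻¹ = (S.nb (π r) 1)⁻¹ := by
  obtain ⟨c, hc, hπ, hA⟩ := h
  have e : g * S.nb r 1 * g⁻¹ = (g * S.X r 1 * g⁻¹) * (g * S.X (D.neg r) (-1⁻¹) * g⁻¹) *
      (g * S.X r 1 * g⁻¹) := by
    unfold nb
    group
  rw [e, hA r hr, hA _ hnr, (hπ r hr).2, (hc r hr).2]
  rcases (hc r hr).1 with h1 | h1
  · left
    rw [h1]
    unfold nb
    simp
  · right
    rw [h1, S.nb_inv]
    unfold nb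
    simp

theorem SA_torus_fix (C : ChevPkg D K) {g : Γ} {π : ℕ → ℕ} (h : S.SA g π)
    (ht : S.θ g ∈ torus D K) : ∀ s, s < D.nroots → π s = s := by
  obtain ⟨c, hc, hπ, hA⟩ := h
  obtain ⟨c0, hR0⟩ := rootAct_torus C.I.hSD ht
  intro s hs
  have e1 : S.θ (S.X (π s) (c s * 1)) = S.θ (S.X s (c0 s * 1)) := by
    rw [← hA s hs 1]
    apply Units.ext
    rw [map_mul, map_mul, map_inv, Units.val_mul, Units.val_mul, S.θX s 1 hs, S.θX _ _ hs,
      (hR0 s hs).2.2 1, mul_assoc, ← Units.val_mul, mul_inv_cancel, Units.val_one, mul_one]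
  have e2 : ((S.θ (S.X (π s) (c s * 1)) : GL D.Idx K) : Matrix D.Idx D.Idx K) =
      ((S.θ (S.X s (c0 s * 1)) : GL D.Idx K) : Matrix D.Idx D.Idx K) :=
    congrArg (fun x : GL D.Idx K => (x : Matrix D.Idx D.Idx K)) e1
  rw [S.θX _ _ (hπ s hs).1, S.θX _ _ hs] at e2
  have hc0 : c0 s ≠ 0 := rootAct_ne_zero_all C.I C.hp hR0 hs
  exact (x_label_inj C.I hs (hπ s hs).1 (by rw [mul_one]; exact hc0) e2.symm).symm

/-- `h̄_r(t)` -/
def hb (r : ℕ) (t : K) : Γ := S.nb r t * S.nb r (-1)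

/-- the subgroup generated by the `h̄_p(t)`, `p` fundamental -/
def Hb : Subgroup Γ :=
  Subgroup.closure {g : Γ | ∃ (k : ℕ) (t : K), k < D.rank ∧ t ≠ 0 ∧ g = S.hb (D.simple k) t}

theorem hb_mem_Hb {k : ℕ} (hk : k < D.rank) {t : K} (ht : t ≠ 0) : S.hb (D.simple k) t ∈ S.Hb :=
  Subgroup.subset_closure ⟨k, t, hk, ht, rfl⟩

theorem nb_eq_hb (r : ℕ) (t : K) : S.nb r t = S.hb r t * S.nb r 1 := by
  unfold hb
  have e : S.nb r (-1) = (S.nb r 1)⁻¹ := (S.nb_inv r 1).symm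
  rw [e, inv_mul_cancel_right]

theorem hb_mem_Mb {k : ℕ} (hk : k < D.rank) {t : K} (ht : t ≠ 0) : S.hb (D.simple k) t ∈ S.Mb :=
  mul_mem (S.nb_mem_Mb hk ht) (S.nb_mem_Mb hk (neg_ne_zero.mpr one_ne_zero))

theorem Hb_le_Mb : S.Hb ≤ S.Mb := by
  unfold Hb
  rw [Subgroup.closure_le]
  rintro x ⟨k, t, hk, ht, rfl⟩
  exact S.hb_mem_Mb hk ht

theorem nb_sq_mem_Hb {k : ℕ} (hk : k < D.rank) :
    S.nb (D.simple k) 1 * S.nb (D.simple k) 1 ∈ S.Hb := by
  have e : S.nb (D.simple k) 1 * S.nb (D.simple k) 1 = (S.hb (D.simple k) (-1))⁻¹ := by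
    unfold hb
    rw [← S.nb_inv, mul_inv_rev, inv_inv]
  rw [e]
  exact inv_mem (S.hb_mem_Hb hk (neg_ne_zero.mpr one_ne_zero))

theorem θ_hb_mem_torus (C : ChevPkg D K) {k : ℕ} (hk : k < D.rank) {t : K} (ht : t ≠ 0) :
    S.θ (S.hb (D.simple k) t) ∈ torus D K := by
  have he := C.I.hU.even
  obtain ⟨hp1, hp2⟩ := simple_posR C.I hk
  have hnp := C.I.hU.negrev _ hp2
  have hnplt : D.neg (D.simple k) < D.nroots := by omega
  obtain ⟨S0, -⟩ := C.I.hSD ⟨D.simple k, hp2⟩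
  have e2 : ((sl2Hom S0 (sl2h t ht) : GL D.Idx K) : Matrix D.Idx D.Idx K) =
      D.hMat K (D.simple k) t := sl2Hom_sl2h S0 t ht
  have e1 : S.θ (S.hb (D.simple k) t) = sl2Hom S0 (sl2h t ht) := by
    apply Units.ext
    rw [e2]
    unfold hb
    rw [map_mul, Units.val_mul, S.θ_nb hp2 hnplt, S.θ_nb hp2 hnplt]
    unfold ChevalleyDatum.hMat ChevalleyDatum.hWord ChevalleyDatum.nMat
    rw [wordMat_append]
  rw [e1]
  exact diagonalSubgroup_le_torus C.I.hSD' (Subgroup.subset_closure ⟨D.simple k, t, hp2, ht, e2⟩)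

theorem θ_Hb_mem_torus (C : ChevPkg D K) : ∀ h ∈ S.Hb, S.θ h ∈ torus D K := by
  intro h hh
  have h1 : S.Hb ≤ (torus D K).comap S.θ := by
    unfold Hb
    rw [Subgroup.closure_le]
    rintro x ⟨k, t, hk, ht, rfl⟩
    show S.θ (S.hb (D.simple k) t) ∈ torus D K
    exact S.θ_hb_mem_torus C hk ht
  exact h1 hh

/-- `g` acts on the `X s u` by scalars, inverse to each other on opposite roots -/
def TA (g : Γ) : Prop :=
  ∃ c : ℕ → K, (∀ s, s < D.nroots → c (D.neg s) * c s = 1) ∧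
    ∀ s, s < D.nroots → ∀ u : K, g * S.X s u * g⁻¹ = S.X s (c s * u)

theorem TA_of_RA (C : ChevPkg D K) {g : Γ} (h : S.RA g) (ht : S.θ g ∈ torus D K) : S.TA g := by
  obtain ⟨π, c, hR, hA⟩ := h
  obtain ⟨cc, hcc, hg⟩ := ht
  refine ⟨fun s => torusChar D K cc s, fun s hs => ?_, fun s hs u => ?_⟩
  · obtain ⟨S0, -⟩ := C.I.hSD ⟨s, hs⟩
    have h1 := torusChar_nr S0 cc hcc
    have h2 : S0.nr.val = D.neg s := S0.nr_val
    rw [h2] at h1
    exact h1
  · obtain ⟨S0, hS0⟩ := C.I.hSD ⟨s, hs⟩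
    have h1 : ((S.θ g : GL D.Idx K) : Matrix D.Idx D.Idx K) * D.x K s 1 =
        D.x K s (torusChar D K cc s * 1) * ((S.θ g : GL D.Idx K) : Matrix D.Idx D.Idx K) := by
      rw [hg, x_eq D K ⟨s, hs⟩ 1, x_eq D K ⟨s, hs⟩]
      exact torusMat_mul_xMat S0 hS0 cc hcc 1
    obtain ⟨hπ, -, h3⟩ := hR s hs
    have e1 : D.x K (π s) (c s * 1) = D.x K s (torusChar D K cc s * 1) := by
      have e2 := (h3 1).symm.trans h1
      have e3 := congrArg (fun M => M * ((S.θ g)⁻¹ : GL D.Idx K).val) e2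
      simpa [mul_assoc] using e3
    have hχ0 : torusChar D K cc s ≠ 0 := torusChar_ne_zero D K cc hcc s
    rw [mul_one, mul_one] at e1
    have hπs : s = π s := x_label_inj C.I hs hπ hχ0 e1.symm
    rw [← hπs] at e1
    have hc : c s = torusChar D K cc s := x_inj C.I hs e1
    have h4 := hA s hs u
    rw [← hπs, hc] at h4
    exact h4

theorem TA_nb {g : Γ} (h : S.TA g) {r : ℕ} (hr : r < D.nroots) (hnr : D.neg r < D.nroots) :
    ∃ d : K, d ≠ 0 ∧ ∀ t : K, g * S.nb r t * g⁻¹ = S.nb r (d * t) := by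
  obtain ⟨c, hc, hA⟩ := h
  have h1 := hc r hr
  refine ⟨c r, right_ne_zero_of_mul_eq_one h1, fun t => ?_⟩
  have e : g * S.nb r t * g⁻¹ = (g * S.X r t * g⁻¹) * (g * S.X (D.neg r) (-t⁻¹) * g⁻¹) *
      (g * S.X r t * g⁻¹) := by
    unfold nb
    group
  rw [e, hA r hr, hA _ hnr]
  unfold nb
  have e2 : c (D.neg r) * -t⁻¹ = -(c r * t)⁻¹ := by
    have e3 : c (D.neg r) = (c r)⁻¹ := eq_inv_of_mul_eq_one_left h1
    rw [e3, mul_inv, mul_neg]
  rw [e2]

theorem TA_of_mem_Hb (C : ChevPkg D K) (T : StTab D) : ∀ h ∈ S.Hb, S.TA h := fun h hh =>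
  S.TA_of_RA C (S.RA_of_mem_Mb C T h (S.Hb_le_Mb hh)) (S.θ_Hb_mem_torus C h hh)

theorem nb_conj_Hb (C : ChevPkg D K) (T : StTab D) {j : ℕ} (hj : j < D.rank) (t : K) :
    ∀ h ∈ S.Hb, S.nb (D.simple j) t * h * (S.nb (D.simple j) t)⁻¹ ∈ S.Hb := by
  have he := C.I.hU.even
  obtain ⟨hp1, hp2⟩ := simple_posR C.I hj
  have hnp := C.I.hU.negrev _ hp2
  have hnplt : D.neg (D.simple j) < D.nroots := by omega
  have key : ∀ d : K, S.nb (D.simple j) (d * t) * (S.nb (D.simple j) t)⁻¹ =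
      S.hb (D.simple j) (d * t) * (S.hb (D.simple j) t)⁻¹ := by
    intro d
    have e1 := S.nb_eq_hb (D.simple j) (d * t)
    have e2 := S.nb_eq_hb (D.simple j) t
    calc S.nb (D.simple j) (d * t) * (S.nb (D.simple j) t)⁻¹
        = (S.hb (D.simple j) (d * t) * S.nb (D.simple j) 1) *
          (S.hb (D.simple j) t * S.nb (D.simple j) 1)⁻¹ := by rw [← e1, ← e2]
      _ = _ := by group
  by_cases ht : t = 0
  · intro h hh
    -- `n̄(0)` is not used; the statement is only applied with `t ≠ 0`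
    have hTA := S.TA_of_mem_Hb C T h hh
    obtain ⟨d, hd, e⟩ := S.TA_nb hTA hp2 hnplt
    have e3 : S.nb (D.simple j) t * h⁻¹ * (S.nb (D.simple j) t)⁻¹ = h⁻¹ := by
      have e4 := e t
      rw [ht, mul_zero] at e4
      rw [ht]
      calc S.nb (D.simple j) 0 * h⁻¹ * (S.nb (D.simple j) 0)⁻¹
          = h⁻¹ * (h * S.nb (D.simple j) 0 * h⁻¹) * (S.nb (D.simple j) 0)⁻¹ := by group
        _ = h⁻¹ := by rw [e4]; group
    have e5 : S.nb (D.simple j) t * h * (S.nb (D.simple j) t)⁻¹ =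
        (S.nb (D.simple j) t * h⁻¹ * (S.nb (D.simple j) t)⁻¹)⁻¹ := by group
    rw [e5, e3, inv_inv]
    exact hh
  · intro h hh
    have hTA := S.TA_of_mem_Hb C T h hh
    obtain ⟨d, hd, e⟩ := S.TA_nb hTA hp2 hnplt
    have e3 : S.nb (D.simple j) t * h⁻¹ * (S.nb (D.simple j) t)⁻¹ =
        h⁻¹ * (S.hb (D.simple j) (d * t) * (S.hb (D.simple j) t)⁻¹) := by
      rw [← key d, ← e t]
      group
    have e5 : S.nb (D.simple j) t * h * (S.nb (D.simple j) t)⁻¹ =
        (S.nb (D.simple j) t * h⁻¹ * (S.nb (D.simple j) t)⁻¹)⁻¹ := by group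
    rw [e5, e3]
    exact inv_mem (mul_mem (inv_mem hh) (mul_mem (S.hb_mem_Hb hj (mul_ne_zero hd ht))
      (inv_mem (S.hb_mem_Hb hj ht))))

theorem Mb_conj_Hb (C : ChevPkg D K) (T : StTab D) :
    ∀ m ∈ S.Mb, ∀ h ∈ S.Hb, m * h * m⁻¹ ∈ S.Hb := by
  intro m hm
  change m ∈ Subgroup.closure {g : Γ | ∃ (k : ℕ) (t : K), k < D.rank ∧ t ≠ 0 ∧
    g = S.nb (D.simple k) t} at hm
  induction hm using Subgroup.closure_induction'' with
  | mem x hx =>
    obtain ⟨k, t, hk, ht, rfl⟩ := hx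
    exact S.nb_conj_Hb C T hk t
  | inv_mem x hx =>
    obtain ⟨k, t, hk, ht, rfl⟩ := hx
    rw [S.nb_inv]
    exact S.nb_conj_Hb C T hk (-t)
  | one =>
    intro h hh
    rw [one_mul, inv_one, mul_one]
    exact hh
  | mul x y _ _ hx hy =>
    intro h hh
    have e : x * y * h * (x * y)⁻¹ = x * (y * h * y⁻¹) * x⁻¹ := by group
    rw [e]
    exact hx _ (hy h hh)

theorem Mb_decomp (C : ChevPkg D K) (T : StTab D) :
    ∀ m ∈ S.Mb, ∃ h ∈ S.Hb, ∃ w : List ℕ, (∀ i ∈ w, i < D.rank) ∧ m = h * S.nbW w := by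
  intro m hm
  change m ∈ Subgroup.closure {g : Γ | ∃ (k : ℕ) (t : K), k < D.rank ∧ t ≠ 0 ∧
    g = S.nb (D.simple k) t} at hm
  have hgen : ∀ (k : ℕ) (t : K), k < D.rank → t ≠ 0 → ∃ h ∈ S.Hb, ∃ w : List ℕ,
      (∀ i ∈ w, i < D.rank) ∧ S.nb (D.simple k) t = h * S.nbW w := by
    intro k t hk ht
    refine ⟨S.hb (D.simple k) t, S.hb_mem_Hb hk ht, [k], ?_, ?_⟩
    · intro i hi
      rw [List.mem_singleton] at hi
      rw [hi]
      exact hk
    · rw [S.nbW_cons, S.nbW_nil, mul_one]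
      exact S.nb_eq_hb _ _
  induction hm using Subgroup.closure_induction'' with
  | mem x hx =>
    obtain ⟨k, t, hk, ht, rfl⟩ := hx
    exact hgen k t hk ht
  | inv_mem x hx =>
    obtain ⟨k, t, hk, ht, rfl⟩ := hx
    rw [S.nb_inv]
    exact hgen k (-t) hk (neg_ne_zero.mpr ht)
  | one => exact ⟨1, one_mem _, [], fun i hi => absurd hi (List.not_mem_nil), by
      rw [S.nbW_nil, mul_one]⟩
  | mul x y hx' _ hx hy =>
    obtain ⟨h1, hh1, w1, hw1, rfl⟩ := hx
    obtain ⟨h2, hh2, w2, hw2, rfl⟩ := hy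
    refine ⟨h1 * (S.nbW w1 * h2 * (S.nbW w1)⁻¹),
      mul_mem hh1 (S.Mb_conj_Hb C T _ (S.nbW_mem_Mb hw1) h2 hh2), w1 ++ w2, ?_, ?_⟩
    · intro i hi
      rcases List.mem_append.mp hi with h | h
      · exact hw1 i h
      · exact hw2 i h
    · rw [S.nbW_append]
      group

theorem exists_exchange (C : ChevPkg D K) (x : ℕ) (hx : x < D.rank) :
    ∀ w : List ℕ, (∀ i ∈ w, i < D.rank) → D.nroots / 2 ≤ wAct D w (D.neg (D.simple x)) →
      ∃ (A : List ℕ) (p : ℕ) (u : List ℕ), w = A ++ p :: u ∧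
        wAct D u (D.neg (D.simple x)) = D.neg (D.simple p) := by
  have he := C.I.hU.even
  obtain ⟨hx1, hx2⟩ := simple_posR C.I hx
  have hnx := C.I.hU.negrev _ hx2
  have hlt : ∀ w : List ℕ, (∀ i ∈ w, i < D.rank) → ∀ s, s < D.nroots →
      wAct D w s < D.nroots := by
    intro w
    induction w with
    | nil =>
      intro _ s hs
      exact hs
    | cons i w ih =>
      intro hw s hs
      have h1 := ih (fun j hj => hw j (List.mem_cons_of_mem _ hj)) s hs
      obtain ⟨_, h2, _⟩ := C.I.R.refl i _ (hw i List.mem_cons_self) h1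
      exact h2
  intro w
  induction w with
  | nil =>
    intro _ h
    exfalso
    have e : wAct D [] (D.neg (D.simple x)) = D.neg (D.simple x) := rfl
    rw [e] at h
    omega
  | cons k w ih =>
    intro hw h
    have hk := hw k List.mem_cons_self
    have hw' : ∀ i ∈ w, i < D.rank := fun j hj => hw j (List.mem_cons_of_mem _ hj)
    have hγ := hlt w hw' (D.neg (D.simple x)) (by omega)
    by_cases hpos : D.nroots / 2 ≤ wAct D w (D.neg (D.simple x))
    · obtain ⟨A, p, u, hA, hu⟩ := ih hw' hpos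
      exact ⟨k :: A, p, u, by rw [hA]; rfl, hu⟩
    · refine ⟨[], k, w, rfl, ?_⟩
      by_contra hne
      obtain ⟨hk1, hk2⟩ := simple_posR C.I hk
      have hnk := C.I.hU.negrev _ hk2
      have hnγ := C.I.hU.negrev _ hγ
      have hw1 := C.I.R.w_up k (D.neg (wAct D w (D.neg (D.simple x)))) hk (by omega) (by omega)
        (by omega)
      have hw2 := C.I.R.w_neg k _ hk hγ
      obtain ⟨_, hlt2, _⟩ := C.I.R.refl k _ hk hγ
      have hn3 := C.I.hU.negrev _ hlt2
      have h' : D.nroots / 2 ≤ D.reflectRoot k (wAct D w (D.neg (D.simple x))) := h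
      rw [hw2] at hw1
      omega

theorem nbW_mem_Hb (C : ChevPkg D K) (T : StTab D) :
    ∀ n (w : List ℕ), w.length = n → (∀ i ∈ w, i < D.rank) → S.θ (S.nbW w) ∈ torus D K →
      S.nbW w ∈ S.Hb := by
  intro n
  induction n using Nat.strong_induction_on with
  | _ n ih =>
    intro w hlen hw htor
    rcases List.eq_nil_or_concat w with rfl | ⟨w', x, rfl⟩
    · rw [S.nbW_nil]
      exact one_mem _
    · rw [List.concat_eq_append] at hlen hw htor ⊢
      have hx : x < D.rank := hw x (by simp)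
      have hw' : ∀ i ∈ w', i < D.rank := fun i hi => hw i (by simp [hi])
      have he := C.I.hU.even
      obtain ⟨hx1, hx2⟩ := simple_posR C.I hx
      have hnx := C.I.hU.negrev _ hx2
      have hSA := S.SA_nbW C T (w' ++ [x]) hw
      have hfix := S.SA_torus_fix C hSA htor
      have h1 : wAct D (w' ++ [x]) (D.simple x) = wAct D w' (D.neg (D.simple x)) := by
        rw [wAct_append]
        congr 1
        exact reflectRoot_self D x
      have h2 : D.nroots / 2 ≤ wAct D w' (D.neg (D.simple x)) := by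
        rw [← h1, hfix _ hx2]
        exact hx1
      obtain ⟨A, p, u, hA, hu⟩ := exists_exchange C x hx w' hw' h2
      subst hA
      have hp : p < D.rank := hw' p (by simp)
      have hA' : ∀ i ∈ A, i < D.rank := fun i hi => hw' i (by simp [hi])
      have hu' : ∀ i ∈ u, i < D.rank := fun i hi => hw' i (by simp [hi])
      obtain ⟨hp1, hp2⟩ := simple_posR C.I hp
      have hnp := C.I.hU.negrev _ hp2
      have hSAu := S.SA_nbW C T u hu'
      have hπu : wAct D u (D.simple x) = D.simple p := by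
        obtain ⟨c, hc, hπ, hAct⟩ := hSAu
        have h3 := (hπ _ hx2).2
        have h4 := (hπ _ hx2).1
        have h5 := C.I.hU.negrev _ h4
        rw [hu] at h3
        omega
      have hconj := S.SA_conj_nb hSAu hx2 (by omega : D.neg (D.simple x) < D.nroots)
      rw [hπu] at hconj
      have hkey : ∃ hh ∈ S.Hb,
          S.nb (D.simple p) 1 * S.nbW u * S.nb (D.simple x) 1 = hh * S.nbW u := by
        rcases hconj with h6 | h6
        · refine ⟨S.nb (D.simple p) 1 * S.nb (D.simple p) 1, S.nb_sq_mem_Hb hp, ?_⟩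
          rw [← h6]
          group
        · refine ⟨1, one_mem _, ?_⟩
          have e7 : S.nbW u * S.nb (D.simple x) 1 = (S.nb (D.simple p) 1)⁻¹ * S.nbW u := by
            rw [← h6]
            group
          rw [mul_assoc, e7]
          group
      obtain ⟨hh, hhH, hkey⟩ := hkey
      have e0 : S.nbW ((A ++ p :: u) ++ [x]) =
          S.nbW A * (S.nb (D.simple p) 1 * S.nbW u * S.nb (D.simple x) 1) := by
        simp only [S.nbW_append, S.nbW_cons, S.nbW_nil, mul_one, mul_assoc]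
      have e : S.nbW ((A ++ p :: u) ++ [x]) =
          (S.nbW A * hh * (S.nbW A)⁻¹) * S.nbW (A ++ u) := by
        rw [e0, hkey, S.nbW_append]
        group
      have hh' : S.nbW A * hh * (S.nbW A)⁻¹ ∈ S.Hb :=
        S.Mb_conj_Hb C T _ (S.nbW_mem_Mb hA') _ hhH
      have htor' : S.θ (S.nbW (A ++ u)) ∈ torus D K := by
        have e2 : S.nbW (A ++ u) =
            (S.nbW A * hh * (S.nbW A)⁻¹)⁻¹ * S.nbW ((A ++ p :: u) ++ [x]) := by
          rw [e]
          group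
        rw [e2, map_mul, map_inv]
        exact mul_mem (inv_mem (S.θ_Hb_mem_torus C _ hh')) htor
      have hlen' : (A ++ u).length < n := by
        rw [← hlen]
        simp
      rw [e]
      exact mul_mem hh' (ih _ hlen' (A ++ u) rfl (fun i hi => by
        rcases List.mem_append.mp hi with h | h
        · exact hA' i h
        · exact hu' i h) htor')

/-- the kernel of `θ` lies in `H̄` -/
theorem ker_mem_Hb (C : ChevPkg D K) (T : StTab D) : ∀ g : Γ, S.θ g = 1 → g ∈ S.Hb := by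
  intro g hg
  have hm := S.ker_mem_Mb C T g hg
  obtain ⟨h, hh, w, hw, rfl⟩ := S.Mb_decomp C T g hm
  have htor : S.θ (S.nbW w) ∈ torus D K := by
    have e : S.nbW w = h⁻¹ * (h * S.nbW w) := by group
    rw [e, map_mul, hg, mul_one, map_inv]
    exact inv_mem (S.θ_Hb_mem_torus C h hh)
  exact mul_mem hh (S.nbW_mem_Hb C T _ w rfl hw htor)

end StData

end Cfsg.Agent.Lib.helper41
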