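/-
helper41: the table checks of `StTab` for type B2 (generated).
-/
import Cfsg.Agent.Lib.helper41.StTab
import Cfsg.Prelude.Def_ChevB2

set_option autoImplicit false
set_option maxRecDepth 100000

namespace Cfsg.Agent.Lib.helper41

open Cfsg.Lie

theorem negNormRow_B2_0 : negNormRow chevB2 0 = true := by decide +kernel

theorem negNormRow_B2_1 : negNormRow chevB2 1 = true := by decide +kernel

theorem witP_B2_0 : WitP chevB2 0 1 1 7 0 (-1) 1 1 := by decide +kernel

theorem witP_B2_1 : WitP chevB2 1 0 0 6 1 1 1 2 := by decide +kernel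

theorem stTab_B2 : StTab chevB2 := by
  refine ⟨?_, ?_⟩
  · intro i hi
    have hi' : i < 2 := hi
    interval_cases i
    · exact negNormRow_B2_0
    · exact negNormRow_B2_1
  · intro k hk
    have hk' : k < 2 := hk
    interval_cases k
    · exact ⟨_, _, _, _, _, _, _, witP_B2_0⟩
    · exact ⟨_, _, _, _, _, _, _, witP_B2_1⟩

end Cfsg.Agent.Lib.helper41
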