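/-
helper41: the table checks of `StTab` for type D4 (generated).
-/
import Cfsg.Agent.Lib.helper41.StTab
import Cfsg.Prelude.Def_ChevD4

set_option autoImplicit false
set_option maxRecDepth 100000

namespace Cfsg.Agent.Lib.helper41

open Cfsg.Lie

theorem negNormRow_D4_0 : negNormRow chevD4 0 = true := by decide +kernel

theorem negNormRow_D4_1 : negNormRow chevD4 1 = true := by decide +kernel

theorem negNormRow_D4_2 : negNormRow chevD4 2 = true := by decide +kernel

theorem negNormRow_D4_3 : negNormRow chevD4 3 = true := by decide +kernel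

theorem witP_D4_0 : WitP chevD4 0 1 6 22 0 1 1 1 := by decide +kernel

theorem witP_D4_1 : WitP chevD4 1 0 1 23 0 (-1) 1 1 := by decide +kernel

theorem witP_D4_2 : WitP chevD4 2 0 3 22 0 (-1) 1 1 := by decide +kernel

theorem witP_D4_3 : WitP chevD4 3 0 2 22 0 (-1) 1 1 := by decide +kernel

theorem stTab_D4 : StTab chevD4 := by
  refine ⟨?_, ?_⟩
  · intro i hi
    have hi' : i < 4 := hi
    interval_cases i
    · exact negNormRow_D4_0
    · exact negNormRow_D4_1
    · exact negNormRow_D4_2
    · exact negNormRow_D4_3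
  · intro k hk
    have hk' : k < 4 := hk
    interval_cases k
    · exact ⟨_, _, _, _, _, _, _, witP_D4_0⟩
    · exact ⟨_, _, _, _, _, _, _, witP_D4_1⟩
    · exact ⟨_, _, _, _, _, _, _, witP_D4_2⟩
    · exact ⟨_, _, _, _, _, _, _, witP_D4_3⟩

end Cfsg.Agent.Lib.helper41
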