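/-
helper41: the table checks of `StTab` for type E6 (generated).
-/
import Cfsg.Agent.Lib.helper41.StTab
import Cfsg.Prelude.Def_ChevE6

set_option autoImplicit false
set_option maxRecDepth 100000

namespace Cfsg.Agent.Lib.helper41

open Cfsg.Lie

theorem negNormRow_E6_0 : negNormRow chevE6 0 = true := by decide +kernel

theorem negNormRow_E6_1 : negNormRow chevE6 1 = true := by decide +kernel

theorem negNormRow_E6_2 : negNormRow chevE6 2 = true := by decide +kernel

theorem negNormRow_E6_3 : negNormRow chevE6 3 = true := by decide +kernel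

theorem negNormRow_E6_4 : negNormRow chevE6 4 = true := by decide +kernel

theorem negNormRow_E6_5 : negNormRow chevE6 5 = true := by decide +kernel

theorem witP_E6_0 : WitP chevE6 0 1 16 66 0 1 1 1 := by decide +kernel

theorem witP_E6_1 : WitP chevE6 1 0 1 71 0 (-1) 1 1 := by decide +kernel

theorem witP_E6_2 : WitP chevE6 2 0 5 69 0 (-1) 1 1 := by decide +kernel

theorem witP_E6_3 : WitP chevE6 3 0 2 70 0 (-1) 1 1 := by decide +kernel

theorem witP_E6_4 : WitP chevE6 4 0 3 69 0 (-1) 1 1 := by decide +kernel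

theorem witP_E6_5 : WitP chevE6 5 0 4 68 0 (-1) 1 1 := by decide +kernel

theorem stTab_E6 : StTab chevE6 := by
  refine ⟨?_, ?_⟩
  · intro i hi
    have hi' : i < 6 := hi
    interval_cases i
    · exact negNormRow_E6_0
    · exact negNormRow_E6_1
    · exact negNormRow_E6_2
    · exact negNormRow_E6_3
    · exact negNormRow_E6_4
    · exact negNormRow_E6_5
  · intro k hk
    have hk' : k < 6 := hk
    interval_cases k
    · exact ⟨_, _, _, _, _, _, _, witP_E6_0⟩
    · exact ⟨_, _, _, _, _, _, _, witP_E6_1⟩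
    · exact ⟨_, _, _, _, _, _, _, witP_E6_2⟩
    · exact ⟨_, _, _, _, _, _, _, witP_E6_3⟩
    · exact ⟨_, _, _, _, _, _, _, witP_E6_4⟩
    · exact ⟨_, _, _, _, _, _, _, witP_E6_5⟩

end Cfsg.Agent.Lib.helper41
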