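/-
helper41: the table checks of `StTab` for type E7 (generated).
-/
import Cfsg.Agent.Lib.helper41.StTab
import Cfsg.Prelude.Def_ChevE7

set_option autoImplicit false
set_option maxRecDepth 100000

namespace Cfsg.Agent.Lib.helper41

open Cfsg.Lie

theorem negNormRow_E7_0 : negNormRow chevE7 0 = true := by decide +kernel

theorem negNormRow_E7_1 : negNormRow chevE7 1 = true := by decide +kernel

theorem negNormRow_E7_2 : negNormRow chevE7 2 = true := by decide +kernel

theorem negNormRow_E7_3 : negNormRow chevE7 3 = true := by decide +kernel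

theorem negNormRow_E7_4 : negNormRow chevE7 4 = true := by decide +kernel

theorem negNormRow_E7_5 : negNormRow chevE7 5 = true := by decide +kernel

theorem negNormRow_E7_6 : negNormRow chevE7 6 = true := by decide +kernel

theorem witP_E7_0 : WitP chevE7 0 1 1 125 0 (-1) 1 1 := by decide +kernel

theorem witP_E7_1 : WitP chevE7 1 0 7 122 0 (-1) 1 1 := by decide +kernel

theorem witP_E7_2 : WitP chevE7 2 0 2 124 0 (-1) 1 1 := by decide +kernel

theorem witP_E7_3 : WitP chevE7 3 0 3 123 0 (-1) 1 1 := by decide +kernel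

theorem witP_E7_4 : WitP chevE7 4 0 4 122 0 (-1) 1 1 := by decide +kernel

theorem witP_E7_5 : WitP chevE7 5 0 5 121 0 (-1) 1 1 := by decide +kernel

theorem witP_E7_6 : WitP chevE7 6 0 6 120 0 (-1) 1 1 := by decide +kernel

theorem stTab_E7 : StTab chevE7 := by
  refine ⟨?_, ?_⟩
  · intro i hi
    have hi' : i < 7 := hi
    interval_cases i
    · exact negNormRow_E7_0
    · exact negNormRow_E7_1
    · exact negNormRow_E7_2
    · exact negNormRow_E7_3
    · exact negNormRow_E7_4
    · exact negNormRow_E7_5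
    · exact negNormRow_E7_6
  · intro k hk
    have hk' : k < 7 := hk
    interval_cases k
    · exact ⟨_, _, _, _, _, _, _, witP_E7_0⟩
    · exact ⟨_, _, _, _, _, _, _, witP_E7_1⟩
    · exact ⟨_, _, _, _, _, _, _, witP_E7_2⟩
    · exact ⟨_, _, _, _, _, _, _, witP_E7_3⟩
    · exact ⟨_, _, _, _, _, _, _, witP_E7_4⟩
    · exact ⟨_, _, _, _, _, _, _, witP_E7_5⟩
    · exact ⟨_, _, _, _, _, _, _, witP_E7_6⟩

end Cfsg.Agent.Lib.helper41
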