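/-
helper41: the table checks of `StTab` for type E8 (generated).
-/
import Cfsg.Agent.Lib.helper41.StTab
import Cfsg.Prelude.Def_ChevE8

set_option autoImplicit false
set_option maxRecDepth 100000

namespace Cfsg.Agent.Lib.helper41

open Cfsg.Lie

theorem negNormRow_E8_0 : negNormRow chevE8 0 = true := by decide +kernel

theorem negNormRow_E8_1 : negNormRow chevE8 1 = true := by decide +kernel

theorem negNormRow_E8_2 : negNormRow chevE8 2 = true := by decide +kernel

theorem negNormRow_E8_3 : negNormRow chevE8 3 = true := by decide +kernel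

theorem negNormRow_E8_4 : negNormRow chevE8 4 = true := by decide +kernel

theorem negNormRow_E8_5 : negNormRow chevE8 5 = true := by decide +kernel

theorem negNormRow_E8_6 : negNormRow chevE8 6 = true := by decide +kernel

theorem negNormRow_E8_7 : negNormRow chevE8 7 = true := by decide +kernel

theorem witP_E8_0 : WitP chevE8 0 1 14 233 0 (-1) 1 1 := by decide +kernel

theorem witP_E8_1 : WitP chevE8 1 0 7 234 0 (-1) 1 1 := by decide +kernel

theorem witP_E8_2 : WitP chevE8 2 0 6 234 0 (-1) 1 1 := by decide +kernel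

theorem witP_E8_3 : WitP chevE8 3 0 5 235 0 (-1) 1 1 := by decide +kernel

theorem witP_E8_4 : WitP chevE8 4 0 4 236 0 (-1) 1 1 := by decide +kernel

theorem witP_E8_5 : WitP chevE8 5 0 3 237 0 (-1) 1 1 := by decide +kernel

theorem witP_E8_6 : WitP chevE8 6 0 2 238 0 (-1) 1 1 := by decide +kernel

theorem witP_E8_7 : WitP chevE8 7 0 1 239 0 (-1) 1 1 := by decide +kernel

theorem stTab_E8 : StTab chevE8 := by
  refine ⟨?_, ?_⟩
  · intro i hi
    have hi' : i < 8 := hi
    interval_cases i
    · exact negNormRow_E8_0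
    · exact negNormRow_E8_1
    · exact negNormRow_E8_2
    · exact negNormRow_E8_3
    · exact negNormRow_E8_4
    · exact negNormRow_E8_5
    · exact negNormRow_E8_6
    · exact negNormRow_E8_7
  · intro k hk
    have hk' : k < 8 := hk
    interval_cases k
    · exact ⟨_, _, _, _, _, _, _, witP_E8_0⟩
    · exact ⟨_, _, _, _, _, _, _, witP_E8_1⟩
    · exact ⟨_, _, _, _, _, _, _, witP_E8_2⟩
    · exact ⟨_, _, _, _, _, _, _, witP_E8_3⟩
    · exact ⟨_, _, _, _, _, _, _, witP_E8_4⟩
    · exact ⟨_, _, _, _, _, _, _, witP_E8_5⟩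
    · exact ⟨_, _, _, _, _, _, _, witP_E8_6⟩
    · exact ⟨_, _, _, _, _, _, _, witP_E8_7⟩

end Cfsg.Agent.Lib.helper41
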