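/-
helper41: the table checks of `StTab` for the seven tabulated data.
-/
import Cfsg.Agent.Lib.helper41.StTabG2
import Cfsg.Agent.Lib.helper41.StTabB2
import Cfsg.Agent.Lib.helper41.StTabD4
import Cfsg.Agent.Lib.helper41.StTabF4
import Cfsg.Agent.Lib.helper41.StTabE6
import Cfsg.Agent.Lib.helper41.StTabE7
import Cfsg.Agent.Lib.helper41.StTabE8

set_option autoImplicit false

namespace Cfsg.Agent.Lib.helper41

open Cfsg.Lie

theorem stTab_all (D : ChevalleyDatum)
    (hD : D ∈ [chevG2, chevB2, chevD4, chevF4, chevE6, chevE7, chevE8]) : StTab D := by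
  simp only [List.mem_cons, List.not_mem_nil, or_false] at hD
  rcases hD with rfl | rfl | rfl | rfl | rfl | rfl | rfl
  · exact stTab_G2
  · exact stTab_B2
  · exact stTab_D4
  · exact stTab_F4
  · exact stTab_E6
  · exact stTab_E7
  · exact stTab_E8

end Cfsg.Agent.Lib.helper41
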