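/-
helper41: Steinberg's presentation, the presented groups.  A group presented by the symbols
`x̄_r(t)` and a set of relators containing (R1) and (R2) and holding in the Chevalley group maps onto
the Chevalley group with central kernel.
-/
import Cfsg.Agent.Lib.helper41.StKer
import Cfsg.Agent.Lib.helper41.StTabAll
import Cfsg.Prelude.Def_SteinbergCover

set_option autoImplicit false

namespace Cfsg.Agent.Lib.helper41

open Cfsg.Lie Cfsg.Agent.Lib.helper22

universe u

section

variable {D : ChevalleyDatum} {K : Type u} [Field K]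

/-- the images of the generators -/
def stGenMap (hSD : ∀ r : Fin D.nroots, Nonempty (StringData D r)) (p : Fin D.nroots × K) :
    GL D.Idx K := Cfsg.Agent.Lib.helper22.xGL hSD p.1.val p.2

theorem lift_stX (hSD : ∀ r : Fin D.nroots, Nonempty (StringData D r)) (r : ℕ) (t : K) :
    FreeGroup.lift (stGenMap hSD) (D.stX r t) = Cfsg.Agent.Lib.helper22.xGL hSD r t := by
  unfold ChevalleyDatum.stX
  split_ifs with h
  · rw [FreeGroup.lift_apply_of]
    rfl
  · rw [map_one]
    apply Units.ext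
    rw [Units.val_one, Cfsg.Agent.Lib.helper22.xGL_coe]
    unfold ChevalleyDatum.x
    rw [dif_neg h]

theorem lift_stWord (hSD : ∀ r : Fin D.nroots, Nonempty (StringData D r)) (w : List (ℕ × K)) :
    ((FreeGroup.lift (stGenMap hSD) (D.stWord w) : GL D.Idx K) : Matrix D.Idx D.Idx K) =
      D.wordMat K w := by
  induction w with
  | nil =>
    unfold ChevalleyDatum.stWord
    rw [List.map_nil, List.prod_nil, map_one, Units.val_one, wordMat_nil]
  | cons p w ih =>
    have e : D.stWord (p :: w) = D.stX p.1 p.2 * D.stWord w := by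
      unfold ChevalleyDatum.stWord
      rw [List.map_cons, List.prod_cons]
    rw [e, map_mul, Units.val_mul, ih, lift_stX, Cfsg.Agent.Lib.helper22.xGL_coe, wordMat_cons]

theorem lift_relAB (hSD : ∀ r : Fin D.nroots, Nonempty (StringData D r)) (hcomm : CommFormula D K) :
    ∀ g ∈ D.steinbergRelsAB K, FreeGroup.lift (stGenMap hSD) g = 1 := by
  intro g hg
  rcases hg with ⟨r, t₁, t₂, hr, rfl⟩ | ⟨r, s, t, u, hr, hs, hsr, hsn, rfl⟩
  · rw [map_mul, map_mul, map_inv, lift_stX, lift_stX, lift_stX, ← Cfsg.Agent.Lib.helper22.xGL_add, mul_inv_cancel]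
  · rw [map_mul, map_mul, map_mul, map_mul, map_inv, map_inv, map_inv, lift_stX, lift_stX]
    have e : Cfsg.Agent.Lib.helper22.xGL hSD s u * Cfsg.Agent.Lib.helper22.xGL hSD r t = Cfsg.Agent.Lib.helper22.xGL hSD r t * Cfsg.Agent.Lib.helper22.xGL hSD s u *
        FreeGroup.lift (stGenMap hSD) (D.stWord (D.commWord K r s t u)) := by
      apply Units.ext
      rw [Units.val_mul, Units.val_mul, Units.val_mul, lift_stWord, Cfsg.Agent.Lib.helper22.xGL_coe, Cfsg.Agent.Lib.helper22.xGL_coe]
      exact hcomm r s hr hs hsr hsn t u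
    have e' : FreeGroup.lift (stGenMap hSD) (D.stWord (D.commWord K r s t u)) =
        (Cfsg.Agent.Lib.helper22.xGL hSD r t * Cfsg.Agent.Lib.helper22.xGL hSD s u)⁻¹ * (Cfsg.Agent.Lib.helper22.xGL hSD s u * Cfsg.Agent.Lib.helper22.xGL hSD r t) := by
      rw [e]
      group
    rw [e']
    group

theorem sl2h_mul_sl2h (t₁ t₂ : K) (h₁ : t₁ ≠ 0) (h₂ : t₂ ≠ 0) :
    sl2h t₁ h₁ * sl2h t₂ h₂ = sl2h (t₁ * t₂) (mul_ne_zero h₁ h₂) := by
  apply Subtype.ext
  show !![t₁, 0; 0, t₁⁻¹] * !![t₂, 0; 0, t₂⁻¹] = !![t₁ * t₂, 0; 0, (t₁ * t₂)⁻¹]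
  ext i j
  fin_cases i <;> fin_cases j <;> simp [Matrix.mul_apply, Fin.sum_univ_two, mul_comm]

theorem lift_rel (hSD : ∀ r : Fin D.nroots, Nonempty (StringData D r)) (hcomm : CommFormula D K) :
    ∀ g ∈ D.steinbergRels K, FreeGroup.lift (stGenMap hSD) g = 1 := by
  intro g hg
  rcases hg with hg | ⟨r, t₁, t₂, hr, h₁, h₂, rfl⟩
  · exact lift_relAB hSD hcomm g hg
  · obtain ⟨S0⟩ := hSD ⟨r, hr⟩
    have key : ∀ (t : K) (ht : t ≠ 0),
        FreeGroup.lift (stGenMap hSD) (D.stH r t) = sl2Hom S0 (sl2h t ht) := by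
      intro t ht
      apply Units.ext
      have e : ((sl2Hom S0 (sl2h t ht) : GL D.Idx K) : Matrix D.Idx D.Idx K) = D.hMat K r t :=
        sl2Hom_sl2h S0 t ht
      rw [e]
      exact lift_stWord hSD (D.hWord r t)
    rw [map_mul, map_mul, map_inv, key t₁ h₁, key t₂ h₂, key (t₁ * t₂) (mul_ne_zero h₁ h₂),
      ← map_mul, sl2h_mul_sl2h, mul_inv_cancel]

/-- the Steinberg data of a presented group whose relators contain (R1) and (R2) and hold in the
Chevalley group -/
noncomputable def stDataOf (hSD : ∀ r : Fin D.nroots, Nonempty (StringData D r))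
    (rels : Set (FreeGroup (Fin D.nroots × K))) (hAB : D.steinbergRelsAB K ⊆ rels)
    (hrel : ∀ g ∈ rels, FreeGroup.lift (stGenMap hSD) g = 1) :
    StData D K (PresentedGroup rels) where
  X r t := PresentedGroup.mk rels (D.stX r t)
  θ := PresentedGroup.toGroup hrel
  add := by
    intro r t u
    by_cases hr : r < D.nroots
    · have h1 : D.stX r t * D.stX r u * (D.stX r (t + u))⁻¹ ∈ rels :=
        hAB (Or.inl ⟨r, t, u, hr, rfl⟩)
      have h2 := PresentedGroup.one_of_mem h1
      rw [map_mul, map_mul, map_inv] at h2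
      exact (mul_inv_eq_one.mp h2).symm
    · have h0 : ∀ v : K, D.stX r v = 1 := fun v => by
        unfold ChevalleyDatum.stX
        rw [dif_neg hr]
      simp only [h0, map_one, mul_one]
  comm := by
    intro r s hr hs hsr hsn t u
    have h1 : (D.stX s u)⁻¹ * (D.stX r t)⁻¹ * D.stX s u * D.stX r t *
        (D.stWord (D.commWord K r s t u))⁻¹ ∈ rels :=
      hAB (Or.inr ⟨r, s, t, u, hr, hs, hsr, hsn, rfl⟩)
    have h2 := PresentedGroup.one_of_mem h1
    rw [map_mul, map_mul, map_mul, map_mul, map_inv, map_inv, map_inv] at h2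
    have h3 : PresentedGroup.mk rels (D.stWord (D.commWord K r s t u)) =
        ((D.commWord K r s t u).map fun p => PresentedGroup.mk rels (D.stX p.1 p.2)).prod := by
      unfold ChevalleyDatum.stWord
      rw [map_list_prod, List.map_map]
      rfl
    rw [h3] at h2
    have h4 := mul_inv_eq_one.mp h2
    rw [← h4]
    group
  θX := by
    intro r t hr
    show ((FreeGroup.lift (stGenMap hSD) (D.stX r t) : GL D.Idx K) : Matrix D.Idx D.Idx K) =
      D.x K r t
    rw [lift_stX, Cfsg.Agent.Lib.helper22.xGL_coe]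
  gen := by
    rw [eq_top_iff, ← PresentedGroup.closure_range_of rels, Subgroup.closure_le]
    rintro _ ⟨⟨r, t⟩, rfl⟩
    refine Subgroup.subset_closure ⟨r.val, t, r.isLt, ?_⟩
    unfold ChevalleyDatum.stX
    rw [dif_pos r.isLt]
    rfl

/-- a group presented by relators containing (R1), (R2) and holding in the Chevalley group maps onto
the Chevalley group with central kernel -/
theorem pres_central (D : ChevalleyDatum)
    (hD : D ∈ [chevG2, chevB2, chevD4, chevF4, chevE6, chevE7, chevE8]) (K : Type u) [Field K]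
    (hSD : ∀ r : Fin D.nroots, Nonempty (StringData D r))
    (rels : Set (FreeGroup (Fin D.nroots × K))) (hAB : D.steinbergRelsAB K ⊆ rels)
    (hrel : ∀ g ∈ rels, FreeGroup.lift (stGenMap hSD) g = 1) :
    ∃ θ : PresentedGroup rels →* ↥(D.group K), Function.Surjective θ ∧
      θ.ker ≤ Subgroup.center (PresentedGroup rels) ∧
      ∀ (r : ℕ) (t : K), r < D.nroots →
        ((θ (PresentedGroup.mk rels (D.stX r t)) : GL D.Idx K) : Matrix D.Idx D.Idx K) =
          D.x K r t := by
  obtain ⟨C⟩ := chevPkg_all D hD K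
  obtain ⟨S, hSX⟩ : ∃ S : StData D K (PresentedGroup rels),
      ∀ (r : ℕ) (t : K), S.X r t = PresentedGroup.mk rels (D.stX r t) :=
    ⟨stDataOf hSD rels hAB hrel, fun _ _ => rfl⟩
  have hker := S.ker_le_center C (stTab_all D hD)
  have hmem : ∀ x, S.θ x ∈ D.group K := by
    intro x
    have h1 : (⊤ : Subgroup (PresentedGroup rels)) ≤ (D.group K).comap S.θ := by
      rw [← S.gen, Subgroup.closure_le]
      rintro y ⟨r, t, hr, rfl⟩
      show S.θ (S.X r t) ∈ D.group K
      exact Subgroup.subset_closure ⟨⟨r, hr⟩, t, by rw [S.θX r t hr, x_eq D K ⟨r, hr⟩]⟩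
    exact h1 (Subgroup.mem_top x)
  refine ⟨S.θ.codRestrict (D.group K) hmem, ?_, ?_, ?_⟩
  · rintro ⟨y, hy⟩
    have h2 : D.group K ≤ S.θ.range := by
      unfold ChevalleyDatum.group
      rw [Subgroup.closure_le]
      rintro g ⟨r, t, hg⟩
      exact ⟨S.X r.val t, Units.ext (by rw [S.θX r.val t r.isLt, hg, x_eq D K r t])⟩
    obtain ⟨x, hx⟩ := h2 hy
    exact ⟨x, Subtype.ext hx⟩
  · intro g hg
    apply hker
    rw [MonoidHom.mem_ker] at hg ⊢
    exact congrArg Subtype.val hg
  · intro r t hr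
    rw [← hSX]
    exact S.θX r t hr

end

end Cfsg.Agent.Lib.helper41
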