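/-
helper41: Steinberg's presentation, the presented groups: the kernel of a homomorphism to the
Chevalley group matching the generators lies in the subgroup generated by the `h̄_p(t)`.
-/
import Cfsg.Agent.Lib.helper41.StInst
import Cfsg.Agent.Lib.helper41.StDiag

set_option autoImplicit false

namespace Cfsg.Agent.Lib.helper41

open Cfsg.Lie Cfsg.Agent.Lib.helper22

universe u

section

variable {D : ChevalleyDatum} {K : Type u} [Field K]

theorem hb_stDataOf (hSD : ∀ r : Fin D.nroots, Nonempty (StringData D r))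
    (rels : Set (FreeGroup (Fin D.nroots × K))) (hAB : D.steinbergRelsAB K ⊆ rels)
    (hrel : ∀ g ∈ rels, FreeGroup.lift (stGenMap hSD) g = 1) (r : ℕ) (t : K) :
    (stDataOf hSD rels hAB hrel).hb r t = PresentedGroup.mk rels (D.stH r t) := by
  unfold StData.hb StData.nb ChevalleyDatum.stH ChevalleyDatum.hWord ChevalleyDatum.nWord
    ChevalleyDatum.stWord
  simp [stDataOf, mul_assoc]

/-- the kernel of a homomorphism to the Chevalley group matching the generators lies in `H̄` -/
theorem pres_ker_le_diag (D : ChevalleyDatum)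
    (hD : D ∈ [chevG2, chevB2, chevD4, chevF4, chevE6, chevE7, chevE8]) (K : Type u) [Field K]
    (hSD : ∀ r : Fin D.nroots, Nonempty (StringData D r))
    (rels : Set (FreeGroup (Fin D.nroots × K))) (hAB : D.steinbergRelsAB K ⊆ rels)
    (hrel : ∀ g ∈ rels, FreeGroup.lift (stGenMap hSD) g = 1)
    (θ : PresentedGroup rels →* ↥(D.group K))
    (hθ : ∀ (r : ℕ) (t : K), r < D.nroots →
      ((θ (PresentedGroup.mk rels (D.stX r t)) : GL D.Idx K) : Matrix D.Idx D.Idx K) =
        D.x K r t) :
    θ.ker ≤ Subgroup.closure {h | ∃ (i : ℕ) (t : K), i < D.rank ∧ t ≠ 0 ∧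
      h = PresentedGroup.mk rels (D.stH (D.simple i) t)} := by
  obtain ⟨C⟩ := chevPkg_all D hD K
  have T := stTab_all D hD
  obtain ⟨S, hSX, hShb⟩ : ∃ S : StData D K (PresentedGroup rels),
      (∀ (r : ℕ) (t : K), S.X r t = PresentedGroup.mk rels (D.stX r t)) ∧
      (∀ (r : ℕ) (t : K), S.hb r t = PresentedGroup.mk rels (D.stH r t)) :=
    ⟨stDataOf hSD rels hAB hrel, fun _ _ => rfl, hb_stDataOf hSD rels hAB hrel⟩
  have hagree : ∀ g, ((θ g : ↥(D.group K)) : GL D.Idx K) = S.θ g := by
    intro g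
    have h1 : (⊤ : Subgroup (PresentedGroup rels)) ≤
        ((D.group K).subtype.comp θ).eqLocus S.θ := by
      rw [← S.gen, Subgroup.closure_le]
      rintro y ⟨r, t, hr, rfl⟩
      show ((θ (S.X r t) : ↥(D.group K)) : GL D.Idx K) = S.θ (S.X r t)
      apply Units.ext
      rw [S.θX r t hr, hSX, hθ r t hr]
    exact h1 (Subgroup.mem_top g)
  intro g hg
  rw [MonoidHom.mem_ker] at hg
  have hg' : S.θ g = 1 := by
    rw [← hagree, hg]
    rfl
  have h2 := S.ker_mem_Hb C T g hg'
  have h3 : S.Hb ≤ Subgroup.closure {h | ∃ (i : ℕ) (t : K), i < D.rank ∧ t ≠ 0 ∧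
      h = PresentedGroup.mk rels (D.stH (D.simple i) t)} := by
    unfold StData.Hb
    apply Subgroup.closure_mono
    rintro x ⟨k, t, hk, ht, rfl⟩
    exact ⟨k, t, hk, ht, hShb _ _⟩
  exact h3 h2

end

end Cfsg.Agent.Lib.helper41
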