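/-
helper41: Steinberg's presentation: with the relations (R3) on the fundamental roots and an integral
inverse of the Cartan matrix, the homomorphism to the Chevalley group is injective on `H̄`.
-/
import Cfsg.Agent.Lib.helper41.StDiag

set_option autoImplicit false

namespace Cfsg.Agent.Lib.helper41

open Cfsg.Lie Cfsg.Agent.Lib.helper22

universe u

namespace StData

variable {D : ChevalleyDatum} {K : Type u} [Field K] {Γ : Type u} [Group Γ] (S : StData D K Γ)

/-- multiplicativity of `h̄_p` on the fundamental roots -/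
def R3 : Prop := ∀ k, k < D.rank → ∀ t₁ t₂ : K, t₁ ≠ 0 → t₂ ≠ 0 →
  S.hb (D.simple k) t₁ * S.hb (D.simple k) t₂ = S.hb (D.simple k) (t₁ * t₂)

theorem hb_one (r : ℕ) : S.hb r 1 = 1 := by
  unfold hb
  rw [← S.nb_inv r 1, mul_inv_cancel]

theorem hb_comm (C : ChevPkg D K) (T : StTab D) (hR3 : S.R3) {h : Γ} (hh : h ∈ S.Hb) {k : ℕ}
    (hk : k < D.rank) {t : K} (ht : t ≠ 0) :
    h * S.hb (D.simple k) t = S.hb (D.simple k) t * h := by
  obtain ⟨hp1, hp2⟩ := simple_posR C.I hk
  have hnp := C.I.hU.negrev _ hp2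
  have hnplt : D.neg (D.simple k) < D.nroots := by omega
  obtain ⟨d, hd, hconj⟩ := S.TA_nb (S.TA_of_mem_Hb C T h hh) hp2 hnplt
  have e1 : h * S.hb (D.simple k) t * h⁻¹ = S.hb (D.simple k) t := by
    have e2 : h * S.hb (D.simple k) t * h⁻¹ =
        (h * S.nb (D.simple k) t * h⁻¹) * (h * S.nb (D.simple k) (-1) * h⁻¹) := by
      unfold hb
      group
    rw [e2, hconj, hconj, mul_neg, mul_one, ← S.nb_inv, S.nb_eq_hb (D.simple k) (d * t),
      S.nb_eq_hb (D.simple k) d, mul_inv_rev, ← mul_assoc, mul_inv_cancel_right,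
      mul_comm d t, ← hR3 k hk t d ht hd, mul_inv_cancel_right]
  calc h * S.hb (D.simple k) t = (h * S.hb (D.simple k) t * h⁻¹) * h := by group
    _ = S.hb (D.simple k) t * h := by rw [e1]

/-- the ordered product of the `h̄_{p_i}(τ_i)`, `i < n` -/
def hbP (n : ℕ) (τ : ℕ → K) : Γ := ((List.range n).map fun i => S.hb (D.simple i) (τ i)).prod

theorem hbP_zero (τ : ℕ → K) : S.hbP 0 τ = 1 := by
  unfold hbP
  simp

theorem hbP_succ (n : ℕ) (τ : ℕ → K) :
    S.hbP (n + 1) τ = S.hbP n τ * S.hb (D.simple n) (τ n) := by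
  unfold hbP
  rw [List.range_succ, List.map_append, List.prod_append]
  simp

theorem hbP_mem (τ : ℕ → K) (hτ : ∀ i, τ i ≠ 0) : ∀ n, n ≤ D.rank → S.hbP n τ ∈ S.Hb := by
  intro n
  induction n with
  | zero =>
    intro _
    rw [hbP_zero]
    exact one_mem _
  | succ n ih =>
    intro hn
    rw [hbP_succ]
    exact mul_mem (ih (by omega)) (S.hb_mem_Hb (by omega) (hτ n))

theorem hbP_congr {τ τ' : ℕ → K} : ∀ n, (∀ i, i < n → τ i = τ' i) → S.hbP n τ = S.hbP n τ' := by
  intro n
  induction n with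
  | zero =>
    intro _
    rw [hbP_zero, hbP_zero]
  | succ n ih =>
    intro h
    rw [hbP_succ, hbP_succ, ih (fun i hi => h i (by omega)), h n (by omega)]

theorem hbP_one : ∀ n, S.hbP n (fun _ => 1) = 1 := by
  intro n
  induction n with
  | zero => exact S.hbP_zero _
  | succ n ih => rw [hbP_succ, ih, hb_one, one_mul]

theorem hbP_single (k : ℕ) (t : K) :
    ∀ n, k < n → S.hbP n (fun i => if i = k then t else 1) = S.hb (D.simple k) t := by
  intro n
  induction n with
  | zero =>
    intro h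
    omega
  | succ n ih =>
    intro hk
    rw [hbP_succ]
    by_cases hkn : k = n
    · subst hkn
      have e : S.hbP k (fun i => if i = k then t else 1) = S.hbP k (fun _ => 1) :=
        S.hbP_congr k (fun i hi => by simp [Nat.ne_of_lt hi])
      rw [e, hbP_one, one_mul]
      simp
    · have hnk : ¬ n = k := fun h => hkn h.symm
      rw [ih (by omega)]
      simp [hnk, hb_one]

theorem hbP_mul (C : ChevPkg D K) (T : StTab D) (hR3 : S.R3) (τ τ' : ℕ → K)
    (hτ : ∀ i, τ i ≠ 0) (hτ' : ∀ i, τ' i ≠ 0) :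
    ∀ n, n ≤ D.rank → S.hbP n τ * S.hbP n τ' = S.hbP n (fun i => τ i * τ' i) := by
  intro n
  induction n with
  | zero =>
    intro _
    rw [hbP_zero, hbP_zero, hbP_zero, one_mul]
  | succ n ih =>
    intro hn
    have hn' : n < D.rank := by omega
    rw [hbP_succ, hbP_succ, hbP_succ, ← ih (by omega), ← hR3 n hn' _ _ (hτ n) (hτ' n)]
    have hc := S.hb_comm C T hR3 (S.hbP_mem τ' hτ' n (by omega)) hn' (hτ n)
    calc S.hbP n τ * S.hb (D.simple n) (τ n) * (S.hbP n τ' * S.hb (D.simple n) (τ' n))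
        = S.hbP n τ * (S.hb (D.simple n) (τ n) * S.hbP n τ') * S.hb (D.simple n) (τ' n) := by
          simp only [mul_assoc]
      _ = S.hbP n τ * (S.hbP n τ' * S.hb (D.simple n) (τ n)) * S.hb (D.simple n) (τ' n) := by
          rw [hc]
      _ = S.hbP n τ * S.hbP n τ' * (S.hb (D.simple n) (τ n) * S.hb (D.simple n) (τ' n)) := by
          simp only [mul_assoc]

theorem Hb_eq_hbP (C : ChevPkg D K) (T : StTab D) (hR3 : S.R3) :
    ∀ h ∈ S.Hb, ∃ τ : ℕ → K, (∀ i, τ i ≠ 0) ∧ h = S.hbP D.rank τ := by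
  intro h hh
  unfold Hb at hh
  induction hh using Subgroup.closure_induction with
  | mem x hx =>
    obtain ⟨k, t, hk, ht, rfl⟩ := hx
    refine ⟨fun i => if i = k then t else 1, fun i => ?_, (S.hbP_single k t D.rank hk).symm⟩
    by_cases hik : i = k
    · simp [hik, ht]
    · simp [hik]
  | one => exact ⟨fun _ => 1, fun _ => one_ne_zero, (S.hbP_one D.rank).symm⟩
  | mul x y _ _ ihx ihy =>
    obtain ⟨τ, hτ, rfl⟩ := ihx
    obtain ⟨τ', hτ', rfl⟩ := ihy
    exact ⟨fun i => τ i * τ' i, fun i => mul_ne_zero (hτ i) (hτ' i),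
      S.hbP_mul C T hR3 τ τ' hτ hτ' D.rank le_rfl⟩
  | inv x _ ih =>
    obtain ⟨τ, hτ, rfl⟩ := ih
    refine ⟨fun i => (τ i)⁻¹, fun i => inv_ne_zero (hτ i), ?_⟩
    have e := S.hbP_mul C T hR3 τ (fun i => (τ i)⁻¹) hτ (fun i => inv_ne_zero (hτ i)) D.rank le_rfl
    have e2 : S.hbP D.rank (fun i => τ i * (τ i)⁻¹) = 1 := by
      rw [S.hbP_congr (τ' := fun _ => 1) D.rank (fun i _ => mul_inv_cancel₀ (hτ i)), hbP_one]
    rw [e2] at e
    exact inv_eq_of_mul_eq_one_right e

theorem θ_hb_coe (C : ChevPkg D K) {k : ℕ} (hk : k < D.rank) (t : K) :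
    ((S.θ (S.hb (D.simple k) t) : GL D.Idx K) : Matrix D.Idx D.Idx K) =
      D.hMat K (D.simple k) t := by
  have he := C.I.hU.even
  obtain ⟨hp1, hp2⟩ := simple_posR C.I hk
  have hnp := C.I.hU.negrev _ hp2
  have hnplt : D.neg (D.simple k) < D.nroots := by omega
  unfold hb
  rw [map_mul, Units.val_mul, S.θ_nb hp2 hnplt, S.θ_nb hp2 hnplt]
  unfold ChevalleyDatum.hMat ChevalleyDatum.hWord ChevalleyDatum.nMat
  rw [wordMat_append]

theorem θ_hbP (C : ChevPkg D K) (τ : ℕ → K) (hτ : ∀ i, τ i ≠ 0) : ∀ n, n ≤ D.rank →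
    ((S.θ (S.hbP n τ) : GL D.Idx K) : Matrix D.Idx D.Idx K) =
      torusMat D K (fun j : Fin D.rank => if j.val < n then τ j.val else 1) := by
  intro n
  induction n with
  | zero =>
    intro _
    have : (fun j : Fin D.rank => if j.val < 0 then τ j.val else (1 : K)) = fun _ => 1 := by
      funext j
      simp
    rw [this, torusMat_one, hbP_zero, map_one, Units.val_one]
  | succ n ih =>
    intro hn
    have hn' : n < D.rank := hn
    obtain ⟨hp1, hp2⟩ := simple_posR C.I hn'
    obtain ⟨S0, -⟩ := C.I.hSD ⟨D.simple n, hp2⟩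
    rw [hbP_succ, map_mul, Units.val_mul, ih (by omega), S.θ_hb_coe C hn',
      show D.hMat K (D.simple n) (τ n) =
        torusMat D K (fun i => τ n ^ corootZ D (D.simple n) i.val) from
        hMat_eq_torusMat S0 (τ n) (hτ n), torusMat_mul]
    congr 1
    funext j
    rw [(C.I.hS ⟨n, hn'⟩).2 j]
    by_cases hj : j.val < n
    · have : (⟨n, hn'⟩ : Fin D.rank) ≠ j := fun h => by
        rw [← h] at hj
        exact lt_irrefl _ hj
      have hj' : j.val < n + 1 := by omega
      simp [hj, hj', this]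
    · by_cases hj2 : j.val = n
      · have : (⟨n, hn'⟩ : Fin D.rank) = j := Fin.ext hj2.symm
        have hj' : j.val < n + 1 := by omega
        simp [hj, hj', this, hj2]
      · have : (⟨n, hn'⟩ : Fin D.rank) ≠ j := fun h => hj2 (by rw [← h])
        have hj' : ¬ j.val < n + 1 := by omega
        simp [hj, hj', this]

/-- with (R3) and an integral inverse of the Cartan matrix, `θ` is injective on `H̄` -/
theorem Hb_inj (C : ChevPkg D K) (T : StTab D) (hR3 : S.R3) (B : Fin D.rank → Fin D.rank → ℤ)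
    (hB : ∀ i k : Fin D.rank,
      ∑ j : Fin D.rank, cartanZ D i.val (D.simple j.val) * B j k = if i = k then 1 else 0) :
    ∀ h ∈ S.Hb, S.θ h = 1 → h = 1 := by
  intro h hh hθ
  obtain ⟨τ, hτ, rfl⟩ := S.Hb_eq_hbP C T hR3 h hh
  have h1 := S.θ_hbP C τ hτ D.rank le_rfl
  rw [hθ, Units.val_one] at h1
  have hc : (fun j : Fin D.rank => if j.val < D.rank then τ j.val else 1) =
      fun j : Fin D.rank => τ j.val := by
    funext j
    simp [j.isLt]
  rw [hc] at h1
  have h2 : ∀ j : Fin D.rank,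
      torusChar D K (fun i : Fin D.rank => τ i.val) (D.simple j.val) = 1 := by
    intro j
    have h3 := congrFun (congrFun h1 (Sum.inr ⟨D.simple j.val, (C.I.hS j).1⟩))
      (Sum.inr ⟨D.simple j.val, (C.I.hS j).1⟩)
    unfold torusMat at h3
    rw [Matrix.diagonal_apply_eq, Matrix.one_apply_eq] at h3
    exact h3.symm
  have h4 : ∀ k : Fin D.rank, τ k.val = 1 := by
    intro k
    have h5 : ∏ i : Fin D.rank,
        τ i.val ^ (∑ j : Fin D.rank, cartanZ D i.val (D.simple j.val) * B j k) = 1 := by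
      calc ∏ i : Fin D.rank, τ i.val ^ (∑ j : Fin D.rank, cartanZ D i.val (D.simple j.val) * B j k)
          = ∏ i : Fin D.rank, ∏ j : Fin D.rank,
              (τ i.val ^ cartanZ D i.val (D.simple j.val)) ^ B j k := by
            refine Finset.prod_congr rfl fun i _ => ?_
            rw [zpow_finset_sum₀ (hτ i.val)]
            exact Finset.prod_congr rfl fun j _ => zpow_mul _ _ _
        _ = ∏ j : Fin D.rank, ∏ i : Fin D.rank,
              (τ i.val ^ cartanZ D i.val (D.simple j.val)) ^ B j k :=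
            Finset.prod_comm
        _ = ∏ j : Fin D.rank,
              (∏ i : Fin D.rank, τ i.val ^ cartanZ D i.val (D.simple j.val)) ^ B j k := by
            refine Finset.prod_congr rfl fun j _ => ?_
            rw [Finset.prod_zpow]
        _ = 1 := by
            apply Finset.prod_eq_one
            intro j _
            have h6 := h2 j
            unfold torusChar at h6
            rw [h6, one_zpow]
    have h6 : ∏ i : Fin D.rank, τ i.val ^ (if i = k then (1 : ℤ) else 0) = 1 := by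
      rw [← h5]
      exact Finset.prod_congr rfl fun i _ => by rw [hB i k]
    rw [Finset.prod_eq_single k (fun b _ hb => by simp [hb])
      (fun hk => absurd (Finset.mem_univ k) hk)] at h6
    simpa using h6
  rw [S.hbP_congr (τ' := fun _ => 1) D.rank (fun i hi => h4 ⟨i, hi⟩), hbP_one]

end StData

end Cfsg.Agent.Lib.helper41
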