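/-
helper41: Steinberg's presentation: integral inverses of the Cartan matrices of `G₂`, `F₄`, `E₈`,
and the triviality of the centre of the presented group when such an inverse exists.
-/
import Cfsg.Agent.Lib.helper41.StUni
import Cfsg.Agent.Lib.helper41.StDiagInst
import Cfsg.Agent.Lib.helper41.StCenter

set_option autoImplicit false

namespace Cfsg.Agent.Lib.helper41

open Cfsg.Lie Cfsg.Agent.Lib.helper22

universe u

/-- `B` is a right inverse of the Cartan matrix `(A_{p_i, p_j})` -/
def invOK (D : ChevalleyDatum) (B : List (List ℤ)) : Bool :=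
  (List.range D.rank).all fun i => (List.range D.rank).all fun k =>
    decide (((List.range D.rank).map fun j =>
      cartanZ D i (D.simple j) * ((B.getD j []).getD k 0)).sum = if i = k then 1 else 0)

theorem list_range_map_sum (f : ℕ → ℤ) :
    ∀ n, ((List.range n).map f).sum = ∑ i ∈ Finset.range n, f i := by
  intro n
  induction n with
  | zero => simp
  | succ n ih =>
    rw [List.range_succ, List.map_append, List.sum_append, ih, Finset.sum_range_succ]
    simp

theorem invOK_spec {D : ChevalleyDatum} {B : List (List ℤ)} (h : invOK D B = true)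
    (i k : Fin D.rank) :
    ∑ j : Fin D.rank, cartanZ D i.val (D.simple j.val) * ((B.getD j.val []).getD k.val 0) =
      if i = k then 1 else 0 := by
  unfold invOK at h
  rw [List.all_eq_true] at h
  have h1 := h i.val (List.mem_range.mpr i.isLt)
  rw [List.all_eq_true] at h1
  have h2 := of_decide_eq_true (h1 k.val (List.mem_range.mpr k.isLt))
  rw [list_range_map_sum] at h2
  rw [Fin.sum_univ_eq_sum_range
    (fun j => cartanZ D i.val (D.simple j) * ((B.getD j []).getD k.val 0)) D.rank, h2]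
  by_cases hik : i = k
  · simp [hik]
  · have : ¬ i.val = k.val := fun h => hik (Fin.ext h)
    simp [hik, this]

theorem invOK_G2 : invOK chevG2 [[2, 3], [1, 2]] = true := by decide +kernel

theorem invOK_F4 : invOK chevF4 [[2, 3, 4, 2], [3, 6, 8, 4], [2, 4, 6, 3], [1, 2, 3, 2]] = true := by
  decide +kernel

theorem invOK_E8 : invOK chevE8 [[4, 5, 7, 10, 8, 6, 4, 2], [5, 8, 10, 15, 12, 9, 6, 3],
    [7, 10, 14, 20, 16, 12, 8, 4], [10, 15, 20, 30, 24, 18, 12, 6], [8, 12, 16, 24, 20, 15, 10, 5],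
    [6, 9, 12, 18, 15, 12, 8, 4], [4, 6, 8, 12, 10, 8, 6, 3], [2, 3, 4, 6, 5, 4, 3, 2]] = true := by
  decide +kernel

/-- the Cartan matrices of `G₂`, `F₄`, `E₈` are invertible over `ℤ` -/
theorem cartan_inv_all (D : ChevalleyDatum) (hD : D ∈ [chevG2, chevF4, chevE8]) :
    ∃ B : Fin D.rank → Fin D.rank → ℤ, ∀ i k : Fin D.rank,
      ∑ j : Fin D.rank, cartanZ D i.val (D.simple j.val) * B j k = if i = k then 1 else 0 := by
  simp only [List.mem_cons, List.mem_nil_iff, or_false] at hD
  rcases hD with rfl | rfl | rfl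
  · exact ⟨_, invOK_spec invOK_G2⟩
  · exact ⟨_, invOK_spec invOK_F4⟩
  · exact ⟨_, invOK_spec invOK_E8⟩

/-- the centre of the group presented by Steinberg's relations is trivial when the Cartan matrix
is invertible over `ℤ` -/
theorem pres_center_bot (D : ChevalleyDatum)
    (hD : D ∈ [chevG2, chevB2, chevD4, chevF4, chevE6, chevE7, chevE8]) (K : Type u) [Field K]
    (hSD : ∀ r : Fin D.nroots, Nonempty (StringData D r))
    (hrel : ∀ g ∈ D.steinbergRels K, FreeGroup.lift (stGenMap hSD) g = 1)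
    (B : Fin D.rank → Fin D.rank → ℤ)
    (hB : ∀ i k : Fin D.rank,
      ∑ j : Fin D.rank, cartanZ D i.val (D.simple j.val) * B j k = if i = k then 1 else 0) :
    Subgroup.center (PresentedGroup (D.steinbergRels K)) = ⊥ := by
  obtain ⟨C⟩ := chevPkg_all D hD K
  have T := stTab_all D hD
  have hAB : D.steinbergRelsAB K ⊆ D.steinbergRels K := Set.subset_union_left
  obtain ⟨θ, h1, h2, h3⟩ := pres_central D hD K hSD (D.steinbergRels K) hAB hrel
  obtain ⟨S, hSX, hShb⟩ : ∃ S : StData D K (PresentedGroup (D.steinbergRels K)),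
      (∀ (r : ℕ) (t : K), S.X r t = PresentedGroup.mk (D.steinbergRels K) (D.stX r t)) ∧
      (∀ (r : ℕ) (t : K), S.hb r t = PresentedGroup.mk (D.steinbergRels K) (D.stH r t)) :=
    ⟨stDataOf hSD (D.steinbergRels K) hAB hrel, fun _ _ => rfl,
      hb_stDataOf hSD (D.steinbergRels K) hAB hrel⟩
  have hagree : ∀ g, ((θ g : ↥(D.group K)) : GL D.Idx K) = S.θ g := by
    intro g
    have h4 : (⊤ : Subgroup (PresentedGroup (D.steinbergRels K))) ≤
        ((D.group K).subtype.comp θ).eqLocus S.θ := by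
      rw [← S.gen, Subgroup.closure_le]
      rintro y ⟨r, t, hr, rfl⟩
      show ((θ (S.X r t) : ↥(D.group K)) : GL D.Idx K) = S.θ (S.X r t)
      apply Units.ext
      rw [S.θX r t hr, hSX, h3 r t hr]
    exact h4 (Subgroup.mem_top g)
  have hR3 : S.R3 := by
    intro k hk t₁ t₂ ht₁ ht₂
    obtain ⟨-, hp2⟩ := simple_posR C.I hk
    rw [hShb, hShb, hShb]
    have hmem : D.stH (D.simple k) t₁ * D.stH (D.simple k) t₂ *
        (D.stH (D.simple k) (t₁ * t₂))⁻¹ ∈ D.steinbergRels K :=
      Or.inr ⟨D.simple k, t₁, t₂, hp2, ht₁, ht₂, rfl⟩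
    have h5 := PresentedGroup.one_of_mem hmem
    rw [map_mul, map_mul, map_inv, mul_inv_eq_one] at h5
    exact h5
  rw [eq_bot_iff]
  intro z hz
  rw [Subgroup.mem_bot]
  have hzc : θ z ∈ Subgroup.center ↥(D.group K) := by
    rw [Subgroup.mem_center_iff] at hz ⊢
    intro y
    obtain ⟨x, rfl⟩ := h1 y
    rw [← map_mul, ← map_mul, hz x]
  rw [center_group_eq_bot D hD K] at hzc
  have hz1 : θ z = 1 := Subgroup.mem_bot.mp hzc
  have hz2 : S.θ z = 1 := by
    rw [← hagree, hz1]
    rfl
  exact S.Hb_inj C T hR3 B hB z (S.ker_mem_Hb C T z hz2) hz2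

end Cfsg.Agent.Lib.helper41
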