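import Cfsg.Agent.Lib.helper41.WeylTab

/-!
Descents in a Weyl group acting on its roots: the distinguished coset representatives of a
parabolic subgroup, the longest element, and the alternating sum over the subsets of the
simple reflections.
-/

set_option autoImplicit false

namespace Cfsg.Agent.Lib.helper41

namespace WeylData

variable {n l : ℕ} (A : WeylData n l)

/-- the length of the inverse -/
theorem ell_inv (g : Equiv.Perm (Fin n)) (hg : A.Compat g) : A.ell g⁻¹ = A.ell g := by
  classical
  unfold ell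
  symm
  apply Finset.card_bij (fun r _ => A.neg (g r))
  · intro r hr
    simp only [Finset.mem_filter, Finset.mem_univ, true_and] at hr ⊢
    refine ⟨(A.pos_neg _).mpr hr.2, ?_⟩
    rw [(hg.inv A).1, perm_inv_apply, A.pos_neg]
    exact fun h => h hr.1
  · intro r1 _ r2 _ h
    have h2 := congrArg A.neg h
    simp only [A.neg_neg] at h2
    exact g.injective h2
  · intro s hs
    simp only [Finset.mem_filter, Finset.mem_univ, true_and] at hs
    refine ⟨A.neg (g⁻¹ s), ?_, ?_⟩
    · simp only [Finset.mem_filter, Finset.mem_univ, true_and]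
      refine ⟨(A.pos_neg _).mpr hs.2, ?_⟩
      rw [hg.1, perm_apply_inv, A.pos_neg]
      exact fun h => h hs.1
    · rw [hg.1, perm_apply_inv, A.neg_neg]

/-- right multiplication by a simple reflection whose root stays positive -/
theorem ell_mul_σ (g : Equiv.Perm (Fin n)) (hg : A.Compat g) (i : Fin l)
    (h : A.pos (g (A.simple i))) : A.ell (g * A.σ i) = A.ell g + 1 := by
  have h1 : A.ell (g * A.σ i) = A.ell (A.σ i * g⁻¹) := by
    rw [← A.ell_inv (g * A.σ i) (hg.mul A (A.compat_σ i)), mul_inv_rev, A.σ_inv]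
  rw [h1, A.ell_σ_mul g⁻¹ (hg.inv A) i (by rwa [inv_inv]), A.ell_inv g hg]

/-- coordinates of the (co)roots with respect to the simple ones, compatible with the
reflections -/
structure Coord where
  c : Fin n → Fin l → ℤ
  a : Fin l → Fin l → ℤ
  c_simple : ∀ i j, c (A.simple i) j = if j = i then 1 else 0
  c_σ : ∀ i r j, c (A.σ i r) j = c r j - if j = i then ∑ k, c r k * a i k else 0
  c_pos : ∀ r, A.pos r ↔ ∀ j, 0 ≤ c r j
  c_neg : ∀ r j, c (A.neg r) j = - c r j

variable {A}

/-- the action of the Weyl group is linear in the coordinates -/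
theorem Coord.lin (X : A.Coord) (u : List (Fin l)) (r : Fin n) (j : Fin l) :
    X.c (A.pw u r) j = ∑ k, X.c r k * X.c (A.pw u (A.simple k)) j := by
  induction u generalizing j with
  | nil =>
    simp only [pw_nil, Equiv.Perm.one_apply, X.c_simple]
    simp
  | cons i u ih =>
    simp only [pw_cons, Equiv.Perm.mul_apply, X.c_σ]
    by_cases hji : j = i
    · subst hji
      simp only [if_true, ih]
      simp only [mul_sub, Finset.sum_sub_distrib, Finset.mul_sum, Finset.sum_mul]
      congr 1
      rw [Finset.sum_comm]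
      apply Finset.sum_congr rfl
      intro k _
      apply Finset.sum_congr rfl
      intro m _
      ring
    · simp only [if_neg hji, sub_zero]
      exact ih j

/-- the root subsystem of a set of nodes -/
def Coord.Sub (X : A.Coord) (J : Set (Fin l)) : Set (Fin n) := {r | ∀ j, j ∉ J → X.c r j = 0}

theorem Coord.sub_simple (X : A.Coord) (J : Set (Fin l)) (i : Fin l) (hi : i ∈ J) :
    A.simple i ∈ X.Sub J := by
  intro j hj
  rw [X.c_simple, if_neg]
  rintro rfl
  exact hj hi

theorem Coord.sub_σ (X : A.Coord) (J : Set (Fin l)) (i : Fin l) (hi : i ∈ J) (r : Fin n)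
    (hr : r ∈ X.Sub J) : A.σ i r ∈ X.Sub J := by
  intro j hj
  rw [X.c_σ, hr j hj, if_neg, sub_zero]
  rintro rfl
  exact hj hi

theorem Coord.sub_neg (X : A.Coord) (J : Set (Fin l)) (r : Fin n) (hr : r ∈ X.Sub J) :
    A.neg r ∈ X.Sub J := by
  intro j hj
  rw [X.c_neg, hr j hj, neg_zero]

variable (A)

/-- `w` makes no simple root of `J` negative -/
def Red (J : Set (Fin l)) (w : Equiv.Perm (Fin n)) : Prop := ∀ j ∈ J, A.pos (w (A.simple j))

variable {A}

/-- an element keeping the simple roots of `J` positive keeps all the positive roots of the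
subsystem positive -/
theorem Coord.pos_of_red (X : A.Coord) (J : Set (Fin l)) (d : Equiv.Perm (Fin n))
    (hd : d ∈ A.W Set.univ) (h : A.Red J d) (r : Fin n) (hr : r ∈ X.Sub J) (hp : A.pos r) :
    A.pos (d r) := by
  obtain ⟨u, -, rfl⟩ := (A.mem_W_iff _ d).mp hd
  rw [X.c_pos]
  intro j
  rw [X.lin u r j]
  apply Finset.sum_nonneg
  intro k _
  by_cases hk : k ∈ J
  · exact mul_nonneg ((X.c_pos r).mp hp k) ((X.c_pos _).mp (h k hk) j)
  · rw [hr k hk, zero_mul]

/-- an element making all simple roots negative makes all positive roots negative -/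
theorem Coord.neg_of_simple (X : A.Coord) (w : Equiv.Perm (Fin n)) (hw : w ∈ A.W Set.univ)
    (h : ∀ i, ¬ A.pos (w (A.simple i))) (r : Fin n) (hp : A.pos r) : ¬ A.pos (w r) := by
  obtain ⟨u, -, rfl⟩ := (A.mem_W_iff _ w).mp hw
  rw [← A.pos_neg, X.c_pos]
  intro j
  rw [X.c_neg, X.lin u r j, ← Finset.sum_neg_distrib]
  apply Finset.sum_nonneg
  intro k _
  have h1 : 0 ≤ X.c (A.neg (A.pw u (A.simple k))) j := (X.c_pos _).mp ((A.pos_neg _).mpr (h k)) j
  rw [X.c_neg] at h1
  have h2 := (X.c_pos r).mp hp k
  have e : -(X.c r k * X.c (A.pw u (A.simple k)) j) = X.c r k * (-X.c (A.pw u (A.simple k)) j) := by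
    ring
  rw [e]
  exact mul_nonneg h2 h1

variable (A)

/-- every element is a distinguished representative times an element of the parabolic
subgroup -/
theorem exists_red_mul (J : Set (Fin l)) (w : Equiv.Perm (Fin n)) (hw : w ∈ A.W Set.univ) :
    ∃ d ∈ A.W Set.univ, ∃ v ∈ A.W J, A.Red J d ∧ w = d * v := by
  induction' hk : A.ell w using Nat.strong_induction_on with k ih generalizing w
  by_cases hred : A.Red J w
  · exact ⟨w, hw, 1, one_mem _, hred, (mul_one w).symm⟩
  · unfold Red at hred
    push Not at hred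
    obtain ⟨j, hj, hneg⟩ := hred
    have hc := A.compat_of_mem_W _ w hw
    have hw' : w * A.σ j ∈ A.W Set.univ := mul_mem hw (A.σ_mem_W _ j (Set.mem_univ _))
    have h1 : A.pos ((w * A.σ j) (A.simple j)) := by
      rw [Equiv.Perm.mul_apply, A.σ_simple, hc.pos_iff A]
      exact hneg
    have h2 := A.ell_mul_σ (w * A.σ j) (hc.mul A (A.compat_σ j)) j h1
    rw [mul_assoc, A.σ_mul_self, mul_one] at h2
    obtain ⟨d, hd, v, hv, hdred, e⟩ := ih (A.ell (w * A.σ j)) (by omega) (w * A.σ j) hw' rfl
    refine ⟨d, hd, v * A.σ j, mul_mem hv (A.σ_mem_W J j hj), hdred, ?_⟩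
    rw [← mul_assoc, ← e, mul_assoc, A.σ_mul_self, mul_one]

variable {A}

/-- uniqueness of the decomposition -/
theorem Coord.red_unique (X : A.Coord) (J : Set (Fin l)) (d d' v v' : Equiv.Perm (Fin n))
    (hd' : d' ∈ A.W Set.univ) (hv : v ∈ A.W J) (hv' : v' ∈ A.W J)
    (hr : A.Red J d) (hr' : A.Red J d') (e : d * v = d' * v') : d = d' ∧ v = v' := by
  have hu : v' * v⁻¹ ∈ A.W J := mul_mem hv' (inv_mem hv)
  have hdu : d = d' * (v' * v⁻¹) := by rw [← mul_assoc, ← e, mul_inv_cancel_right]
  have h1 : v' * v⁻¹ = 1 := by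
    apply A.eq_one_of_pos J _ hu
    intro i hi
    by_contra hneg
    have hS : (v' * v⁻¹) (A.simple i) ∈ X.Sub J :=
      A.W_mem_S J (X.Sub J) (fun i hi r hr => X.sub_σ J i hi r hr) _ hu _ (X.sub_simple J i hi)
    have h2 := X.pos_of_red J d' hd' hr' (A.neg ((v' * v⁻¹) (A.simple i))) (X.sub_neg J _ hS)
      ((A.pos_neg _).mpr hneg)
    rw [(A.compat_of_mem_W _ d' hd').1, A.pos_neg] at h2
    apply h2
    have h3 := hr i hi
    rw [hdu, Equiv.Perm.mul_apply] at h3
    exact h3
  have h3 : v' = v := mul_inv_eq_one.mp h1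
  subst h3
  exact ⟨mul_right_cancel e, rfl⟩

variable (A)

/-- there is an element making all simple roots negative -/
theorem exists_longest : ∃ w0 ∈ A.W Set.univ, ∀ i, ¬ A.pos (w0 (A.simple i)) := by
  classical
  obtain ⟨w0, hw0, hmax⟩ := Finset.exists_max_image
    (Finset.univ.filter (fun w : Equiv.Perm (Fin n) => w ∈ A.W Set.univ)) A.ell
    ⟨1, by rw [Finset.mem_filter]; exact ⟨Finset.mem_univ _, one_mem _⟩⟩
  rw [Finset.mem_filter] at hw0
  refine ⟨w0, hw0.2, fun i hpos => ?_⟩
  have h := A.ell_mul_σ w0 (A.compat_of_mem_W _ w0 hw0.2) i hpos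
  have h2 := hmax (w0 * A.σ i) (by
    rw [Finset.mem_filter]
    exact ⟨Finset.mem_univ _, mul_mem hw0.2 (A.σ_mem_W _ i (Set.mem_univ _))⟩)
  omega

variable {A}

/-- the element making all simple roots negative is unique -/
theorem Coord.longest_unique (X : A.Coord) (w w' : Equiv.Perm (Fin n)) (hw : w ∈ A.W Set.univ)
    (hw' : w' ∈ A.W Set.univ) (h : ∀ i, ¬ A.pos (w (A.simple i)))
    (h' : ∀ i, ¬ A.pos (w' (A.simple i))) : w = w' := by
  have h1 : w'⁻¹ * w = 1 := by
    apply A.eq_one_of_pos Set.univ _ (mul_mem (inv_mem hw') hw)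
    intro i _
    rw [Equiv.Perm.mul_apply]
    by_contra hneg
    have hc' := A.compat_of_mem_W _ w' hw'
    have h2 := X.neg_of_simple w' hw' h' (A.neg (w'⁻¹ (w (A.simple i)))) ((A.pos_neg _).mpr hneg)
    rw [hc'.1, perm_apply_inv, A.pos_neg] at h2
    exact h2 (h i)
  exact (inv_mul_eq_one.mp h1).symm

/-- the alternating sum over the subsets `J` of the nodes of the sums over the distinguished
representatives of `W_J` is the value at the longest element -/
theorem Coord.alt_sum (X : A.Coord) (f : Equiv.Perm (Fin n) → ℂ)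
    (g : Finset ℕ → Equiv.Perm (Fin n) → ℂ)
    (hg1 : ∀ J w, (w ∈ A.W Set.univ ∧ ∀ i : Fin l, i.val ∈ J → A.pos (w (A.simple i))) →
      g J w = f w)
    (hg0 : ∀ J w, ¬ (w ∈ A.W Set.univ ∧ ∀ i : Fin l, i.val ∈ J → A.pos (w (A.simple i))) →
      g J w = 0)
    (w0 : Equiv.Perm (Fin n)) (hw0 : w0 ∈ A.W Set.univ) (h0 : ∀ i, ¬ A.pos (w0 (A.simple i))) :
    ∑ J ∈ (Finset.range l).powerset, (-1 : ℂ) ^ J.card * ∑ w : Equiv.Perm (Fin n), g J w =
      f w0 := by
  classical
  simp only [Finset.mul_sum]
  rw [Finset.sum_comm]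
  have key : ∀ w : Equiv.Perm (Fin n),
      ∑ J ∈ (Finset.range l).powerset, (-1 : ℂ) ^ J.card * g J w =
      if w = w0 then f w0 else 0 := by
    intro w
    by_cases hw : w ∈ A.W Set.univ
    · set Aw : Finset ℕ := (Finset.range l).filter
        (fun j => ∃ h : j < l, A.pos (w (A.simple ⟨j, h⟩))) with hAw
      have e1 : ∀ J ∈ (Finset.range l).powerset,
          (-1 : ℂ) ^ J.card * g J w =
          if J ∈ Aw.powerset then (-1 : ℂ) ^ J.card * f w else 0 := by
        intro J hJ
        rw [Finset.mem_powerset] at hJ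
        have hiff : (w ∈ A.W Set.univ ∧ ∀ i : Fin l, i.val ∈ J → A.pos (w (A.simple i))) ↔
            J ∈ Aw.powerset := by
          rw [Finset.mem_powerset]
          constructor
          · rintro ⟨-, h⟩ j hj
            have hjl : j < l := Finset.mem_range.mp (hJ hj)
            rw [hAw, Finset.mem_filter]
            exact ⟨hJ hj, hjl, h ⟨j, hjl⟩ hj⟩
          · intro h
            refine ⟨hw, fun i hi => ?_⟩
            have := h hi
            rw [hAw, Finset.mem_filter] at this
            obtain ⟨-, _, h3⟩ := this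
            exact h3
        by_cases hc : J ∈ Aw.powerset
        · rw [if_pos hc, hg1 J w (hiff.mpr hc)]
        · rw [if_neg hc, hg0 J w (fun h => hc (hiff.mp h)), mul_zero]
      rw [Finset.sum_congr rfl e1, ← Finset.sum_filter]
      have e2 : (Finset.range l).powerset.filter (fun J => J ∈ Aw.powerset) = Aw.powerset := by
        ext J
        rw [Finset.mem_filter, Finset.mem_powerset, Finset.mem_powerset]
        constructor
        · exact fun h => h.2
        · exact fun h => ⟨h.trans (Finset.filter_subset _ _), h⟩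
      rw [e2, ← Finset.sum_mul]
      have e3 : ∑ J ∈ Aw.powerset, (-1 : ℂ) ^ J.card = if Aw = ∅ then 1 else 0 := by
        have := Finset.sum_powerset_neg_one_pow_card (x := Aw)
        have h2 := congrArg (Int.cast : ℤ → ℂ) this
        push_cast at h2
        rw [h2]
      rw [e3]
      by_cases hww : w = w0
      · subst hww
        have hAe : Aw = ∅ := by
          rw [hAw, Finset.filter_eq_empty_iff]
          rintro j - ⟨hj, hp⟩
          exact h0 _ hp
        rw [if_pos hAe, if_pos rfl, one_mul]
      · have hAne : Aw ≠ ∅ := by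
          intro hAe
          apply hww
          apply X.longest_unique w w0 hw hw0 _ h0
          intro i hp
          have : i.val ∈ Aw := by
            rw [hAw, Finset.mem_filter]
            exact ⟨Finset.mem_range.mpr i.isLt, i.isLt, hp⟩
          rw [hAe] at this
          exact absurd this (Finset.notMem_empty _)
        rw [if_neg hAne, if_neg hww, zero_mul]
    · have hne : w ≠ w0 := fun h => hw (h ▸ hw0)
      rw [if_neg hne]
      apply Finset.sum_eq_zero
      intro J _
      rw [hg0 J w (fun h => hw h.1), mul_zero]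
  rw [Finset.sum_congr rfl (fun w _ => key w), Finset.sum_ite_eq' Finset.univ w0 (fun _ => f w0),
    if_pos (Finset.mem_univ _)]

end WeylData

/-! ### Coordinates from root tables -/

/-- the check that the positive roots are those with non-negative coroot coefficients -/
def RootTab.posOK (R : RootTab) : Bool :=
  allBelow R.n fun r => Nat.ble R.half r == allBelow R.l fun j => decide (0 ≤ R.cor r j)

/-- the coordinates of a valid root table -/
def RootTab.coord (R : RootTab) (hR : R.Valid) (hp : R.posOK = true) : (R.weyl hR).Coord where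
  c r j := R.cor r.val j.val
  a i k := R.cart k.val (R.simple i.val)
  c_simple i j := by
    show R.cor (R.simple i.val) j.val = _
    rw [hR.cor_simple i.val i.isLt j.val j.isLt]
    simp only [Fin.ext_iff]
  c_σ i r j := by
    show R.cor (R.rf i.val r.val) j.val = R.cor r.val j.val -
      if j = i then ∑ k : Fin R.l, R.cor r.val k.val * R.cart k.val (R.simple i.val) else 0
    rw [hR.cor_rf i.val i.isLt r.val r.isLt j.val j.isLt, R.Pk_eq,
      Fin.sum_univ_eq_sum_range (fun k => R.cor r.val k * R.cart k (R.simple i.val))]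
    simp only [Fin.ext_iff]
  c_pos r := by
    have h := (allBelow_iff _ _).mp hp r.val r.isLt
    rw [beq_iff_eq] at h
    show R.half ≤ r.val ↔ ∀ j : Fin R.l, 0 ≤ R.cor r.val j.val
    constructor
    · intro hpos j
      have h2 : Nat.ble R.half r.val = true := Nat.ble_eq.mpr hpos
      rw [h2] at h
      exact of_decide_eq_true ((allBelow_iff _ _).mp h.symm j.val j.isLt)
    · intro hall
      have h2 : (allBelow R.l fun j => decide (0 ≤ R.cor r.val j)) = true := by
        rw [allBelow_iff]
        intro j hj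
        exact decide_eq_true (hall ⟨j, hj⟩)
      rw [h2] at h
      exact Nat.le_of_ble_eq_true h
  c_neg r j := hR.cor_neg r.val r.isLt j.val j.isLt

end Cfsg.Agent.Lib.helper41
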