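import Cfsg.Agent.Lib.helper41.ChevOrder
import Cfsg.Agent.Lib.helper41.WeylDesc
import Cfsg.Agent.Lib.helper8.BNPairExchange

/-!
Bruhat cells of a Chevalley group and the distinguished coset representatives of the Weyl
group: for a set `J` of nodes every coset of the parabolic subgroup `P_J` meets exactly one coset
of `B` in the cells of the `J`-reduced elements; the big cell.
-/

set_option autoImplicit false

namespace Cfsg.Agent.Lib.helper41

open Cfsg.Lie Cfsg.Agent.Lib.helper22 Cfsg.Agent.Lib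

universe u

section

variable {D : ChevalleyDatum} {F : Type u} [Field F]

/-- `n_p B n ⊆ B n_p n B` when `n⁻¹ X_p n ⊆ U` -/
theorem simple_mul_borel_mul_pos {η : ℕ → ℕ → ℤ} (I : BNInput D F η) {i : ℕ} (hi : i < D.rank)
    {np b n : GL D.Idx F} (hnp : (np : Matrix D.Idx D.Idx F) = D.nMat F (D.simple i) 1)
    (hb : b ∈ D.borelSubgroup F) {π : ℕ → ℕ} {c : ℕ → F}
    (hπ : RootAct D F ((n⁻¹ : GL D.Idx F) : Matrix D.Idx D.Idx F) π c)
    (hpos : D.nroots / 2 ≤ π (D.simple i)) :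
    ∃ b₁ ∈ D.borelSubgroup F, ∃ b₂ ∈ D.borelSubgroup F, np * b * n = b₁ * (np * n) * b₂ := by
  have hp : D.simple i < D.nroots := (I.hS ⟨i, hi⟩).1
  obtain ⟨S⟩ := I.hSD' ⟨D.simple i, hp⟩
  have hnp' : np = sl2Hom S (sl2n 1 one_ne_zero) :=
    Units.ext (hnp.trans (sl2Hom_sl2n S 1 one_ne_zero).symm)
  rw [hnp']
  have hHT : D.diagonalSubgroup F ≤ torus D F := diagonalSubgroup_le_torus I.hSD'
  obtain ⟨u, hu, h, hh, rfl⟩ := borel_decomp I hb
  obtain ⟨t, u', hu', rfl⟩ := posUnipotent_decomp I hi S hu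
  have hnpN : sl2Hom S (sl2n (1 : F) one_ne_zero) ∈ D.monomialSubgroup F :=
    simpleNSet_subset I ⟨i, hi, sl2Hom_sl2n S 1 one_ne_zero⟩
  have hu'' := simple_conj_up I hi (sl2Hom_sl2n S (1 : F) one_ne_zero) u' hu'
  have hh' := conj_mem_diag I hnpN hh
  obtain ⟨hnorm, hsup⟩ := up_normal I.hSD' I.hU I.hNorm I.hcomm (F := F) i hi
  have hxm : sl2Hom S (sl2l (-t)) ∈ D.rootSubgroup F (D.neg (D.simple i)) :=
    Subgroup.subset_closure ⟨-t, sl2Hom_sl2l S _⟩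
  have hu3 := (Subgroup.mem_normalizer_iff.mp ((le_sup_right.trans hnorm) hxm) _).mp hu''
  have hUpU : Subgroup.closure (upSet D F (D.simple i)) ≤ D.posUnipotent F := by
    rw [← hsup]
    exact le_sup_left
  obtain ⟨t₂, ht₂⟩ := torus_conj_x I.hSD (hHT (inv_mem hh')) (D.neg (D.simple i)) (I.neg_lt hp) (-t)
  have e1 : (sl2Hom S (sl2n (1 : F) one_ne_zero) * h * (sl2Hom S (sl2n (1 : F) one_ne_zero))⁻¹)⁻¹ *
      sl2Hom S (sl2l (-t)) * (sl2Hom S (sl2n (1 : F) one_ne_zero) * h * (sl2Hom S (sl2n (1 : F) one_ne_zero))⁻¹) =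
      sl2Hom S (sl2l t₂) := by
    apply Units.ext
    rw [Units.val_mul, Units.val_mul, sl2Hom_sl2l S, sl2Hom_sl2l S, ← ht₂, inv_inv]
  have e3 : sl2Hom S (sl2n (1 : F) one_ne_zero) * sl2Hom S (sl2u t) =
      sl2Hom S (sl2l (-t)) * sl2Hom S (sl2n (1 : F) one_ne_zero) := by
    rw [← map_mul, ← map_mul, sl2n_mul_sl2u]
  have e4 : sl2Hom S (sl2l t₂) * sl2Hom S (sl2n (1 : F) one_ne_zero) =
      sl2Hom S (sl2n 1 one_ne_zero) * sl2Hom S (sl2u (-t₂)) := by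
    rw [← map_mul, ← map_mul, sl2n_mul_sl2u, neg_neg]
  have hconj : n⁻¹ * sl2Hom S (sl2u (-t₂)) * n ∈ D.posUnipotent F := by
    have e := rootAct_conj hπ hp (sl2Hom_sl2u S (-t₂))
    rw [inv_inv] at e
    exact x_mem_pos I (hπ (D.simple i) hp).1 hpos e
  have hb₁B : sl2Hom S (sl2l (-t)) * (sl2Hom S (sl2n (1 : F) one_ne_zero) * u' *
      (sl2Hom S (sl2n (1 : F) one_ne_zero))⁻¹) * (sl2Hom S (sl2l (-t)))⁻¹ *
      (sl2Hom S (sl2n (1 : F) one_ne_zero) * h * (sl2Hom S (sl2n (1 : F) one_ne_zero))⁻¹) ∈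
      D.borelSubgroup F :=
    mul_mem (Subgroup.mem_sup_left (hUpU hu3)) (Subgroup.mem_sup_right hh')
  refine ⟨_, hb₁B, n⁻¹ * sl2Hom S (sl2u (-t₂)) * n, Subgroup.mem_sup_left hconj, ?_⟩
  have e5 : sl2Hom S (sl2n (1 : F) one_ne_zero) * (sl2Hom S (sl2u t) * u' * h) * n =
      (sl2Hom S (sl2l (-t)) * (sl2Hom S (sl2n (1 : F) one_ne_zero) * u' *
          (sl2Hom S (sl2n (1 : F) one_ne_zero))⁻¹) * (sl2Hom S (sl2l (-t)))⁻¹ *
        (sl2Hom S (sl2n (1 : F) one_ne_zero) * h * (sl2Hom S (sl2n (1 : F) one_ne_zero))⁻¹)) *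
        (sl2Hom S (sl2l t₂) * sl2Hom S (sl2n (1 : F) one_ne_zero)) * n := by
    rw [← e1]
    calc sl2Hom S (sl2n (1 : F) one_ne_zero) * (sl2Hom S (sl2u t) * u' * h) * n
        = (sl2Hom S (sl2n (1 : F) one_ne_zero) * sl2Hom S (sl2u t)) * u' * h * n := by group
      _ = sl2Hom S (sl2l (-t)) * sl2Hom S (sl2n (1 : F) one_ne_zero) * u' * h * n := by rw [e3]
      _ = _ := by group
  rw [e5, e4]
  group

end

/-- the elements `n_p` of the group for the fundamental roots with index in `J` -/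
def simpleSet (D : ChevalleyDatum) (F : Type u) [Field F] (J : Set ℕ) : Set ↥(D.group F) :=
  {s | ∃ j ∈ J, j < D.rank ∧ ((s : GL D.Idx F) : Matrix D.Idx D.Idx F) = D.nMat F (D.simple j) 1}

/-- the nodes with index in `J` -/
def nodesOf (D : ChevalleyDatum) (J : Set ℕ) : Set (Fin D.rank) := {i | i.val ∈ J}

/-- the data of the structure theory of a Chevalley group with its `(B, N)`-pair -/
structure CellCtx (D : ChevalleyDatum) (F : Type u) [Field F] where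
  η : ℕ → ℕ → ℤ
  I : BNInput D F η
  hp : PrimHyp D F
  A : WeylData D.nroots D.rank
  hA : WLink D A
  X : A.Coord
  hpn : ∀ r, r < D.nroots → D.IsPosRoot r ∨ D.IsNegRoot r
  hN : ∀ r, D.IsNegRoot r → NegOK D r
  hBG : D.borelSubgroup F ≤ D.group F
  hNG : D.monomialSubgroup F ≤ D.group F
  hG : D.group F ≤ D.borelSubgroup F ⊔ D.monomialSubgroup F
  P : Cfsg.BNPair ↥(D.group F)
  hPB : P.B = (D.borelSubgroup F).subgroupOf (D.group F)
  hPN : P.N = (D.monomialSubgroup F).subgroupOf (D.group F)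
  hPS : P.S = {n : ↥(D.group F) | (n : GL D.Idx F) ∈ simpleNSet D F}

namespace CellCtx

variable {D : ChevalleyDatum} {F : Type u} [Field F] (C : CellCtx D F)

theorem memB (x : ↥(D.group F)) : x ∈ C.P.B ↔ (x : GL D.Idx F) ∈ D.borelSubgroup F := by
  rw [C.hPB, Subgroup.mem_subgroupOf]

theorem memN (x : ↥(D.group F)) : x ∈ C.P.N ↔ (x : GL D.Idx F) ∈ D.monomialSubgroup F := by
  rw [C.hPN, Subgroup.mem_subgroupOf]

theorem diag_of_BN (x : ↥(D.group F)) (hB : x ∈ C.P.B) (hN : x ∈ C.P.N) :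
    (x : GL D.Idx F) ∈ D.diagonalSubgroup F := by
  rw [← borelSubgroup_inf_monomialSubgroup C.I.hSD C.I.posOK]
  exact ⟨(C.memB x).mp hB, (C.memN x).mp hN⟩

theorem memB_of_diag (x : ↥(D.group F)) (h : (x : GL D.Idx F) ∈ D.diagonalSubgroup F) :
    x ∈ C.P.B :=
  (C.memB x).mpr (Subgroup.mem_sup_right h)

theorem simpleSet_subset (J : Set ℕ) : simpleSet D F J ⊆ C.P.S := by
  rintro s ⟨j, -, hj, hs⟩
  rw [C.hPS]
  exact ⟨j, hj, hs⟩

/-- `g` lies in the double coset of an element of `N` acting as `w` -/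
def Cell (g : ↥(D.group F)) (w : Equiv.Perm (Fin D.nroots)) : Prop :=
  ∃ n : ↥(D.group F), n ∈ C.P.N ∧ g ∈ helper8.dc C.P n ∧ ActsAs D F (n : GL D.Idx F) w

theorem cell_exists (g : ↥(D.group F)) : ∃ w ∈ C.A.W Set.univ, C.Cell g w := by
  obtain ⟨n, hn, hg⟩ := helper8.bruhat_exists C.P g
  obtain ⟨w, hw, hact⟩ := exists_actsAs C.I C.hA ((C.memN n).mp hn)
  exact ⟨w, hw, n, hn, hg, hact⟩

theorem cell_unique {g : ↥(D.group F)} {w w' : Equiv.Perm (Fin D.nroots)} (h : C.Cell g w)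
    (h' : C.Cell g w') : w = w' := by
  obtain ⟨n, hn, hg, hact⟩ := h
  obtain ⟨n', hn', hg', hact'⟩ := h'
  have h1 : n ∈ helper8.dc C.P n' := helper8.mem_dc_trans C.P (helper8.mem_dc_symm C.P hg) hg'
  have h2 := helper8.bruhat_unique C.P hn hn' h1
  have h3 : ((n⁻¹ * n' : ↥(D.group F)) : GL D.Idx F) ∈ D.diagonalSubgroup F :=
    C.diag_of_BN _ h2.2.2 (C.P.N.mul_mem (C.P.N.inv_mem hn) hn')
  have h4 := hact.mul (actsAs_diag C.I h3)
  have e : (n : GL D.Idx F) * ((n⁻¹ * n' : ↥(D.group F)) : GL D.Idx F) = (n' : GL D.Idx F) := by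
    push_cast
    group
  rw [e, mul_one] at h4
  exact ActsAs.unique C.I C.hp h4 hact'

theorem cell_mem_W {g : ↥(D.group F)} {w : Equiv.Perm (Fin D.nroots)} (h : C.Cell g w) :
    w ∈ C.A.W Set.univ := by
  obtain ⟨w', hw', h'⟩ := C.cell_exists g
  rw [C.cell_unique h h']
  exact hw'

theorem cell_mul {g : ↥(D.group F)} {w : Equiv.Perm (Fin D.nroots)} (h : C.Cell g w)
    {b1 b2 : ↥(D.group F)} (h1 : b1 ∈ C.P.B) (h2 : b2 ∈ C.P.B) : C.Cell (b1 * g * b2) w := by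
  obtain ⟨n, hn, hg, hact⟩ := h
  exact ⟨n, hn, helper8.dc_mul_right C.P (helper8.dc_mul_left C.P hg h1) h2, hact⟩

/-- `s B n ⊆ B s n B` when `w⁻¹` keeps the root of `s` positive -/
theorem ps_of_pos {s n : ↥(D.group F)} {i : ℕ} (hi : i < D.rank)
    (hs : ((s : GL D.Idx F) : Matrix D.Idx D.Idx F) = D.nMat F (D.simple i) 1)
    (hn : n ∈ C.P.N) {w : Equiv.Perm (Fin D.nroots)} (hact : ActsAs D F (n : GL D.Idx F) w)
    (hpos : C.A.pos (w⁻¹ (C.A.simple ⟨i, hi⟩))) : helper8.Ps C.P s n := by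
  intro b hb
  have hnN := (C.memN n).mp hn
  obtain ⟨π, c, hπ, hw⟩ := hact.inv C.I C.hp C.hA hnN
  have h2 : π (D.simple i) = (w⁻¹ (C.A.simple ⟨i, hi⟩)).val := by
    have := hw (C.A.simple ⟨i, hi⟩)
    rw [C.hA.simple] at this
    exact this
  have h1 : D.nroots / 2 ≤ π (D.simple i) := by
    rw [h2]
    exact (C.hA.pos _).mp hpos
  obtain ⟨b₁, hb₁, b₂, hb₂, e⟩ := simple_mul_borel_mul_pos C.I hi hs ((C.memB b).mp hb) hπ h1
  rw [helper8.mem_dc_iff]
  refine ⟨⟨b₁, C.hBG hb₁⟩, (C.memB _).mpr hb₁, ⟨b₂, C.hBG hb₂⟩, (C.memB _).mpr hb₂, ?_⟩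
  apply Subtype.ext
  exact e

/-- `B n B s⁻¹ ⊆ B n s⁻¹ B` when `w` keeps the root of `s` positive -/
theorem dc_mul_sinv_of_pos {s n g : ↥(D.group F)} {i : ℕ} (hi : i < D.rank)
    (hs : ((s : GL D.Idx F) : Matrix D.Idx D.Idx F) = D.nMat F (D.simple i) 1)
    (hn : n ∈ C.P.N) {w : Equiv.Perm (Fin D.nroots)} (hact : ActsAs D F (n : GL D.Idx F) w)
    (hpos : C.A.pos (w (C.A.simple ⟨i, hi⟩))) (hg : g ∈ helper8.dc C.P n) :
    g * s⁻¹ ∈ helper8.dc C.P (n * s⁻¹) := by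
  have hnN := (C.memN n).mp hn
  have hact' : ActsAs D F ((n⁻¹ : ↥(D.group F)) : GL D.Idx F) w⁻¹ :=
    hact.inv C.I C.hp C.hA hnN
  have hps := C.ps_of_pos hi hs (C.P.N.inv_mem hn) hact' (by rwa [inv_inv])
  obtain ⟨x, hx, y, hy, e⟩ := (helper8.mem_dc_iff C.P).mp (helper8.dc_inv C.P hg)
  have h1 : s * g⁻¹ ∈ helper8.dc C.P (s * n⁻¹) := by
    rw [e]
    have := helper8.dc_mul_right C.P (hps x hx) hy
    have e2 : s * (x * n⁻¹ * y) = s * x * n⁻¹ * y := by group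
    rw [e2]
    exact this
  have h2 := helper8.dc_inv C.P h1
  have e3 : (s * g⁻¹)⁻¹ = g * s⁻¹ := by group
  have e4 : (s * n⁻¹)⁻¹ = n * s⁻¹ := by group
  rwa [e3, e4] at h2

theorem exists_simple (i : Fin D.rank) : ∃ s : ↥(D.group F), s ∈ C.P.S ∧
    ((s : GL D.Idx F) : Matrix D.Idx D.Idx F) = D.nMat F (D.simple i.val) 1 := by
  obtain ⟨Si⟩ := C.I.hSD' ⟨D.simple i.val, (C.I.hS i).1⟩
  have h1 : sl2Hom Si (sl2n 1 one_ne_zero) ∈ D.monomialSubgroup F :=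
    simpleNSet_subset C.I ⟨i.val, i.isLt, sl2Hom_sl2n Si 1 one_ne_zero⟩
  refine ⟨⟨_, C.hNG h1⟩, ?_, sl2Hom_sl2n Si 1 one_ne_zero⟩
  rw [C.hPS]
  exact ⟨i.val, i.isLt, sl2Hom_sl2n Si 1 one_ne_zero⟩

/-- the elements of `⟨n_p : p ∈ J⟩` act as elements of `W_J` -/
theorem actsAs_of_closure (J : Set ℕ) {m : ↥(D.group F)}
    (hm : m ∈ Subgroup.closure (simpleSet D F J)) :
    ∃ v ∈ C.A.W (nodesOf D J), ActsAs D F (m : GL D.Idx F) v := by
  induction hm using Subgroup.closure_induction with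
  | mem x hx =>
    obtain ⟨j, hjJ, hj, hx⟩ := hx
    exact ⟨C.A.σ ⟨j, hj⟩, C.A.σ_mem_W _ _ hjJ, actsAs_simple C.I C.hA ⟨j, hj⟩ hx⟩
  | one => exact ⟨1, one_mem _, actsAs_one⟩
  | mul x y hx hy ihx ihy =>
    obtain ⟨v, hv, h⟩ := ihx
    obtain ⟨v', hv', h'⟩ := ihy
    exact ⟨v * v', mul_mem hv hv', h.mul h'⟩
  | inv x hx ih =>
    obtain ⟨v, hv, h⟩ := ih
    have hxN : (x : GL D.Idx F) ∈ D.monomialSubgroup F :=
      (C.memN x).mp (helper8.closure_le_N C.P (C.simpleSet_subset J) hx)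
    exact ⟨v⁻¹, inv_mem hv, h.inv C.I C.hp C.hA hxN⟩

/-- the elements of `W_J` are realised in `⟨n_p : p ∈ J⟩` -/
theorem exists_closure_actsAs (J : Set ℕ) {v : Equiv.Perm (Fin D.nroots)}
    (hv : v ∈ C.A.W (nodesOf D J)) :
    ∃ m ∈ Subgroup.closure (simpleSet D F J), ActsAs D F (m : GL D.Idx F) v := by
  unfold WeylData.W at hv
  induction hv using Subgroup.closure_induction with
  | mem x hx =>
    obtain ⟨i, hi, rfl⟩ := hx
    obtain ⟨s, hs, hs'⟩ := C.exists_simple i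
    exact ⟨s, Subgroup.subset_closure ⟨i.val, hi, i.isLt, hs'⟩, actsAs_simple C.I C.hA i hs'⟩
  | one => exact ⟨1, one_mem _, actsAs_one⟩
  | mul x y _ _ hx hy =>
    obtain ⟨m, hm, h⟩ := hx
    obtain ⟨m', hm', h'⟩ := hy
    exact ⟨m * m', mul_mem hm hm', h.mul h'⟩
  | inv x _ hx =>
    obtain ⟨m, hm, h⟩ := hx
    exact ⟨m⁻¹, inv_mem hm, h.inv C.I C.hp C.hA
      ((C.memN m).mp (helper8.closure_le_N C.P (C.simpleSet_subset J) hm))⟩

/-- `(B n B)(B m B) = B n m B` for `n` acting as a `J`-reduced element and `m` as an element of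
`W_J` -/
theorem dc_mul_of_red (J : Set ℕ) {n : ↥(D.group F)} (hn : n ∈ C.P.N)
    {d : Equiv.Perm (Fin D.nroots)} (hd : ActsAs D F (n : GL D.Idx F) d)
    (hdW : d ∈ C.A.W Set.univ) (hred : C.A.Red (nodesOf D J) d) :
    ∀ (k : ℕ) (u : List (Fin D.rank)), u.length = k → (∀ i ∈ u, i ∈ nodesOf D J) →
      ∀ m : ↥(D.group F), m ∈ C.P.N → ActsAs D F (m : GL D.Idx F) (C.A.pw u) →
      ∀ g ∈ helper8.dc C.P n, ∀ p ∈ helper8.dc C.P m, g * p ∈ helper8.dc C.P (n * m) := by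
  intro k
  induction k using Nat.strong_induction_on with
  | _ k ih =>
  intro u hk hu m hm hact g hg p hp
  by_cases h1 : C.A.pw u = 1
  · rw [h1] at hact
    have hmH := mem_diag_of_actsAs_one C.I C.hp C.hA C.hBG C.hNG C.hG _ ((C.memN m).mp hm) hact
    have hmB : m ∈ C.P.B := C.memB_of_diag m hmH
    have hpB : p ∈ C.P.B := (helper8.mem_dc_of_mem_B C.P hmB).mp hp
    obtain ⟨x, hx, y, hy, rfl⟩ := (helper8.mem_dc_iff C.P).mp hg
    rw [helper8.mem_dc_iff]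
    exact ⟨x, hx, m⁻¹ * y * p, C.P.B.mul_mem (C.P.B.mul_mem (C.P.B.inv_mem hmB) hy) hpB,
      by group⟩
  · have hvW : C.A.pw u ∈ C.A.W (nodesOf D J) := C.A.pw_mem_W _ u hu
    have h2 : ∃ j ∈ nodesOf D J, ¬ C.A.pos (C.A.pw u (C.A.simple j)) := by
      by_contra hcon
      push Not at hcon
      exact h1 (C.A.eq_one_of_pos (nodesOf D J) _ hvW hcon)
    obtain ⟨j, hjJ, hneg⟩ := h2
    have hpos' : C.A.pos (C.A.pw (u ++ [j]) (C.A.simple j)) := by
      rw [C.A.pw_concat, Equiv.Perm.mul_apply, C.A.σ_simple, (C.A.compat_pw u).pos_iff C.A]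
      exact hneg
    have hujW : C.A.pw (u ++ [j]) ∈ C.A.W (nodesOf D J) := by
      apply C.A.pw_mem_W
      intro i hi
      rcases List.mem_append.mp hi with h | h
      · exact hu i h
      · rw [List.mem_singleton.mp h]
        exact hjJ
    obtain ⟨u1, j', u2, rfl, he⟩ := C.A.exchange u j hpos'
    obtain ⟨s, hsS, hs⟩ := C.exists_simple j
    have hsN : s ∈ C.P.N := C.P.subset hsS
    have hact' : ActsAs D F ((m * s : ↥(D.group F)) : GL D.Idx F) (C.A.pw (u1 ++ u2)) := by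
      rw [← he, C.A.pw_concat]
      exact hact.mul (actsAs_simple C.I C.hA j hs)
    have hu' : ∀ i ∈ u1 ++ u2, i ∈ nodesOf D J := by
      intro i hi
      apply hu
      simp only [List.mem_append, List.mem_cons] at hi ⊢
      tauto
    have hlen : (u1 ++ u2).length < k := by
      rw [← hk]
      simp
    have IH := ih (u1 ++ u2).length hlen (u1 ++ u2) rfl hu' (m * s) (C.P.N.mul_mem hm hsN) hact'
    obtain ⟨x, hx, y, hy, rfl⟩ := (helper8.mem_dc_iff C.P).mp hp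
    have h3 : g * (x * (m * s)) ∈ helper8.dc C.P (n * (m * s)) :=
      IH g hg (x * (m * s)) (helper8.dc_mul_left C.P (helper8.mem_dc_self C.P _) hx)
    have hact2 : ActsAs D F ((n * (m * s) : ↥(D.group F)) : GL D.Idx F)
        (d * C.A.pw (u1 ++ u2)) := hd.mul hact'
    have hpos2 : C.A.pos ((d * C.A.pw (u1 ++ u2)) (C.A.simple ⟨j.val, j.isLt⟩)) := by
      show C.A.pos ((d * C.A.pw (u1 ++ u2)) (C.A.simple j))
      rw [Equiv.Perm.mul_apply, ← he]
      apply C.X.pos_of_red (nodesOf D J) d hdW hred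
      · exact C.A.W_mem_S (nodesOf D J) (C.X.Sub (nodesOf D J))
          (fun i hi r hr => C.X.sub_σ _ i hi r hr) _ hujW _ (C.X.sub_simple _ j hjJ)
      · exact hpos'
    have h4 := C.dc_mul_sinv_of_pos j.isLt hs (C.P.N.mul_mem hn (C.P.N.mul_mem hm hsN)) hact2
      hpos2 h3
    have e1 : n * (m * s) * s⁻¹ = n * m := by group
    rw [e1] at h4
    have h5 := helper8.dc_mul_right C.P h4 hy
    have e2 : g * (x * (m * s)) * s⁻¹ * y = g * (x * m * y) := by group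
    rwa [e2] at h5

/-- every coset of `P_J` contains an element of a cell of a `J`-reduced element -/
theorem exists_red (J : Set ℕ) (g : ↥(D.group F)) :
    ∃ p ∈ C.P.parabolic (simpleSet D F J), ∃ d, C.Cell (g * p) d ∧ C.A.Red (nodesOf D J) d := by
  obtain ⟨w, hw, n, hn, hg, hact⟩ := C.cell_exists g
  obtain ⟨d, hd, v, hv, hred, e⟩ := C.A.exists_red_mul (nodesOf D J) w hw
  obtain ⟨m, hm, hactm⟩ := C.exists_closure_actsAs J hv
  have hmN : m ∈ C.P.N := helper8.closure_le_N C.P (C.simpleSet_subset J) hm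
  obtain ⟨x, hx, y, hy, rfl⟩ := (helper8.mem_dc_iff C.P).mp hg
  refine ⟨y⁻¹ * m⁻¹, ?_, d, ?_, hred⟩
  · exact mul_mem (helper8.B_le_parabolic C.P _ (C.P.B.inv_mem hy))
      (inv_mem ((le_sup_right : Subgroup.closure (simpleSet D F J) ≤ C.P.parabolic _) hm))
  · refine ⟨n * m⁻¹, C.P.N.mul_mem hn (C.P.N.inv_mem hmN), ?_, ?_⟩
    · rw [helper8.mem_dc_iff]
      exact ⟨x, hx, 1, C.P.B.one_mem, by group⟩
    · have h1 := hact.mul (hactm.inv C.I C.hp C.hA ((C.memN m).mp hmN))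
      have e2 : w * v⁻¹ = d := by rw [e, mul_inv_cancel_right]
      rw [e2] at h1
      exact h1

/-- an element of `P_J` moving a cell of a `J`-reduced element to such a cell lies in `B` -/
theorem mem_B_of_red (J : Set ℕ) {g p : ↥(D.group F)} {d d' : Equiv.Perm (Fin D.nroots)}
    (hc : C.Cell g d) (hred : C.A.Red (nodesOf D J) d)
    (hp : p ∈ C.P.parabolic (simpleSet D F J))
    (hc' : C.Cell (g * p) d') (hred' : C.A.Red (nodesOf D J) d') : p ∈ C.P.B := by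
  obtain ⟨m, hm, hpm⟩ := (helper8.mem_parabolic_iff C.P (C.simpleSet_subset J) p).mp hp
  have hmN : m ∈ C.P.N := helper8.closure_le_N C.P (C.simpleSet_subset J) hm
  obtain ⟨v, hv, hactm⟩ := C.actsAs_of_closure J hm
  obtain ⟨u, hu, rfl⟩ := (C.A.mem_W_iff _ v).mp hv
  have hdW := C.cell_mem_W hc
  obtain ⟨n, hn, hg, hact⟩ := hc
  have h1 := C.dc_mul_of_red J hn hact hdW hred u.length u rfl hu m hmN hactm g hg p hpm
  have h2 : C.Cell (g * p) (d * C.A.pw u) := ⟨n * m, C.P.N.mul_mem hn hmN, h1, hact.mul hactm⟩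
  have h3 := C.cell_unique hc' h2
  have h4 := C.X.red_unique (nodesOf D J) d' d 1 (C.A.pw u) hdW (one_mem _) hv hred' hred
    (by rw [mul_one]; exact h3)
  rw [← h4.2] at hactm
  have hmH := mem_diag_of_actsAs_one C.I C.hp C.hA C.hBG C.hNG C.hG _ ((C.memN m).mp hmN) hactm
  exact (helper8.mem_dc_of_mem_B C.P (C.memB_of_diag m hmH)).mp hpm

/-- `B ∩ n₀ B n₀⁻¹ = H` for `n₀` acting as the longest element -/
theorem diag_of_conj_longest {n0 : ↥(D.group F)} (hn0 : n0 ∈ C.P.N)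
    {w0 : Equiv.Perm (Fin D.nroots)} (hact : ActsAs D F (n0 : GL D.Idx F) w0)
    (hw0 : ∀ r, C.A.pos r → ¬ C.A.pos (w0 r)) {y : ↥(D.group F)} (hy : y ∈ C.P.B)
    (hy' : n0⁻¹ * y * n0 ∈ C.P.B) : (y : GL D.Idx F) ∈ D.diagonalSubgroup F := by
  have hn0N := (C.memN n0).mp hn0
  obtain ⟨u, hu, h, hh, e⟩ := borel_decomp C.I ((C.memB y).mp hy)
  obtain ⟨π, c, hπ, hw⟩ := hact.inv C.I C.hp C.hA hn0N
  have hUV : ∀ z ∈ D.posUnipotent F,
      (n0 : GL D.Idx F)⁻¹ * z * (n0 : GL D.Idx F) ∈ D.negUnipotent F := by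
    intro z hz
    unfold ChevalleyDatum.posUnipotent at hz
    induction hz using Subgroup.closure_induction with
    | mem x hx =>
      obtain ⟨r, t, hr, hx⟩ := hx
      have hr' := (C.I.hU.pos_iff r).mp hr
      have e1 := rootAct_conj hπ hr'.2 hx
      rw [inv_inv] at e1
      have hneg : π r < D.nroots / 2 := by
        have h1 := hw ⟨r, hr'.2⟩
        by_contra hge
        rw [not_lt] at hge
        have h2 : C.A.pos (w0⁻¹ ⟨r, hr'.2⟩) := (C.hA.pos _).mpr (by rw [← h1]; exact hge)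
        have h3 := hw0 _ h2
        rw [perm_apply_inv] at h3
        exact h3 ((C.hA.pos _).mpr hr'.1)
      exact x_mem_neg C.I C.hpn (hπ r hr'.2).1 hneg e1
    | one => simp
    | mul a b _ _ ha hb =>
      have : (n0 : GL D.Idx F)⁻¹ * (a * b) * n0 =
          ((n0 : GL D.Idx F)⁻¹ * a * n0) * ((n0 : GL D.Idx F)⁻¹ * b * n0) := by group
      rw [this]
      exact mul_mem ha hb
    | inv a _ ha =>
      have : (n0 : GL D.Idx F)⁻¹ * a⁻¹ * n0 = ((n0 : GL D.Idx F)⁻¹ * a * n0)⁻¹ := by group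
      rw [this]
      exact inv_mem ha
  have h1 : (n0 : GL D.Idx F)⁻¹ * u * n0 ∈ D.borelSubgroup F := by
    have h2 : (n0 : GL D.Idx F)⁻¹ * (y : GL D.Idx F) * n0 ∈ D.borelSubgroup F :=
      (C.memB _).mp hy'
    have h3 := conj_mem_diag C.I (inv_mem hn0N) (inv_mem hh)
    rw [inv_inv] at h3
    have e2 : (n0 : GL D.Idx F)⁻¹ * u * n0 =
        ((n0 : GL D.Idx F)⁻¹ * (y : GL D.Idx F) * n0) * ((n0 : GL D.Idx F)⁻¹ * h⁻¹ * n0) := by
      rw [e]
      group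
    rw [e2]
    exact mul_mem h2 (Subgroup.mem_sup_right h3)
  have h4 := borel_inf_neg C.I C.hN h1 (hUV u hu)
  have h5 : u = 1 := by
    have : u = n0 * ((n0 : GL D.Idx F)⁻¹ * u * n0) * (n0 : GL D.Idx F)⁻¹ := by group
    rw [this, h4]
    group
  rw [e, h5, one_mul]
  exact hh

end CellCtx

end Cfsg.Agent.Lib.helper41
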