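import Cfsg.Agent.Lib.helper41.WeylCenter
import Cfsg.Agent.Lib.helper41.ChevWeylB2
import Cfsg.Agent.S1092
import Cfsg.Prelude.Def_ChevStructure

/-! The centre of the Coxeter group of type B2 (generated certificates, kernel-checked). -/

set_option autoImplicit false
set_option maxRecDepth 100000

namespace Cfsg.Agent.Lib.helper41.TabB2

open Cfsg.Lie Cfsg.Agent.Lib.helper41 Cfsg.Agent.Lib.helper41.RootTab

/-- the Coxeter matrix, packed -/
def coxMc (i j : ℕ) : ℕ := pk8 0x1040401 (Nat.add (Nat.mul i 2) j)

theorem relOKc : relOKC rootTab coxMc = true := by decide +kernel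

theorem coxMc_eq : ∀ i j : Fin 2, (CoxeterMatrix.B 2).M i j = coxMc i.val j.val := by
  intro i j
  fin_cases i <;> fin_cases j <;> decide

/-- the Weyl group data, with the numbers of roots and of nodes as numerals -/
noncomputable def weylC : WeylData 8 2 := weylData

/-- the order of the Weyl group -/
theorem cardWc : Nat.card (weylC.W Set.univ) = 8 := by
  have h := WeylData.card_W weylC Set.univ
  have h2 : weylC.poin Set.univ 1 = _ := poincare 1
  rw [← h, h2]
  simp

def cenPar : ℕ → ℕ := pk8 0x0

def cenDep : ℕ → ℕ := pk8 0x100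

theorem cenOK : cenCheck rootTab cenPar cenDep = true := by decide +kernel

theorem coxEquiv : ∃ e : (CoxeterMatrix.B 2).Group ≃* ↥(weylC.W Set.univ),
    ∀ i, (e ((CoxeterMatrix.B 2).simple i) : Equiv.Perm (Fin 8)) = weylC.σ i := by
  have hrel : ∀ i j : Fin 2, (weylC.σ i * weylC.σ j) ^ ((CoxeterMatrix.B 2).M i j) = 1 := by
    intro i j
    rw [coxMc_eq i j]
    exact rel_of_okC rootTab rootValid coxMc relOKc i j
  have hcard : Nat.card (CoxeterMatrix.B 2).Group = Nat.card (weylC.W Set.univ) := by
    rw [cardWc]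
    exact Cfsg.Agent.S1092.result (⟨2, CoxeterMatrix.B 2⟩, 8) (List.mem_cons_self)
  exact weylC.coxeter_equiv (CoxeterMatrix.B 2) hrel hcard

theorem negOK : negCheck rootTab 2 = true := by decide +kernel

/-- the centre of the Coxeter group of type B2 has order 2 and lies in the cyclic group of
the Coxeter element -/
theorem center_result : Nat.card (Subgroup.center (CoxeterMatrix.B 2).Group) = 2 ∧
    Subgroup.center (CoxeterMatrix.B 2).Group ≤
      Subgroup.zpowers (((List.finRange 2).map (CoxeterMatrix.B 2).simple).prod) := by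
  obtain ⟨e, he⟩ := coxEquiv
  obtain ⟨h1, h2, h3⟩ := center_neg rootValid cenPar cenDep cenOK (by decide) 2 negOK
  exact weylC.center_coxeter_two (CoxeterMatrix.B 2) e he 2 h1 h2 h3

end Cfsg.Agent.Lib.helper41.TabB2
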