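import Cfsg.Agent.Lib.helper41.ChevNW
import Cfsg.Agent.Lib.helper41.ChevOrderG2
import Cfsg.Agent.S1092
import Cfsg.Prelude.Def_ChevStructure

/-! `N / H` of the Chevalley group of type G2 is the Coxeter group of type G2. -/

set_option autoImplicit false
set_option maxRecDepth 100000

namespace Cfsg.Agent.Lib.helper41.TabG2

open Cfsg.Lie Cfsg.Agent.Lib.helper41 Cfsg.Agent.Lib.helper22

/-- the Coxeter matrix, packed -/
def coxM (i j : ℕ) : ℕ := pk8 0x1060601 (Nat.add (Nat.mul i 2) j)

theorem relOKG2 : relOK rootTab coxM = true := by decide +kernel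

theorem coxM_eq : ∀ i j : Fin 2, (CoxeterMatrix.G₂).M i j = coxM i.val j.val := by
  intro i j
  fin_cases i <;> fin_cases j <;> decide

/-- the order of the Weyl group -/
theorem card_W : Nat.card (weylD.W Set.univ) = 12 := by
  have h := WeylData.card_W weylD Set.univ
  have h2 : weylD.poin Set.univ 1 = _ := poincare 1
  rw [← h, h2]
  simp

/-- `N / H ≅ W(G2)` -/
theorem coxeter_hom {F : Type*} [Field F] :
    ∃ φ : ↥(chevG2.monomialSubgroup F) →* (CoxeterMatrix.G₂).Group, Function.Surjective φ ∧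
      φ.ker = (chevG2.diagonalSubgroup F).subgroupOf (chevG2.monomialSubgroup F) ∧
      ∀ (i : Fin 2) (g : ↥(chevG2.monomialSubgroup F)),
        ((g : GL chevG2.Idx F) : Matrix chevG2.Idx chevG2.Idx F) = chevG2.nMat F (chevG2.simple i) 1 →
          φ g = (CoxeterMatrix.G₂).simple i := by
  obtain ⟨hBG, hNG, hG⟩ := Cfsg.Agent.S1043.result (F := F) chevG2 mem_list
  have hp : PrimHyp chevG2 F := fun r hr δ h =>
    prim_of_corGcd chevG2 r (ordOK_spec chevG2 ordOK_G2 r hr).2.2 δ h
  have hrel : ∀ i j : Fin 2, (weylD.σ i * weylD.σ j) ^ ((CoxeterMatrix.G₂).M i j) = 1 := by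
    intro i j
    rw [coxM_eq i j]
    exact rel_of_ok rootTab rootValid coxM relOKG2 i j
  have hcard : Nat.card (CoxeterMatrix.G₂).Group = Nat.card (weylD.W Set.univ) := by
    rw [card_W]
    exact Cfsg.Agent.S1092.result (⟨2, CoxeterMatrix.G₂⟩, 12) (List.mem_cons_of_mem _ (List.mem_cons_self))
  exact exists_coxeter_hom (bnInput_G2 F) hp wlink hBG hNG hG.ge (CoxeterMatrix.G₂) hrel hcard

end Cfsg.Agent.Lib.helper41.TabG2
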