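import Cfsg.Agent.Lib.helper41.ChevCell
import Cfsg.Prelude.Def_ParabolicCharacters

/-!
The alternating sum of the permutation characters of a Chevalley group on the cosets of its
standard parabolic subgroups, restricted to `B`: it is the permutation character of `B` on the
cosets of `H` (the fixed points on the big cell).
-/

set_option autoImplicit false

namespace Cfsg.Agent.Lib.helper41

open Cfsg.Lie Cfsg.Agent.Lib.helper22 Cfsg.Agent.Lib

universe u

/-- a coset `yK` is fixed by `g` iff `y⁻¹ g y ∈ K` -/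
theorem smul_mk_eq_mk_iff {G : Type*} [Group G] (K : Subgroup G) (g y : G) :
    g • (QuotientGroup.mk y : G ⧸ K) = QuotientGroup.mk y ↔ y⁻¹ * g * y ∈ K := by
  rw [MulAction.Quotient.smul_mk, QuotientGroup.eq, smul_eq_mul, ← inv_mem_iff (x := (g * y)⁻¹ * y)]
  have : ((g * y)⁻¹ * y)⁻¹ = y⁻¹ * g * y := by group
  rw [this]

namespace CellCtx

variable {D : ChevalleyDatum} {F : Type u} [Field F] (C : CellCtx D F)

/-- the Weyl group element of the cell of `g` -/
noncomputable def cellW (g : ↥(D.group F)) : Equiv.Perm (Fin D.nroots) :=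
  Classical.choose (C.cell_exists g)

theorem cellW_spec (g : ↥(D.group F)) : C.cellW g ∈ C.A.W Set.univ ∧ C.Cell g (C.cellW g) :=
  Classical.choose_spec (C.cell_exists g)

theorem cellW_eq {g : ↥(D.group F)} {w : Equiv.Perm (Fin D.nroots)} (h : C.Cell g w) :
    C.cellW g = w :=
  C.cell_unique (C.cellW_spec g).2 h

theorem cellW_mul_right (g : ↥(D.group F)) {b : ↥(D.group F)} (h : b ∈ C.P.B) :
    C.cellW (g * b) = C.cellW g := by
  have := C.cellW_eq (C.cell_mul (C.cellW_spec g).2 C.P.B.one_mem h)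
  rwa [one_mul] at this

theorem cellW_mul_left (g : ↥(D.group F)) {b : ↥(D.group F)} (h : b ∈ C.P.B) :
    C.cellW (b * g) = C.cellW g := by
  have := C.cellW_eq (C.cell_mul (C.cellW_spec g).2 h C.P.B.one_mem)
  rwa [mul_one] at this

/-- the cell of a coset of `B` -/
noncomputable def cellQ (c : ↥(D.group F) ⧸ C.P.B) : Equiv.Perm (Fin D.nroots) := C.cellW c.out

theorem cellQ_mk (x : ↥(D.group F)) :
    C.cellQ (QuotientGroup.mk x : ↥(D.group F) ⧸ C.P.B) = C.cellW x := by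
  obtain ⟨b, hb⟩ := QuotientGroup.mk_out_eq_mul C.P.B x
  unfold cellQ
  rw [hb]
  exact C.cellW_mul_right x b.2

/-- the standard parabolic subgroups are those of the `(B, N)`-pair -/
theorem parabolicIn_eq (J : Finset ℕ) :
    D.parabolicIn F J = C.P.parabolic (simpleSet D F ↑J) := by
  unfold ChevalleyDatum.parabolicIn ChevalleyDatum.parabolicSubgroup Cfsg.BNPair.parabolic
  apply le_antisymm
  · intro x hx
    rw [Subgroup.mem_subgroupOf] at hx
    have key : D.borelSubgroup F ⊔ Subgroup.closure {g : GL D.Idx F | ∃ j ∈ (↑J : Set ℕ),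
        j < D.rank ∧ (g : Matrix D.Idx D.Idx F) = D.nMat F (D.simple j) 1} ≤
        (C.P.B ⊔ Subgroup.closure (simpleSet D F ↑J)).map (D.group F).subtype := by
      rw [Subgroup.map_sup, MonoidHom.map_closure]
      apply sup_le_sup
      · rw [C.hPB, Subgroup.map_subgroupOf_eq_of_le C.hBG]
      · apply Subgroup.closure_mono
        rintro g ⟨j, hjJ, hj, hg⟩
        exact ⟨⟨g, C.hNG (simpleNSet_subset C.I ⟨j, hj, hg⟩)⟩, ⟨j, hjJ, hj, hg⟩, rfl⟩
    obtain ⟨y, hy, e⟩ := key hx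
    have : y = x := Subtype.ext e
    rwa [this] at hy
  · apply sup_le
    · intro x hx
      rw [Subgroup.mem_subgroupOf]
      exact Subgroup.mem_sup_left ((C.memB x).mp hx)
    · rw [Subgroup.closure_le]
      rintro s ⟨j, hjJ, hj, hs⟩
      show s ∈ Subgroup.subgroupOf _ _
      rw [Subgroup.mem_subgroupOf]
      exact Subgroup.mem_sup_right (Subgroup.subset_closure ⟨j, hjJ, hj, hs⟩)

/-- the fixed points of an element of `B` on the cosets of `P_J` correspond to its fixed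
cosets of `B` in the cells of the `J`-reduced elements -/
theorem card_fixed_parabolic [Finite F] (J : Finset ℕ) {b : ↥(D.group F)} (hb : b ∈ C.P.B) :
    Nat.card (MulAction.fixedBy (↥(D.group F) ⧸ C.P.parabolic (simpleSet D F ↑J)) b) =
      Nat.card {c : ↥(D.group F) ⧸ C.P.B //
        C.A.Red (nodesOf D ↑J) (C.cellQ c) ∧ b • c = c} := by
  symm
  have hBP : C.P.B ≤ C.P.parabolic (simpleSet D F ↑J) := helper8.B_le_parabolic C.P _
  have hwd : ∀ c : ↥(D.group F) ⧸ C.P.B, b • c = c →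
      b • (QuotientGroup.mk c.out : ↥(D.group F) ⧸ C.P.parabolic (simpleSet D F ↑J)) =
        QuotientGroup.mk c.out := by
    intro c hc
    rw [smul_mk_eq_mk_iff]
    have h1 : b • (QuotientGroup.mk c.out : ↥(D.group F) ⧸ C.P.B) = QuotientGroup.mk c.out := by
      rw [QuotientGroup.out_eq']
      exact hc
    rw [smul_mk_eq_mk_iff] at h1
    exact hBP h1
  refine Nat.card_congr (Equiv.ofBijective
    (fun x : {c : ↥(D.group F) ⧸ C.P.B // C.A.Red (nodesOf D ↑J) (C.cellQ c) ∧ b • c = c} =>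
      (⟨QuotientGroup.mk x.1.out, hwd x.1 x.2.2⟩ :
        MulAction.fixedBy (↥(D.group F) ⧸ C.P.parabolic (simpleSet D F ↑J)) b)) ⟨?_, ?_⟩)
  · rintro ⟨c, hred, hfix⟩ ⟨c', hred', hfix'⟩ h
    have h1 : (QuotientGroup.mk c.out : ↥(D.group F) ⧸ C.P.parabolic (simpleSet D F ↑J)) =
        QuotientGroup.mk c'.out := congrArg Subtype.val h
    rw [QuotientGroup.eq] at h1
    apply Subtype.ext
    show c = c'
    rw [← QuotientGroup.out_eq' c, ← QuotientGroup.out_eq' c', QuotientGroup.eq]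
    have e : c.out * (c.out⁻¹ * c'.out) = c'.out := by group
    exact C.mem_B_of_red ↑J (C.cellW_spec c.out).2 hred h1
      (by rw [e]; exact (C.cellW_spec c'.out).2) hred'
  · rintro ⟨c', hc'⟩
    obtain ⟨y, rfl⟩ := QuotientGroup.mk_surjective c'
    rw [MulAction.mem_fixedBy, smul_mk_eq_mk_iff] at hc'
    obtain ⟨p, hp, d, hcell, hred⟩ := C.exists_red ↑J y
    have hq : (y * p)⁻¹ * b * (y * p) ∈ C.P.B := by
      have hq1 : (y * p)⁻¹ * b * (y * p) ∈ C.P.parabolic (simpleSet D F ↑J) := by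
        have e : (y * p)⁻¹ * b * (y * p) = p⁻¹ * (y⁻¹ * b * y) * p := by group
        rw [e]
        exact mul_mem (mul_mem (inv_mem hp) hc') hp
      have hcell2 : C.Cell ((y * p) * ((y * p)⁻¹ * b * (y * p))) d := by
        have e : (y * p) * ((y * p)⁻¹ * b * (y * p)) = b * (y * p) * 1 := by group
        rw [e]
        exact C.cell_mul hcell hb C.P.B.one_mem
      exact C.mem_B_of_red ↑J hcell hred hq1 hcell2 hred
    have hredc : C.A.Red (nodesOf D ↑J)
        (C.cellQ (QuotientGroup.mk (y * p) : ↥(D.group F) ⧸ C.P.B)) := by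
      rw [C.cellQ_mk, C.cellW_eq hcell]
      exact hred
    have hfixc : b • (QuotientGroup.mk (y * p) : ↥(D.group F) ⧸ C.P.B) =
        QuotientGroup.mk (y * p) := by
      rw [smul_mk_eq_mk_iff]
      exact hq
    refine ⟨⟨QuotientGroup.mk (y * p), hredc, hfixc⟩, ?_⟩
    apply Subtype.ext
    show (QuotientGroup.mk (QuotientGroup.mk (y * p) : ↥(D.group F) ⧸ C.P.B).out :
      ↥(D.group F) ⧸ C.P.parabolic (simpleSet D F ↑J)) = QuotientGroup.mk y
    obtain ⟨b', hb'⟩ := QuotientGroup.mk_out_eq_mul C.P.B (y * p)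
    rw [hb', QuotientGroup.eq]
    have e : (y * p * ↑b')⁻¹ * y = (↑b' : ↥(D.group F))⁻¹ * p⁻¹ := by group
    rw [e]
    exact mul_mem (inv_mem (hBP b'.2)) (inv_mem hp)

/-- the fixed cosets of `B` in the big cell correspond to the fixed cosets of `H` in `B` -/
theorem card_fixed_big [Finite F] {w0 : Equiv.Perm (Fin D.nroots)} (hw0W : w0 ∈ C.A.W Set.univ)
    (hw0 : ∀ r, C.A.pos r → ¬ C.A.pos (w0 r)) (b : ↥C.P.B) :
    Nat.card {c : ↥(D.group F) ⧸ C.P.B // C.cellQ c = w0 ∧ (b : ↥(D.group F)) • c = c} =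
      Nat.card (MulAction.fixedBy
        (↥C.P.B ⧸ ((D.diagonalSubgroup F).subgroupOf (D.group F)).subgroupOf C.P.B) b) := by
  symm
  obtain ⟨n0', hn0', hact0⟩ := exists_monomial_actsAs C.I C.hp C.hA hw0W
  obtain ⟨n0, hn0e⟩ : ∃ n0 : ↥(D.group F), (n0 : GL D.Idx F) = n0' := ⟨⟨n0', C.hNG hn0'⟩, rfl⟩
  rw [← hn0e] at hn0' hact0
  have hn0 : n0 ∈ C.P.N := (C.memN n0).mpr hn0'
  have conjH : ∀ h : ↥(D.group F), (h : GL D.Idx F) ∈ D.diagonalSubgroup F →
      n0⁻¹ * h * n0 ∈ C.P.B := by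
    intro h hh
    have h1 := conj_mem_diag C.I (inv_mem hn0') hh
    rw [inv_inv] at h1
    exact (C.memB _).mpr (Subgroup.mem_sup_right h1)
  have memK : ∀ y : ↥C.P.B,
      y ∈ ((D.diagonalSubgroup F).subgroupOf (D.group F)).subgroupOf C.P.B ↔
        ((y : ↥(D.group F)) : GL D.Idx F) ∈ D.diagonalSubgroup F := by
    intro y
    rw [Subgroup.mem_subgroupOf, Subgroup.mem_subgroupOf]
  have th_mk : ∀ y : ↥C.P.B,
      (QuotientGroup.mk (((QuotientGroup.mk y : ↥C.P.B ⧸
        ((D.diagonalSubgroup F).subgroupOf (D.group F)).subgroupOf C.P.B).out : ↥(D.group F)) * n0) :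
        ↥(D.group F) ⧸ C.P.B) = QuotientGroup.mk ((y : ↥(D.group F)) * n0) := by
    intro y
    obtain ⟨h, hh⟩ := QuotientGroup.mk_out_eq_mul
      (((D.diagonalSubgroup F).subgroupOf (D.group F)).subgroupOf C.P.B) y
    rw [hh, QuotientGroup.eq]
    have e : (((y * ↑h : ↥C.P.B) : ↥(D.group F)) * n0)⁻¹ * ((y : ↥(D.group F)) * n0) =
        n0⁻¹ * (((h : ↥C.P.B) : ↥(D.group F)))⁻¹ * n0 := by
      push_cast
      group
    rw [e]
    exact conjH _ (inv_mem ((memK h).mp h.2))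
  have hwd : ∀ e : ↥C.P.B ⧸ ((D.diagonalSubgroup F).subgroupOf (D.group F)).subgroupOf C.P.B,
      e ∈ MulAction.fixedBy
        (↥C.P.B ⧸ ((D.diagonalSubgroup F).subgroupOf (D.group F)).subgroupOf C.P.B) b →
      C.cellQ (QuotientGroup.mk ((e.out : ↥(D.group F)) * n0) : ↥(D.group F) ⧸ C.P.B) = w0 ∧
      (b : ↥(D.group F)) • (QuotientGroup.mk ((e.out : ↥(D.group F)) * n0) :
        ↥(D.group F) ⧸ C.P.B) = QuotientGroup.mk ((e.out : ↥(D.group F)) * n0) := by
    intro e he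
    constructor
    · rw [C.cellQ_mk]
      exact C.cellW_eq ⟨n0, hn0, helper8.dc_mul_left C.P (helper8.mem_dc_self C.P n0) e.out.2,
        hact0⟩
    · rw [smul_mk_eq_mk_iff]
      have h1 : (QuotientGroup.mk e.out : ↥C.P.B ⧸
          ((D.diagonalSubgroup F).subgroupOf (D.group F)).subgroupOf C.P.B) ∈ MulAction.fixedBy
          (↥C.P.B ⧸ ((D.diagonalSubgroup F).subgroupOf (D.group F)).subgroupOf C.P.B) b := by
        rw [QuotientGroup.out_eq']
        exact he
      rw [MulAction.mem_fixedBy, smul_mk_eq_mk_iff, memK] at h1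
      have e2 : ((e.out : ↥(D.group F)) * n0)⁻¹ * (b : ↥(D.group F)) * ((e.out : ↥(D.group F)) * n0) =
          n0⁻¹ * ((e.out⁻¹ * b * e.out : ↥C.P.B) : ↥(D.group F)) * n0 := by
        push_cast
        group
      rw [e2]
      exact conjH _ h1
  refine Nat.card_congr (Equiv.ofBijective
    (fun x : MulAction.fixedBy
        (↥C.P.B ⧸ ((D.diagonalSubgroup F).subgroupOf (D.group F)).subgroupOf C.P.B) b =>
      (⟨QuotientGroup.mk ((x.1.out : ↥(D.group F)) * n0), hwd x.1 x.2⟩ :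
        {c : ↥(D.group F) ⧸ C.P.B // C.cellQ c = w0 ∧ (b : ↥(D.group F)) • c = c}))
    ⟨?_, ?_⟩)
  · rintro ⟨e, he⟩ ⟨e', he'⟩ h
    have h1 : (QuotientGroup.mk ((e.out : ↥(D.group F)) * n0) : ↥(D.group F) ⧸ C.P.B) =
        QuotientGroup.mk ((e'.out : ↥(D.group F)) * n0) := congrArg Subtype.val h
    rw [QuotientGroup.eq] at h1
    apply Subtype.ext
    show e = e'
    rw [← QuotientGroup.out_eq' e, ← QuotientGroup.out_eq' e', QuotientGroup.eq, memK]
    have e2 : ((e.out : ↥(D.group F)) * n0)⁻¹ * ((e'.out : ↥(D.group F)) * n0) =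
        n0⁻¹ * ((e.out⁻¹ * e'.out : ↥C.P.B) : ↥(D.group F)) * n0 := by
      push_cast
      group
    rw [e2] at h1
    exact C.diag_of_conj_longest hn0 hact0 hw0 (e.out⁻¹ * e'.out).2 h1
  · rintro ⟨c, hc1, hc2⟩
    obtain ⟨x, rfl⟩ := QuotientGroup.mk_surjective c
    rw [C.cellQ_mk] at hc1
    obtain ⟨n, hn, hx, hact⟩ := (C.cellW_spec x).2
    rw [hc1] at hact
    obtain ⟨b1, hb1, b2, hb2, rfl⟩ := (helper8.mem_dc_iff C.P).mp hx
    have hnn : n0⁻¹ * n ∈ C.P.B := by
      apply C.memB_of_diag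
      apply mem_diag_of_actsAs_one C.I C.hp C.hA C.hBG C.hNG C.hG _
        (mul_mem (inv_mem hn0') ((C.memN n).mp hn))
      have := (hact0.inv C.I C.hp C.hA hn0').mul hact
      rwa [inv_mul_cancel] at this
    have hceq : (QuotientGroup.mk (b1 * n * b2) : ↥(D.group F) ⧸ C.P.B) =
        QuotientGroup.mk (b1 * n0) := by
      rw [QuotientGroup.eq]
      have e : (b1 * n * b2)⁻¹ * (b1 * n0) = (n0⁻¹ * n * b2)⁻¹ := by group
      rw [e]
      exact inv_mem (mul_mem hnn hb2)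
    rw [hceq] at hc2
    rw [smul_mk_eq_mk_iff] at hc2
    have e3 : (b1 * n0)⁻¹ * (b : ↥(D.group F)) * (b1 * n0) =
        n0⁻¹ * (b1⁻¹ * (b : ↥(D.group F)) * b1) * n0 := by group
    rw [e3] at hc2
    have hH := C.diag_of_conj_longest hn0 hact0 hw0
      (mul_mem (mul_mem (inv_mem hb1) b.2) hb1) hc2
    have hfix : (QuotientGroup.mk (⟨b1, hb1⟩ : ↥C.P.B) : ↥C.P.B ⧸
        ((D.diagonalSubgroup F).subgroupOf (D.group F)).subgroupOf C.P.B) ∈ MulAction.fixedBy
        (↥C.P.B ⧸ ((D.diagonalSubgroup F).subgroupOf (D.group F)).subgroupOf C.P.B) b := by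
      rw [MulAction.mem_fixedBy, smul_mk_eq_mk_iff, memK]
      exact hH
    refine ⟨⟨QuotientGroup.mk ⟨b1, hb1⟩, hfix⟩, ?_⟩
    apply Subtype.ext
    show (QuotientGroup.mk (((QuotientGroup.mk (⟨b1, hb1⟩ : ↥C.P.B) : ↥C.P.B ⧸
        ((D.diagonalSubgroup F).subgroupOf (D.group F)).subgroupOf C.P.B).out : ↥(D.group F)) * n0) :
        ↥(D.group F) ⧸ C.P.B) = QuotientGroup.mk (b1 * n * b2)
    rw [th_mk, hceq]

/-- the alternating sum of the permutation characters on the cosets of the parabolic subgroups,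
at an element of `B`, is its number of fixed cosets of `H` in `B` -/
theorem steinberg_borel [Finite F] (B' : Subgroup ↥(D.group F)) (hB' : C.P.B = B') (b : ↥B') :
    D.steinbergCharacter F (b : ↥(D.group F)) =
      Cfsg.fixedPointCharacter (((D.diagonalSubgroup F).subgroupOf (D.group F)).subgroupOf B') b := by
  subst hB'
  classical
  obtain ⟨w0, hw0W, hw0⟩ := C.A.exists_longest
  have hw0neg : ∀ r, C.A.pos r → ¬ C.A.pos (w0 r) := C.X.neg_of_simple w0 hw0W hw0
  have hfix : ∀ J : Finset ℕ,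
      Cfsg.fixedPointCharacter (D.parabolicIn F J) (b : ↥(D.group F)) =
      ∑ w : Equiv.Perm (Fin D.nroots),
        (Nat.card {x : {c : ↥(D.group F) ⧸ C.P.B //
          C.A.Red (nodesOf D ↑J) (C.cellQ c) ∧ (b : ↥(D.group F)) • c = c} //
          C.cellQ x.1 = w} : ℂ) := by
    intro J
    show (Nat.card (MulAction.fixedBy (↥(D.group F) ⧸ D.parabolicIn F J) (b : ↥(D.group F))) : ℂ)
      = _
    rw [C.parabolicIn_eq J, C.card_fixed_parabolic J b.2,
      Nat.card_congr (Equiv.sigmaFiberEquiv (fun x : {c : ↥(D.group F) ⧸ C.P.B //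
          C.A.Red (nodesOf D ↑J) (C.cellQ c) ∧ (b : ↥(D.group F)) • c = c} => C.cellQ x.1)).symm,
      Nat.card_sigma]
    push_cast
    rfl
  unfold ChevalleyDatum.steinbergCharacter
  show ∑ J ∈ (Finset.range D.rank).powerset,
    (-1 : ℂ) ^ J.card * Cfsg.fixedPointCharacter (D.parabolicIn F J) (b : ↥(D.group F)) = _
  rw [Finset.sum_congr rfl (fun J _ => by rw [hfix J])]
  rw [C.X.alt_sum
    (fun w => (Nat.card {c : ↥(D.group F) ⧸ C.P.B //
      C.cellQ c = w ∧ (b : ↥(D.group F)) • c = c} : ℂ))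
    (fun J w => (Nat.card {x : {c : ↥(D.group F) ⧸ C.P.B //
          C.A.Red (nodesOf D ↑J) (C.cellQ c) ∧ (b : ↥(D.group F)) • c = c} //
          C.cellQ x.1 = w} : ℂ)) ?_ ?_ w0 hw0W hw0]
  · show (Nat.card {c : ↥(D.group F) ⧸ C.P.B //
      C.cellQ c = w0 ∧ (b : ↥(D.group F)) • c = c} : ℂ) = _
    rw [C.card_fixed_big hw0W hw0neg b]
    rfl
  · intro J w hcond
    show (Nat.card _ : ℂ) = (Nat.card _ : ℂ)
    congr 1
    apply Nat.card_congr
    exact
      { toFun := fun x => ⟨x.1.1, x.2, x.1.2.2⟩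
        invFun := fun y => ⟨⟨y.1, by rw [y.2.1]; exact fun i hi => hcond.2 i hi, y.2.2⟩, y.2.1⟩
        left_inv := fun x => rfl
        right_inv := fun y => rfl }
  · intro J w hcond
    show (Nat.card _ : ℂ) = 0
    have hemp : IsEmpty {x : {c : ↥(D.group F) ⧸ C.P.B //
          C.A.Red (nodesOf D ↑J) (C.cellQ c) ∧ (b : ↥(D.group F)) • c = c} //
          C.cellQ x.1 = w} := by
      constructor
      rintro ⟨⟨c, hred, hfx⟩, hw⟩
      apply hcond
      have hw' : C.cellQ c = w := hw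
      rw [← hw']
      exact ⟨(C.cellW_spec _).1, fun i hi => hred i hi⟩
    rw [Nat.card_of_isEmpty, Nat.cast_zero]

end CellCtx

end Cfsg.Agent.Lib.helper41
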