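import Cfsg.Agent.Lib.helper41.WeylDesc

/-!
The longest element of a parabolic subgroup of a Weyl group acting on its roots: existence,
uniqueness, action on the simple roots, and the roots of the subsystem as images of simple
roots.
-/

set_option autoImplicit false

namespace Cfsg.Agent.Lib.helper41

namespace WeylData

variable {n l : ℕ} (A : WeylData n l)

/-- `w` is an element of `W_J` making all the simple roots of `J` negative -/
def IsLong (J : Set (Fin l)) (w : Equiv.Perm (Fin n)) : Prop :=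
  w ∈ A.W J ∧ ∀ j ∈ J, ¬ A.pos (w (A.simple j))

theorem exists_long (J : Set (Fin l)) : ∃ w, A.IsLong J w := by
  classical
  obtain ⟨w0, hw0, hmax⟩ := Finset.exists_max_image
    (Finset.univ.filter (fun w : Equiv.Perm (Fin n) => w ∈ A.W J)) A.ell
    ⟨1, by rw [Finset.mem_filter]; exact ⟨Finset.mem_univ _, one_mem _⟩⟩
  rw [Finset.mem_filter] at hw0
  refine ⟨w0, hw0.2, fun i hi hpos => ?_⟩
  have h := A.ell_mul_σ w0 (A.compat_of_mem_W _ w0 hw0.2) i hpos
  have h2 := hmax (w0 * A.σ i) (by
    rw [Finset.mem_filter]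
    exact ⟨Finset.mem_univ _, mul_mem hw0.2 (A.σ_mem_W _ i hi)⟩)
  omega

variable {A}

/-- the elements of `W_J` keep the subsystem of `J` -/
theorem Coord.sub_W (X : A.Coord) (J : Set (Fin l)) (v : Equiv.Perm (Fin n)) (hv : v ∈ A.W J)
    (r : Fin n) (hr : r ∈ X.Sub J) : v r ∈ X.Sub J :=
  A.W_mem_S J (X.Sub J) (fun i hi r hr => X.sub_σ J i hi r hr) v hv r hr

/-- the elements of `W_J` keep the positive roots outside the subsystem of `J` positive and
outside -/
theorem Coord.out_W (X : A.Coord) (J : Set (Fin l)) (v : Equiv.Perm (Fin n)) (hv : v ∈ A.W J)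
    (r : Fin n) (hr : A.pos r) (ho : r ∉ X.Sub J) : A.pos (v r) ∧ v r ∉ X.Sub J :=
  A.W_out J (X.Sub J) (fun i hi => X.sub_simple J i hi) (fun i hi r hr => X.sub_σ J i hi r hr)
    v hv r hr ho

/-- a long element makes all the positive roots of the subsystem negative -/
theorem Coord.neg_of_long (X : A.Coord) (J : Set (Fin l)) (w : Equiv.Perm (Fin n))
    (hw : A.IsLong J w) (r : Fin n) (hr : r ∈ X.Sub J) (hp : A.pos r) : ¬ A.pos (w r) := by
  obtain ⟨hwW, h⟩ := hw
  obtain ⟨u, -, rfl⟩ := (A.mem_W_iff _ w).mp hwW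
  rw [← A.pos_neg, X.c_pos]
  intro j
  rw [X.c_neg, X.lin u r j, ← Finset.sum_neg_distrib]
  apply Finset.sum_nonneg
  intro k _
  by_cases hk : k ∈ J
  · have h1 : 0 ≤ X.c (A.neg (A.pw u (A.simple k))) j :=
      (X.c_pos _).mp ((A.pos_neg _).mpr (h k hk)) j
    rw [X.c_neg] at h1
    have h2 := (X.c_pos r).mp hp k
    have e : -(X.c r k * X.c (A.pw u (A.simple k)) j) =
        X.c r k * (-X.c (A.pw u (A.simple k)) j) := by ring
    rw [e]
    exact mul_nonneg h2 h1
  · rw [hr k hk, zero_mul, neg_zero]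

/-- the long element is unique -/
theorem Coord.long_unique (X : A.Coord) (J : Set (Fin l)) (w w' : Equiv.Perm (Fin n))
    (hw : A.IsLong J w) (hw' : A.IsLong J w') : w = w' := by
  have h1 : w'⁻¹ * w = 1 := by
    apply A.eq_one_of_pos J _ (mul_mem (inv_mem hw'.1) hw.1)
    intro i hi
    rw [Equiv.Perm.mul_apply]
    have hc' := A.compat_of_mem_W _ w' hw'.1
    have hS : w (A.simple i) ∈ X.Sub J := X.sub_W J w hw.1 _ (X.sub_simple J i hi)
    have hneg := hw.2 i hi
    by_contra hcon
    -- `s = neg (w'⁻¹ (w α_i))` is a positive root of the subsystem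
    have hsS : A.neg (w'⁻¹ (w (A.simple i))) ∈ X.Sub J :=
      X.sub_neg J _ (X.sub_W J w'⁻¹ (inv_mem hw'.1) _ hS)
    have h2 := X.neg_of_long J w' hw' _ hsS ((A.pos_neg _).mpr hcon)
    rw [hc'.1, perm_apply_inv, A.pos_neg] at h2
    exact h2 hneg
  exact (inv_mul_eq_one.mp h1).symm

/-- the long element is an involution -/
theorem Coord.long_inv (X : A.Coord) (J : Set (Fin l)) (w : Equiv.Perm (Fin n))
    (hw : A.IsLong J w) : w⁻¹ = w := by
  apply X.long_unique J _ _ _ hw
  refine ⟨inv_mem hw.1, fun j hj hpos => ?_⟩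
  have hS : w⁻¹ (A.simple j) ∈ X.Sub J := X.sub_W J w⁻¹ (inv_mem hw.1) _ (X.sub_simple J j hj)
  have h := X.neg_of_long J w hw _ hS hpos
  rw [perm_apply_inv] at h
  exact h (A.pos_simple j)

/-- the long element maps the simple roots of `J` to the negatives of simple roots of `J` -/
theorem Coord.long_simple (X : A.Coord) (J : Set (Fin l)) (w : Equiv.Perm (Fin n))
    (hw : A.IsLong J w) (j : Fin l) (hj : j ∈ J) :
    ∃ j' ∈ J, w (A.simple j) = A.neg (A.simple j') := by
  by_contra hcon
  push Not at hcon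
  have hc := A.compat_of_mem_W _ w hw.1
  have hinv := X.long_inv J w hw
  have hww : ∀ r, w (w r) = r := by
    intro r
    have := perm_apply_inv w r
    rwa [hinv] at this
  have hlong : A.IsLong J (A.σ j * w) := by
    refine ⟨mul_mem (A.σ_mem_W J j hj) hw.1, fun k hk => ?_⟩
    rw [Equiv.Perm.mul_apply]
    have hneg := hw.2 k hk
    have hpos : A.pos (A.neg (w (A.simple k))) := (A.pos_neg _).mpr hneg
    have hne : A.neg (w (A.simple k)) ≠ A.simple j := by
      intro he
      have h1 : w (A.simple k) = A.neg (A.simple j) := by rw [← he, A.neg_neg]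
      have h2 : A.simple k = A.neg (w (A.simple j)) := by
        rw [← hc.1, ← h1, hww]
      apply hcon k hk
      rw [h2, A.neg_neg]
    have h3 := A.σ_pos j _ hpos hne
    rw [A.σ_neg, A.pos_neg] at h3
    exact h3
  have h1 := X.long_unique J _ _ hlong hw
  have h2 : A.σ j = 1 := mul_eq_right.mp h1
  have h3 := A.σ_simple j
  rw [h2, Equiv.Perm.one_apply] at h3
  have h4 := A.pos_simple j
  rw [h3, A.pos_neg] at h4
  exact h4 (A.pos_simple j)

/-- every positive root of the subsystem of `J` is the image of a simple root of `J` under an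
element of `W_J` -/
theorem Coord.sub_eq_W_simple (X : A.Coord) (J : Set (Fin l)) (r : Fin n) (hr : r ∈ X.Sub J)
    (hp : A.pos r) : ∃ v ∈ A.W J, ∃ j ∈ J, v r = A.simple j := by
  obtain ⟨w, hw⟩ := A.exists_long J
  have hneg := X.neg_of_long J w hw r hr hp
  obtain ⟨u, hu, rfl⟩ := (A.mem_W_iff _ w).mp hw.1
  obtain ⟨u1, j, u2, rfl, h2⟩ := A.flip u r hp hneg
  refine ⟨A.pw u2, A.pw_mem_W J u2 (fun i hi => hu i (by simp [hi])), j, hu j (by simp), h2⟩

/-- for a long element `w` of `W_J` and a `J`-reduced `d`, a positive root `r` with `d w r`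
positive lies outside the subsystem -/
theorem Coord.out_of_red_long (X : A.Coord) (J : Set (Fin l)) (d w : Equiv.Perm (Fin n))
    (hd : d ∈ A.W Set.univ) (hred : A.Red J d) (hw : A.IsLong J w) (r : Fin n) (hp : A.pos r)
    (hpos : A.pos (d (w r))) : r ∉ X.Sub J := by
  intro hr
  have h1 := X.neg_of_long J w hw r hr hp
  have hS : A.neg (w r) ∈ X.Sub J := X.sub_neg J _ (X.sub_W J w hw.1 r hr)
  have h2 := X.pos_of_red J d hd hred _ hS ((A.pos_neg _).mpr h1)
  rw [(A.compat_of_mem_W _ d hd).1, A.pos_neg] at h2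
  exact h2 hpos

/-- `d v` makes all the simple roots of `J` negative iff `v` does, for `d` reduced and
`v ∈ W_J` -/
theorem Coord.long_of_red_mul (X : A.Coord) (J : Set (Fin l)) (d v : Equiv.Perm (Fin n))
    (hd : d ∈ A.W Set.univ) (hred : A.Red J d) (hv : v ∈ A.W J) :
    (∀ j ∈ J, ¬ A.pos ((d * v) (A.simple j))) ↔ A.IsLong J v := by
  constructor
  · intro h
    refine ⟨hv, fun j hj hpos => h j hj ?_⟩
    rw [Equiv.Perm.mul_apply]
    exact X.pos_of_red J d hd hred _ (X.sub_W J v hv _ (X.sub_simple J j hj)) hpos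
  · intro h j hj
    rw [Equiv.Perm.mul_apply]
    have hS : A.neg (v (A.simple j)) ∈ X.Sub J :=
      X.sub_neg J _ (X.sub_W J v hv _ (X.sub_simple J j hj))
    have h2 := X.pos_of_red J d hd hred _ hS ((A.pos_neg _).mpr (h.2 j hj))
    rw [(A.compat_of_mem_W _ d hd).1, A.pos_neg] at h2
    exact h2

/-- inclusion–exclusion over the subsets of `J`: the alternating sum over `K ⊆ J` of the sums
over the `K`-reduced elements is the sum over the elements making all the simple roots of `J`
negative -/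
theorem alt_sum_sub (J : Finset ℕ) (hJ : J ⊆ Finset.range l)
    [∀ w : Equiv.Perm (Fin n), Decidable (∀ i : Fin l, i.val ∈ J → ¬ A.pos (w (A.simple i)))]
    (f : Equiv.Perm (Fin n) → ℂ) (g : Finset ℕ → Equiv.Perm (Fin n) → ℂ)
    (hg1 : ∀ K w, (∀ i : Fin l, i.val ∈ K → A.pos (w (A.simple i))) → g K w = f w)
    (hg0 : ∀ K w, ¬ (∀ i : Fin l, i.val ∈ K → A.pos (w (A.simple i))) → g K w = 0) :
    ∑ K ∈ J.powerset, (-1 : ℂ) ^ K.card * ∑ w : Equiv.Perm (Fin n), g K w =
      ∑ w : Equiv.Perm (Fin n),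
        if (∀ i : Fin l, i.val ∈ J → ¬ A.pos (w (A.simple i))) then f w else 0 := by
  classical
  simp only [Finset.mul_sum]
  rw [Finset.sum_comm]
  apply Finset.sum_congr rfl
  intro w _
  set Aw : Finset ℕ := J.filter
    (fun j => ∃ h : j < l, A.pos (w (A.simple ⟨j, h⟩))) with hAw
  have e1 : ∀ K ∈ J.powerset, (-1 : ℂ) ^ K.card * g K w =
      if K ∈ Aw.powerset then (-1 : ℂ) ^ K.card * f w else 0 := by
    intro K hK
    rw [Finset.mem_powerset] at hK
    have hiff : (∀ i : Fin l, i.val ∈ K → A.pos (w (A.simple i))) ↔ K ∈ Aw.powerset := by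
      rw [Finset.mem_powerset]
      constructor
      · intro h j hj
        have hjl : j < l := Finset.mem_range.mp (hJ (hK hj))
        rw [hAw, Finset.mem_filter]
        exact ⟨hK hj, hjl, h ⟨j, hjl⟩ hj⟩
      · intro h i hi
        have := h hi
        rw [hAw, Finset.mem_filter] at this
        obtain ⟨-, _, h3⟩ := this
        exact h3
    by_cases hc : K ∈ Aw.powerset
    · rw [if_pos hc, hg1 K w (hiff.mpr hc)]
    · rw [if_neg hc, hg0 K w (fun h => hc (hiff.mp h)), mul_zero]
  rw [Finset.sum_congr rfl e1, ← Finset.sum_filter]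
  have e2 : J.powerset.filter (fun K => K ∈ Aw.powerset) = Aw.powerset := by
    ext K
    rw [Finset.mem_filter, Finset.mem_powerset, Finset.mem_powerset]
    constructor
    · exact fun h => h.2
    · exact fun h => ⟨h.trans (Finset.filter_subset _ _), h⟩
  rw [e2, ← Finset.sum_mul]
  have e3 : ∑ K ∈ Aw.powerset, (-1 : ℂ) ^ K.card = if Aw = ∅ then 1 else 0 := by
    have := Finset.sum_powerset_neg_one_pow_card (x := Aw)
    have h2 := congrArg (Int.cast : ℤ → ℂ) this
    push_cast at h2
    rw [h2]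
  rw [e3]
  by_cases hall : ∀ i : Fin l, i.val ∈ J → ¬ A.pos (w (A.simple i))
  · rw [if_pos hall]
    have hAe : Aw = ∅ := by
      rw [hAw, Finset.filter_eq_empty_iff]
      rintro j hj ⟨hjl, hp⟩
      exact hall ⟨j, hjl⟩ hj hp
    rw [if_pos hAe, one_mul]
  · rw [if_neg hall]
    have hAne : Aw ≠ ∅ := by
      intro hAe
      apply hall
      intro i hi hp
      have : i.val ∈ Aw := by
        rw [hAw, Finset.mem_filter]
        exact ⟨hi, i.isLt, hp⟩
      rw [hAe] at this
      exact absurd this (Finset.notMem_empty _)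
    rw [if_neg hAne, zero_mul]

end WeylData

end Cfsg.Agent.Lib.helper41
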