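import Cfsg.Agent.Lib.helper41.DefZeroRep
import Cfsg.Agent.Lib.helper41.ChevStein
import Cfsg.Agent.Lib.helper41.WeylPar
import Cfsg.Agent.Lib.helper4.DefectZero

/-!
The structure theory of a Chevalley group as an input of the Hecke algebra argument for the
characters of `p`-defect zero: the rank one subgroups, the canonical form `g = b n_w u`, the
lengths and the longest element.
-/

set_option autoImplicit false

namespace Cfsg.Agent.Lib.helper41

open Cfsg.Lie Cfsg.Agent.Lib.helper22 Cfsg.Agent.Lib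

universe u

section SL2

variable (F : Type u) [Field F]

/-- the upper unipotent elements of `SL₂` as a homomorphism -/
def sl2uHom : Multiplicative F →* Matrix.SpecialLinearGroup (Fin 2) F where
  toFun t := sl2u (Multiplicative.toAdd t)
  map_one' := sl2u_zero
  map_mul' a b := sl2u_add _ _

/-- the diagonal elements of `SL₂` as a homomorphism -/
def sl2hHom : Fˣ →* Matrix.SpecialLinearGroup (Fin 2) F where
  toFun t := sl2h (t : F) t.ne_zero
  map_one' := by
    apply Subtype.ext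
    show !![((1 : Fˣ) : F), 0; 0, ((1 : Fˣ) : F)⁻¹] = 1
    ext i j
    fin_cases i <;> fin_cases j <;> simp
  map_mul' a b := by
    apply Subtype.ext
    show !![((a * b : Fˣ) : F), 0; 0, ((a * b : Fˣ) : F)⁻¹] =
      !![(a : F), 0; 0, (a : F)⁻¹] * !![(b : F), 0; 0, (b : F)⁻¹]
    ext i j
    fin_cases i <;> fin_cases j <;> simp [Matrix.mul_apply, Fin.sum_univ_two, mul_comm]

theorem sl2_rel (t : Fˣ) :
    (sl2n (1 : F) one_ne_zero)⁻¹ * sl2uHom F (Multiplicative.ofAdd (t : F)) *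
        sl2n 1 one_ne_zero =
      sl2uHom F (Multiplicative.ofAdd (-(t : F)⁻¹)) * sl2hHom F t⁻¹ * sl2n 1 one_ne_zero *
        sl2uHom F (Multiplicative.ofAdd (-(t : F)⁻¹)) := by
  have ht : (t : F) ≠ 0 := t.ne_zero
  have key : sl2u (t : F) * sl2n 1 one_ne_zero = sl2n 1 one_ne_zero *
      (sl2u (-(t : F)⁻¹) * sl2h ((t : F)⁻¹) (inv_ne_zero ht) * sl2n 1 one_ne_zero *
        sl2u (-(t : F)⁻¹)) := by
    apply Subtype.ext
    show !![1, (t : F); 0, 1] * !![0, 1; -(1 : F)⁻¹, 0] = !![0, 1; -(1 : F)⁻¹, 0] *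
      (!![1, -(t : F)⁻¹; 0, 1] * !![(t : F)⁻¹, 0; 0, (t : F)⁻¹⁻¹] * !![0, 1; -(1 : F)⁻¹, 0] *
        !![1, -(t : F)⁻¹; 0, 1])
    ext i j
    fin_cases i <;> fin_cases j <;> simp [Matrix.mul_apply, Fin.sum_univ_two, ht]
  have e : sl2h ((t⁻¹ : Fˣ) : F) (t⁻¹).ne_zero = sl2h ((t : F)⁻¹) (inv_ne_zero ht) :=
    Subtype.ext (by
      show !![((t⁻¹ : Fˣ) : F), 0; 0, ((t⁻¹ : Fˣ) : F)⁻¹] = !![(t : F)⁻¹, 0; 0, (t : F)⁻¹⁻¹]
      rw [Units.val_inv_eq_inv_val])
  show (sl2n (1 : F) one_ne_zero)⁻¹ * sl2u (t : F) * sl2n 1 one_ne_zero =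
    sl2u (-(t : F)⁻¹) * sl2h ((t⁻¹ : Fˣ) : F) (t⁻¹).ne_zero * sl2n 1 one_ne_zero *
      sl2u (-(t : F)⁻¹)
  rw [mul_assoc, key, inv_mul_cancel_left, e]

end SL2

section Data

variable {D : ChevalleyDatum} {F : Type u} [Field F] {r : Fin D.nroots} (S : StringData D r)

/-- the root elements as a homomorphism into the group -/
def xHomG : Multiplicative F →* ↥(D.group F) :=
  ((sl2Hom S).comp (sl2uHom F)).codRestrict (D.group F) (fun _ => sl2Hom_mem_group S _)

/-- the torus elements of the root as a homomorphism into the group -/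
def hHomG : Fˣ →* ↥(D.group F) :=
  ((sl2Hom S).comp (sl2hHom F)).codRestrict (D.group F) (fun _ => sl2Hom_mem_group S _)

/-- the element `n_r` of the group -/
def nEltG : ↥(D.group F) := ⟨sl2Hom S (sl2n 1 one_ne_zero), sl2Hom_mem_group S _⟩

theorem xHomG_coe (t : Multiplicative F) :
    ((xHomG S t : ↥(D.group F)) : GL D.Idx F) = sl2Hom S (sl2u (Multiplicative.toAdd t)) := rfl

theorem hHomG_coe (t : Fˣ) :
    ((hHomG S t : ↥(D.group F)) : GL D.Idx F) = sl2Hom S (sl2h (t : F) t.ne_zero) := rfl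

theorem nEltG_coe :
    ((nEltG S : ↥(D.group F)) : GL D.Idx F) = sl2Hom S (sl2n (1 : F) one_ne_zero) := rfl

theorem rel_G (t : Fˣ) :
    (nEltG S)⁻¹ * xHomG S (Multiplicative.ofAdd (t : F)) * nEltG S =
      xHomG S (Multiplicative.ofAdd (-(t : F)⁻¹)) * hHomG S t⁻¹ * nEltG S *
        xHomG S (Multiplicative.ofAdd (-(t : F)⁻¹)) := by
  apply Subtype.ext
  show (sl2Hom S (sl2n (1 : F) one_ne_zero))⁻¹ *
      sl2Hom S (sl2uHom F (Multiplicative.ofAdd (t : F))) * sl2Hom S (sl2n 1 one_ne_zero) =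
    sl2Hom S (sl2uHom F (Multiplicative.ofAdd (-(t : F)⁻¹))) * sl2Hom S (sl2hHom F t⁻¹) *
      sl2Hom S (sl2n 1 one_ne_zero) * sl2Hom S (sl2uHom F (Multiplicative.ofAdd (-(t : F)⁻¹)))
  rw [← map_inv, ← map_mul, ← map_mul, ← map_mul, ← map_mul, ← map_mul, sl2_rel]

end Data

namespace WeylData

variable {n l : ℕ} (A : WeylData n l)

/-- an element of `W` of positive length makes some simple root negative -/
theorem exists_neg_simple (w : Equiv.Perm (Fin n)) (hw : w ∈ A.W Set.univ) (h : A.ell w ≠ 0) :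
    ∃ i, ¬ A.pos (w (A.simple i)) := by
  by_contra hcon
  push_neg at hcon
  have h1 := A.eq_one_of_pos Set.univ w hw (fun i _ => hcon i)
  rw [h1, A.ell_one] at h
  exact h rfl

/-- an element of `W` of length zero is trivial -/
theorem eq_one_of_ell (w : Equiv.Perm (Fin n)) (hw : w ∈ A.W Set.univ) (h : A.ell w = 0) :
    w = 1 := by
  classical
  apply A.eq_one_of_pos Set.univ w hw
  intro i _
  by_contra hneg
  unfold ell at h
  rw [Finset.card_eq_zero] at h
  have h1 : A.simple i ∈ Finset.univ.filter fun r => A.pos r ∧ ¬ A.pos (w r) :=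
    Finset.mem_filter.mpr ⟨Finset.mem_univ _, A.pos_simple i, hneg⟩
  rw [h] at h1
  exact absurd h1 (Finset.notMem_empty _)

theorem ell_σ (i : Fin l) : A.ell (A.σ i) = 1 := by
  have h := A.ell_mul_σ 1 A.compat_one i (by
    rw [Equiv.Perm.one_apply]
    exact A.pos_simple i)
  rwa [one_mul, A.ell_one] at h

/-- removing a simple reflection on the right -/
theorem ell_mul_σ_of_neg (w : Equiv.Perm (Fin n)) (hw : A.Compat w) (i : Fin l)
    (h : ¬ A.pos (w (A.simple i))) : A.ell w = A.ell (w * A.σ i) + 1 := by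
  have h1 : A.pos ((w * A.σ i) (A.simple i)) := by
    rw [Equiv.Perm.mul_apply, A.σ_simple, hw.1, A.pos_neg]
    exact h
  have h2 := A.ell_mul_σ (w * A.σ i) (hw.mul A (A.compat_σ i)) i h1
  rwa [mul_assoc, A.σ_mul_self, mul_one] at h2

/-- multiplication by the longest element reverses the length -/
theorem exists_sym (X : A.Coord) :
    ∃ τ : ↥(A.W Set.univ) → ↥(A.W Set.univ), Function.Bijective τ ∧
      ∀ w, A.ell (τ w).1 + A.ell w.1 = n / 2 := by
  classical
  obtain ⟨w0, hw0⟩ := A.exists_long Set.univ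
  have hc0 := A.compat_of_mem_W _ w0 hw0.1
  have hneg : ∀ r, A.pos (w0 r) ↔ ¬ A.pos r := by
    intro r
    by_cases hr : A.pos r
    · simp only [hr, not_true, iff_false]
      exact X.neg_of_long Set.univ w0 hw0 r (fun j hj => absurd (Set.mem_univ j) hj) hr
    · simp only [hr, not_false_iff, iff_true]
      have h1 : A.pos (A.neg r) := (A.pos_neg r).mpr hr
      have h2 := X.neg_of_long Set.univ w0 hw0 (A.neg r)
        (fun j hj => absurd (Set.mem_univ j) hj) h1
      rw [hc0.1, A.pos_neg, not_not] at h2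
      exact h2
  refine ⟨fun w => ⟨w0 * w.1, mul_mem hw0.1 w.2⟩, ?_, ?_⟩
  · constructor
    · intro a b hab
      have h1 : w0 * a.1 = w0 * b.1 := congrArg Subtype.val hab
      exact Subtype.ext (mul_left_cancel h1)
    · intro b
      exact ⟨⟨w0⁻¹ * b.1, mul_mem (inv_mem hw0.1) b.2⟩, Subtype.ext (by
        show w0 * (w0⁻¹ * b.1) = b.1
        rw [mul_inv_cancel_left])⟩
  · intro w
    show A.ell (w0 * w.1) + A.ell w.1 = n / 2
    unfold ell
    have h1 : (Finset.univ.filter fun r => A.pos r ∧ ¬ A.pos ((w0 * w.1) r)) =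
        (Finset.univ.filter fun r => A.pos r).filter (fun r => A.pos (w.1 r)) := by
      ext r
      simp only [Finset.mem_filter, Finset.mem_univ, true_and, Equiv.Perm.mul_apply, hneg,
        not_not]
    have h2 : (Finset.univ.filter fun r => A.pos r ∧ ¬ A.pos (w.1 r)) =
        (Finset.univ.filter fun r => A.pos r).filter (fun r => ¬ A.pos (w.1 r)) := by
      ext r
      simp only [Finset.mem_filter, Finset.mem_univ, true_and]
    rw [h1, h2, Finset.card_filter_add_card_filter_not]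
    have h3 := card_pos_eq A
    rw [Fintype.card_subtype] at h3
    omega

end WeylData

namespace CellCtx

variable {D : ChevalleyDatum} {F : Type u} [Field F]

theorem simple_pos_nat (C : CellCtx D F) (i : Fin D.rank) : D.nroots / 2 ≤ D.simple i.val := by
  have h := (C.hA.pos (C.A.simple i)).mp (C.A.pos_simple i)
  rwa [C.hA.simple] at h

/-- the canonical form `g = b n_w u` with `u ∈ U_w⁻`, as a bijection -/
theorem canon_bij (C : CellCtx D F) (nw : ↥(C.A.W Set.univ) → GL D.Idx F)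
    (hnwN : ∀ w, nw w ∈ D.monomialSubgroup F) (hnwA : ∀ w, ActsAs D F (nw w) w.1) :
    Function.Bijective (fun x : (Σ w : ↥(C.A.W Set.univ),
        ↥((D.borelSubgroup F).subgroupOf (D.group F)) ×
          ↥((Subgroup.closure (negSet D F (nw w))).subgroupOf (D.group F))) =>
      ((x.2.1 : ↥(D.group F)) * (⟨nw x.1, C.hNG (hnwN x.1)⟩ : ↥(D.group F)) *
        (x.2.2 : ↥(D.group F)))) := by
  have hUG : D.posUnipotent F ≤ D.group F := fun x hx => C.hBG (Subgroup.mem_sup_left hx)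
  constructor
  · rintro ⟨w, ⟨⟨b, hbG⟩, hb⟩, ⟨⟨u, huG⟩, hu⟩⟩ ⟨w', ⟨⟨b', hbG'⟩, hb'⟩, ⟨⟨u', huG'⟩, hu'⟩⟩ h
    have hb2 : b ∈ D.borelSubgroup F := Subgroup.mem_subgroupOf.mp hb
    have hb2' : b' ∈ D.borelSubgroup F := Subgroup.mem_subgroupOf.mp hb'
    have hu2 : u ∈ Subgroup.closure (negSet D F (nw w)) := Subgroup.mem_subgroupOf.mp hu
    have hu2' : u' ∈ Subgroup.closure (negSet D F (nw w')) := Subgroup.mem_subgroupOf.mp hu'
    have h0 : b * nw w * u = b' * nw w' * u' := congrArg Subtype.val h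
    obtain ⟨h1, h2⟩ := canon_unique C.I C.hN C.hBG C.hNG C.hG hb2 hb2' (hnwN w) (hnwN w')
      hu2 hu2' h0
    have h3 : ActsAs D F (nw w') w.1 := by
      have := (hnwA w).mul (actsAs_diag C.I h1)
      rwa [mul_inv_cancel_left, mul_one] at this
    have h4 : w = w' := Subtype.ext (ActsAs.unique C.I C.hp h3 (hnwA w'))
    subst h4
    obtain ⟨rfl, rfl⟩ := h2 rfl
    rfl
  · rintro ⟨g, hg⟩
    obtain ⟨b, hb, n, hn, u, hu, rfl⟩ := canon_exists C.I C.hpn C.hN C.hBG C.hNG C.hG hg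
    obtain ⟨w, hw, hact⟩ := exists_actsAs C.I C.hA hn
    have hmN := hnwN ⟨w, hw⟩
    have hk : (nw ⟨w, hw⟩)⁻¹ * n ∈ D.diagonalSubgroup F := by
      apply mem_diag_of_actsAs_one C.I C.hp C.hA C.hBG C.hNG C.hG _ (mul_mem (inv_mem hmN) hn)
      have := ((hnwA ⟨w, hw⟩).inv C.I C.hp C.hA hmN).mul hact
      rwa [inv_mul_cancel] at this
    have hh' := conj_mem_diag C.I hmN hk
    have hu' : u ∈ Subgroup.closure (negSet D F (nw ⟨w, hw⟩)) := by
      have hsub : negSet D F n ⊆ negSet D F (nw ⟨w, hw⟩) := by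
        have := negSet_diag_mul C.I (inv_mem hh') n
        have e : (nw ⟨w, hw⟩ * ((nw ⟨w, hw⟩)⁻¹ * n) * (nw ⟨w, hw⟩)⁻¹)⁻¹ * n = nw ⟨w, hw⟩ := by
          group
        rwa [e] at this
      exact Subgroup.closure_mono hsub hu
    have hbmem : b * (nw ⟨w, hw⟩ * ((nw ⟨w, hw⟩)⁻¹ * n) * (nw ⟨w, hw⟩)⁻¹) ∈
        D.borelSubgroup F := mul_mem hb (Subgroup.mem_sup_right hh')
    refine ⟨⟨⟨w, hw⟩, ⟨⟨_, C.hBG hbmem⟩, Subgroup.mem_subgroupOf.mpr hbmem⟩,
      ⟨⟨u, hUG (negSet_le_pos _ hu')⟩, Subgroup.mem_subgroupOf.mpr hu'⟩⟩, ?_⟩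
    apply Subtype.ext
    show b * (nw ⟨w, hw⟩ * ((nw ⟨w, hw⟩)⁻¹ * n) * (nw ⟨w, hw⟩)⁻¹) * nw ⟨w, hw⟩ * u = b * n * u
    group

set_option maxHeartbeats 1000000 in
/-- the Chevalley group gives an input of the Hecke algebra argument -/
theorem exists_heckeSetup [Fintype F] (C : CellCtx D F) :
    ∃ S : HeckeSetup ↥(D.group F) F D.rank ↥(C.A.W Set.univ),
      S.U = (D.posUnipotent F).subgroupOf (D.group F) ∧
      S.B = (D.borelSubgroup F).subgroupOf (D.group F) ∧
      (∀ i : Fin D.rank, ((S.nn i : GL D.Idx F) : Matrix D.Idx D.Idx F) =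
        D.nMat F (D.simple i.val) 1) ∧
      S.H ≤ Subgroup.closure {g | ∃ i t, g = S.hh i t} := by
  classical
  have hSd : ∀ i : Fin D.rank, Nonempty (StringData D ⟨D.simple i.val, (C.I.hS i).1⟩) :=
    fun i => C.I.hSD' _
  let Sd := fun i => Classical.choice (hSd i)
  have hrep : ∀ w : ↥(C.A.W Set.univ), ∃ n, n ∈ D.monomialSubgroup F ∧ ActsAs D F n w.1 :=
    fun w => exists_monomial_actsAs C.I C.hp C.hA w.2
  choose nw hnwN hnwA using hrep
  have hUG : D.posUnipotent F ≤ D.group F := fun x hx => C.hBG (Subgroup.mem_sup_left hx)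
  have hHG : D.diagonalSubgroup F ≤ D.group F := fun x hx => C.hBG (Subgroup.mem_sup_right hx)
  have hupn : ∀ i : Fin D.rank, D.rootSubgroup F (D.simple i.val) ⊔
      D.rootSubgroup F (D.neg (D.simple i.val)) ≤
        Subgroup.normalizer (Subgroup.closure (upSet D F (D.simple i.val)) : Set (GL D.Idx F)) :=
    fun i => (up_normal C.I.hSD' C.I.hU C.I.hNorm C.I.hcomm (F := F) i.val i.isLt).1
  have hUp : ∀ i : Fin D.rank, Subgroup.closure (upSet D F (D.simple i.val)) ≤
      D.posUnipotent F := fun i => by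
    rw [← (up_normal C.I.hSD' C.I.hU C.I.hNorm C.I.hcomm (F := F) i.val i.isLt).2]
    exact le_sup_left
  have hniN : ∀ i : Fin D.rank, sl2Hom (Sd i) (sl2n (1 : F) one_ne_zero) ∈
      D.monomialSubgroup F := fun i =>
    simpleNSet_subset C.I ⟨i.val, i.isLt, sl2Hom_sl2n (Sd i) 1 one_ne_zero⟩
  have hniA : ∀ i : Fin D.rank, ActsAs D F (sl2Hom (Sd i) (sl2n (1 : F) one_ne_zero))
      (C.A.σ i) := fun i => actsAs_simple C.I C.hA i (sl2Hom_sl2n (Sd i) 1 one_ne_zero)
  have h_xh_mem : ∀ (i : Fin D.rank) (t : Multiplicative F),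
      xHomG (Sd i) t ∈ (D.posUnipotent F).subgroupOf (D.group F) := fun i t =>
    Subgroup.mem_subgroupOf.mpr
      (x_mem_pos C.I (C.I.hS i).1 (C.simple_pos_nat i) (sl2Hom_sl2u (Sd i) _))
  have h_hh_mem : ∀ (i : Fin D.rank) (t : Fˣ),
      hHomG (Sd i) t ∈ (D.diagonalSubgroup F).subgroupOf (D.group F) := fun i t =>
    Subgroup.mem_subgroupOf.mpr (by
      unfold ChevalleyDatum.diagonalSubgroup
      exact Subgroup.subset_closure
        ⟨D.simple i.val, (t : F), (C.I.hS i).1, t.ne_zero, sl2Hom_sl2h (Sd i) (t : F) t.ne_zero⟩)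
  have h_hH : ∀ h ∈ (D.diagonalSubgroup F).subgroupOf (D.group F),
      ∀ u ∈ (D.posUnipotent F).subgroupOf (D.group F),
        h⁻¹ * u * h ∈ (D.posUnipotent F).subgroupOf (D.group F) := fun h hh u hu =>
    Subgroup.mem_subgroupOf.mpr (by
      have := diag_conj_mem_pos C.I (inv_mem (Subgroup.mem_subgroupOf.mp hh))
        (Subgroup.mem_subgroupOf.mp hu)
      rw [inv_inv] at this
      exact this)
  have h_U_le : (D.posUnipotent F).subgroupOf (D.group F) ≤
      (D.borelSubgroup F).subgroupOf (D.group F) := fun x hx =>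
    Subgroup.mem_subgroupOf.mpr (Subgroup.mem_sup_left (Subgroup.mem_subgroupOf.mp hx))
  have h_B_eq : ∀ b ∈ (D.borelSubgroup F).subgroupOf (D.group F),
      ∃ u ∈ (D.posUnipotent F).subgroupOf (D.group F),
        ∃ h ∈ (D.diagonalSubgroup F).subgroupOf (D.group F), b = u * h := fun b hb => by
    obtain ⟨u, hu, h, hh, e⟩ := borel_decomp C.I (Subgroup.mem_subgroupOf.mp hb)
    exact ⟨⟨u, hUG hu⟩, Subgroup.mem_subgroupOf.mpr hu, ⟨h, hHG hh⟩,
      Subgroup.mem_subgroupOf.mpr hh, Subtype.ext e⟩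
  have h_rel : ∀ (i : Fin D.rank) (t : Fˣ), ∃ a b : Multiplicative F,
      (nEltG (Sd i))⁻¹ * xHomG (Sd i) (Multiplicative.ofAdd (t : F)) * nEltG (Sd i) =
        xHomG (Sd i) a * hHomG (Sd i) t⁻¹ * nEltG (Sd i) * xHomG (Sd i) b := fun i t =>
    ⟨_, _, rel_G (Sd i) t⟩
  have h_dec : ∀ i : Fin D.rank, ∀ u ∈ (D.posUnipotent F).subgroupOf (D.group F),
      ∃ t, ∃ u' ∈ (Subgroup.closure (upSet D F (D.simple i.val))).subgroupOf (D.group F),
        u = xHomG (Sd i) t * u' := fun i u hu => by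
    obtain ⟨t, u', hu', e⟩ := posUnipotent_decomp C.I i.isLt (Sd i)
      (Subgroup.mem_subgroupOf.mp hu)
    exact ⟨Multiplicative.ofAdd t, ⟨u', hUG (hUp i hu')⟩, Subgroup.mem_subgroupOf.mpr hu',
      Subtype.ext e⟩
  have h_up_conj : ∀ i : Fin D.rank,
      ∀ u' ∈ (Subgroup.closure (upSet D F (D.simple i.val))).subgroupOf (D.group F),
        ∀ t, (xHomG (Sd i) t)⁻¹ * u' * xHomG (Sd i) t ∈
          (Subgroup.closure (upSet D F (D.simple i.val))).subgroupOf (D.group F) :=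
    fun i u' hu' t => by
    have hx : (sl2Hom (Sd i) (sl2u (Multiplicative.toAdd t)) : GL D.Idx F) ∈
        D.rootSubgroup F (D.simple i.val) :=
      Subgroup.subset_closure ⟨_, sl2Hom_sl2u (Sd i) _⟩
    have hnm := (le_sup_left.trans (hupn i)) hx
    have h1 := (Subgroup.mem_normalizer_iff.mp (inv_mem hnm) _).mp
      (Subgroup.mem_subgroupOf.mp hu')
    rw [inv_inv] at h1
    exact Subgroup.mem_subgroupOf.mpr h1
  have h_up_n : ∀ i : Fin D.rank,
      ∀ u' ∈ (Subgroup.closure (upSet D F (D.simple i.val))).subgroupOf (D.group F),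
        (nEltG (Sd i))⁻¹ * u' * nEltG (Sd i) ∈ (D.posUnipotent F).subgroupOf (D.group F) :=
    fun i u' hu' => by
    have hn : sl2Hom (Sd i) (sl2n (1 : F) one_ne_zero) ∈ (sl2Hom (Sd i) (F := F)).range :=
      ⟨_, rfl⟩
    rw [sl2Hom_range] at hn
    have hnm := hupn i hn
    have h1 := (Subgroup.mem_normalizer_iff.mp (inv_mem hnm) _).mp
      (Subgroup.mem_subgroupOf.mp hu')
    rw [inv_inv] at h1
    exact Subgroup.mem_subgroupOf.mpr (hUp i h1)
  have h_len_zero : ∀ w : ↥(C.A.W Set.univ), C.A.ell w.1 = 0 →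
      (⟨nw w, C.hNG (hnwN w)⟩ : ↥(D.group F)) ∈
        (D.diagonalSubgroup F).subgroupOf (D.group F) := fun w hw => by
    have h1 := C.A.eq_one_of_ell w.1 w.2 hw
    have h2 := hnwA w
    rw [h1] at h2
    exact Subgroup.mem_subgroupOf.mpr
      (mem_diag_of_actsAs_one C.I C.hp C.hA C.hBG C.hNG C.hG _ (hnwN w) h2)
  have h_len_pos : ∀ w : ↥(C.A.W Set.univ), C.A.ell w.1 ≠ 0 →
      ∃ (i : Fin D.rank) (w' : ↥(C.A.W Set.univ)) (h : ↥(D.group F)),
        h ∈ (D.diagonalSubgroup F).subgroupOf (D.group F) ∧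
        (⟨nw w, C.hNG (hnwN w)⟩ : ↥(D.group F)) =
          ⟨nw w', C.hNG (hnwN w')⟩ * nEltG (Sd i) * h ∧
        C.A.ell w.1 = C.A.ell w'.1 + 1 ∧
        ∀ t, (⟨nw w', C.hNG (hnwN w')⟩ : ↥(D.group F)) * xHomG (Sd i) t *
          (⟨nw w', C.hNG (hnwN w')⟩ : ↥(D.group F))⁻¹ ∈
            (D.posUnipotent F).subgroupOf (D.group F) := fun w hw => by
    obtain ⟨i, hi⟩ := C.A.exists_neg_simple w.1 w.2 hw
    have hcw := C.A.compat_of_mem_W _ w.1 w.2
    obtain ⟨w', hw'⟩ : ∃ w' : ↥(C.A.W Set.univ), w'.1 = w.1 * C.A.σ i :=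
      ⟨⟨w.1 * C.A.σ i, mul_mem w.2 (C.A.σ_mem_W _ i (Set.mem_univ i))⟩, rfl⟩
    have hprodN : nw w' * sl2Hom (Sd i) (sl2n (1 : F) one_ne_zero) ∈ D.monomialSubgroup F :=
      mul_mem (hnwN w') (hniN i)
    have hprodA : ActsAs D F (nw w' * sl2Hom (Sd i) (sl2n (1 : F) one_ne_zero)) w.1 := by
      have := (hnwA w').mul (hniA i)
      rwa [hw', mul_assoc, C.A.σ_mul_self, mul_one] at this
    have hk : (nw w' * sl2Hom (Sd i) (sl2n (1 : F) one_ne_zero))⁻¹ * nw w ∈
        D.diagonalSubgroup F := by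
      apply mem_diag_of_actsAs_one C.I C.hp C.hA C.hBG C.hNG C.hG _
        (mul_mem (inv_mem hprodN) (hnwN w))
      have := (hprodA.inv C.I C.hp C.hA hprodN).mul (hnwA w)
      rwa [inv_mul_cancel] at this
    refine ⟨i, w', ⟨_, hHG hk⟩, Subgroup.mem_subgroupOf.mpr hk, Subtype.ext ?_, ?_, fun t => ?_⟩
    · show nw w = nw w' * sl2Hom (Sd i) (sl2n (1 : F) one_ne_zero) *
        ((nw w' * sl2Hom (Sd i) (sl2n (1 : F) one_ne_zero))⁻¹ * nw w)
      group
    · rw [hw']
      exact C.A.ell_mul_σ_of_neg w.1 hcw i hi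
    · obtain ⟨π, c, hπ, hπw⟩ := hnwA w'
      have e := rootAct_conj hπ (C.I.hS i).1 (sl2Hom_sl2u (Sd i) (Multiplicative.toAdd t))
      apply Subgroup.mem_subgroupOf.mpr
      refine x_mem_pos C.I (hπ (D.simple i.val) (C.I.hS i).1).1 ?_ e
      have h1 := hπw (C.A.simple i)
      rw [C.hA.simple] at h1
      rw [h1]
      apply (C.hA.pos _).mp
      rw [hw', Equiv.Perm.mul_apply, C.A.σ_simple, hcw.1, C.A.pos_neg]
      exact hi
  have h_simple : ∀ i : Fin D.rank, ∃ (w : ↥(C.A.W Set.univ)) (h : ↥(D.group F)),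
      h ∈ (D.diagonalSubgroup F).subgroupOf (D.group F) ∧
      (⟨nw w, C.hNG (hnwN w)⟩ : ↥(D.group F)) = nEltG (Sd i) * h ∧ C.A.ell w.1 = 1 :=
    fun i => by
    obtain ⟨w, hw⟩ : ∃ w : ↥(C.A.W Set.univ), w.1 = C.A.σ i :=
      ⟨⟨C.A.σ i, C.A.σ_mem_W _ i (Set.mem_univ i)⟩, rfl⟩
    have hk : (sl2Hom (Sd i) (sl2n (1 : F) one_ne_zero))⁻¹ * nw w ∈ D.diagonalSubgroup F := by
      apply mem_diag_of_actsAs_one C.I C.hp C.hA C.hBG C.hNG C.hG _
        (mul_mem (inv_mem (hniN i)) (hnwN w))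
      have := ((hniA i).inv C.I C.hp C.hA (hniN i)).mul (hnwA w)
      rwa [hw, inv_mul_cancel] at this
    refine ⟨w, ⟨_, hHG hk⟩, Subgroup.mem_subgroupOf.mpr hk, Subtype.ext ?_, ?_⟩
    · show nw w = sl2Hom (Sd i) (sl2n (1 : F) one_ne_zero) *
        ((sl2Hom (Sd i) (sl2n (1 : F) one_ne_zero))⁻¹ * nw w)
      group
    · rw [hw]
      exact C.A.ell_σ i
  have h_Uw_le : ∀ w : ↥(C.A.W Set.univ),
      (Subgroup.closure (negSet D F (nw w))).subgroupOf (D.group F) ≤
        (D.posUnipotent F).subgroupOf (D.group F) := fun w x hx =>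
    Subgroup.mem_subgroupOf.mpr (negSet_le_pos _ (Subgroup.mem_subgroupOf.mp hx))
  have h_card_Uw : ∀ w : ↥(C.A.W Set.univ),
      Nat.card ↥((Subgroup.closure (negSet D F (nw w))).subgroupOf (D.group F)) =
        Fintype.card F ^ C.A.ell w.1 := fun w => by
    rw [Nat.card_congr (Subgroup.subgroupOfEquivOfLe ((negSet_le_pos (nw w)).trans hUG)).toEquiv]
    exact card_negSet C.I C.hp C.hA C.hpn C.hN C.hBG C.hNG C.hG (hnwN w) (hnwA w)
  have h_card_U : Nat.card ↥((D.posUnipotent F).subgroupOf (D.group F)) =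
      Fintype.card F ^ (D.nroots / 2) := by
    rw [Nat.card_congr (Subgroup.subgroupOfEquivOfLe hUG).toEquiv]
    exact card_posUnipotent C.I.hSD' C.I.hU C.I.hcomm
  have h_gen : (D.diagonalSubgroup F).subgroupOf (D.group F) ≤
      Subgroup.closure {g : ↥(D.group F) | ∃ (i : Fin D.rank) (t : Fˣ), g = hHomG (Sd i) t} := by
    intro x hx
    have hx' : (x : GL D.Idx F) ∈ D.diagonalSubgroup F := Subgroup.mem_subgroupOf.mp hx
    rw [diagonalSubgroup_eq_torus C.I.hS C.I.hSD', torus_eq_range] at hx'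
    obtain ⟨c, hc⟩ := hx'
    have key : c ∈ ((Subgroup.closure {g : ↥(D.group F) |
        ∃ (i : Fin D.rank) (t : Fˣ), g = hHomG (Sd i) t}).map (D.group F).subtype).comap
          (torusHom D F) := by
      apply Subgroup.pi_mem_of_mulSingle_mem c
      intro i
      rw [Subgroup.mem_comap, Subgroup.mem_map]
      refine ⟨hHomG (Sd i) (c i), Subgroup.subset_closure ⟨i, c i, rfl⟩, ?_⟩
      apply Units.ext
      show ((sl2Hom (Sd i) (sl2h (c i : F) (c i).ne_zero) : GL D.Idx F) :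
        Matrix D.Idx D.Idx F) = _
      rw [sl2Hom_sl2h, torusHom_coe]
      have h5 := hMat_eq_torusMat (Sd i) (c i : F) (c i).ne_zero
      rw [show D.hMat F (D.simple i.val) (c i : F) = _ from h5]
      congr 1
      funext k
      rw [(C.I.hS i).2 k]
      by_cases h : i = k
      · subst h
        simp
      · simp [h]
    rw [Subgroup.mem_comap, Subgroup.mem_map] at key
    obtain ⟨y, hy, hyx⟩ := key
    have hyx' : y = x := Subtype.ext (hyx.trans hc)
    rw [← hyx']
    exact hy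
  exact ⟨{ U := (D.posUnipotent F).subgroupOf (D.group F)
           H := (D.diagonalSubgroup F).subgroupOf (D.group F)
           B := (D.borelSubgroup F).subgroupOf (D.group F)
           xh := fun i => xHomG (Sd i)
           hh := fun i => hHomG (Sd i)
           nn := fun i => nEltG (Sd i)
           Up := fun i => (Subgroup.closure (upSet D F (D.simple i.val))).subgroupOf (D.group F)
           nw := fun w => ⟨nw w, C.hNG (hnwN w)⟩
           len := fun w => C.A.ell w.1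
           Uw := fun w => (Subgroup.closure (negSet D F (nw w))).subgroupOf (D.group F)
           N := D.nroots / 2
           xh_mem := h_xh_mem
           hh_mem := h_hh_mem
           hH := h_hH
           U_le := h_U_le
           B_eq := h_B_eq
           rel := h_rel
           dec := h_dec
           up_conj := h_up_conj
           up_n := h_up_n
           len_zero := h_len_zero
           len_pos := h_len_pos
           simple := h_simple
           Uw_le := h_Uw_le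
           card_Uw := h_card_Uw
           bij := C.canon_bij nw hnwN hnwA
           card_U := h_card_U
           sym := C.A.exists_sym C.X }, rfl, rfl,
    fun i => sl2Hom_sl2n (Sd i) 1 one_ne_zero, h_gen⟩

/-- an irreducible character of `p`-defect zero of a Chevalley group is the Steinberg
character -/
theorem defect_zero_eq_steinberg [Fintype F] (C : CellCtx D F) (p : ℕ) [Fact p.Prime]
    (hsyl : ∃ P : Sylow p ↥(D.group F),
      (P : Subgroup ↥(D.group F)) = (D.posUnipotent F).subgroupOf (D.group F))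
    (hSt : Cfsg.IsIrrCharacter ↥(D.group F) (D.steinbergCharacter F))
    (χ : ↥(D.group F) → ℂ) (hχ : Cfsg.IsIrrCharacter ↥(D.group F) χ)
    (hdeg : ∃ d : ℕ, χ 1 = (d : ℂ) ∧ p ^ (Nat.card ↥(D.group F)).factorization p ∣ d) :
    χ = D.steinbergCharacter F := by
  classical
  haveI : Fintype ↥(D.group F) := Fintype.ofFinite _
  obtain ⟨S, hSU, hSB, hSn, hgen⟩ := C.exists_heckeSetup
  have hχ' := hχ
  obtain ⟨n, ρ, hirr, rfl⟩ := hχ
  haveI := hirr
  obtain ⟨d, hd1, hd2⟩ := hdeg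
  have hpp : p.Prime := Fact.out
  have hnd : n = d := by
    rw [Representation.char_one, Module.finrank_fin_fun] at hd1
    exact_mod_cast hd1
  obtain ⟨P, hP⟩ := hsyl
  have hvan : ∀ u ∈ S.U, u ≠ 1 → ρ.character u = 0 := by
    intro u hu hu1
    apply helper4.char_eq_zero_of_defect_zero ρ p ((Nat.card ↥(D.group F)).factorization p) hpp
      ?_ ?_ u ?_
    · exact Nat.pow_succ_factorization_not_dvd Nat.card_pos.ne' hpp
    · rw [Module.finrank_fin_fun, hnd]
      exact hd2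
    · have huP : u ∈ (P : Subgroup ↥(D.group F)) := by
        rw [hP, ← hSU]
        exact hu
      obtain ⟨k, hk⟩ := (IsPGroup.iff_orderOf.mp P.isPGroup') ⟨u, huP⟩
      rw [Subgroup.orderOf_mk] at hk
      have hk0 : k ≠ 0 := by
        rintro rfl
        rw [pow_zero, orderOf_eq_one_iff] at hk
        exact hu1 hk
      rw [hk]
      exact dvd_pow_self p hk0
  have hP0 : D.parabolicIn F ∅ = S.B := by
    rw [C.parabolicIn_eq, hSB, ← C.hPB]
    unfold Cfsg.BNPair.parabolic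
    have h1 : simpleSet D F (↑(∅ : Finset ℕ) : Set ℕ) = ∅ := by
      ext s
      simp [simpleSet]
    rw [h1, Subgroup.closure_empty, sup_bot_eq]
  have hPJ : ∀ J ∈ (Finset.range D.rank).powerset, J ≠ ∅ →
      S.U ≤ D.parabolicIn F J ∧ ∃ i, S.nn i ∈ D.parabolicIn F J := by
    intro J hJ hne
    obtain ⟨j, hjJ⟩ := Finset.nonempty_iff_ne_empty.mpr hne
    have hj : j < D.rank := Finset.mem_range.mp (Finset.mem_powerset.mp hJ hjJ)
    rw [C.parabolicIn_eq]
    unfold Cfsg.BNPair.parabolic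
    refine ⟨fun x hx => ?_, ⟨j, hj⟩, ?_⟩
    · rw [hSU] at hx
      exact Subgroup.mem_sup_left
        ((C.memB x).mpr (Subgroup.mem_sup_left (Subgroup.mem_subgroupOf.mp hx)))
    · exact Subgroup.mem_sup_right
        (Subgroup.subset_closure ⟨j, Finset.mem_coe.mpr hjJ, hj, hSn ⟨j, hj⟩⟩)
  have hne := S.steinberg_inner_ne_zero ρ hgen hvan (Finset.range D.rank)
    (fun J => D.parabolicIn F J) hP0 hPJ (D.steinbergCharacter F) rfl
  by_contra hcon
  exact hne (helper4.classInner_irr_ne hSt hχ' (fun h => hcon h.symm))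

end CellCtx

end Cfsg.Agent.Lib.helper41
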