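import Cfsg.Agent.Lib.helper41.WeylDesc
import Cfsg.Agent.Lib.helper41.ChevAll

/-! Coordinates of the roots for the seven tabulated root systems. -/

set_option autoImplicit false
set_option maxRecDepth 100000

namespace Cfsg.Agent.Lib.helper41

open Cfsg.Lie Cfsg.Agent.Lib.helper22

theorem TabG2.posOK : TabG2.rootTab.posOK = true := by decide +kernel
theorem TabB2.posOK : TabB2.rootTab.posOK = true := by decide +kernel
theorem TabD4.posOK : TabD4.rootTab.posOK = true := by decide +kernel
theorem TabF4.posOK : TabF4.rootTab.posOK = true := by decide +kernel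
theorem TabE6.posOK : TabE6.rootTab.posOK = true := by decide +kernel
theorem TabE7.posOK : TabE7.rootTab.posOK = true := by decide +kernel
theorem TabE8.posOK : TabE8.rootTab.posOK = true := by decide +kernel

/-- Weyl group data with coordinates for the seven types -/
theorem coord_all (D : ChevalleyDatum)
    (hD : D ∈ [chevG2, chevB2, chevD4, chevF4, chevE6, chevE7, chevE8]) :
    ∃ A : WeylData D.nroots D.rank, WLink D A ∧ Nonempty A.Coord := by
  simp only [List.mem_cons, List.not_mem_nil, or_false] at hD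
  rcases hD with rfl | rfl | rfl | rfl | rfl | rfl | rfl
  · exact ⟨_, TabG2.wlink, ⟨TabG2.rootTab.coord TabG2.rootValid TabG2.posOK⟩⟩
  · exact ⟨_, TabB2.wlink, ⟨TabB2.rootTab.coord TabB2.rootValid TabB2.posOK⟩⟩
  · exact ⟨_, TabD4.wlink, ⟨TabD4.rootTab.coord TabD4.rootValid TabD4.posOK⟩⟩
  · exact ⟨_, TabF4.wlink, ⟨TabF4.rootTab.coord TabF4.rootValid TabF4.posOK⟩⟩
  · exact ⟨_, TabE6.wlink, ⟨TabE6.rootTab.coord TabE6.rootValid TabE6.posOK⟩⟩
  · exact ⟨_, TabE7.wlink, ⟨TabE7.rootTab.coord TabE7.rootValid TabE7.posOK⟩⟩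
  · exact ⟨_, TabE8.wlink, ⟨TabE8.rootTab.coord TabE8.rootValid TabE8.posOK⟩⟩

end Cfsg.Agent.Lib.helper41
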