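import Cfsg.Agent.Lib.helper41.ChevStein
import Cfsg.Agent.Lib.helper41.WeylDescAll

/-!
The Steinberg character of the seven tabulated Chevalley groups over a finite field, restricted
to `B`, and its degree.
-/

set_option autoImplicit false

namespace Cfsg.Agent.Lib.helper41

open Cfsg.Lie Cfsg.Agent.Lib.helper22 Cfsg.Agent.Lib

universe u

/-- the structure data with the `(B, N)`-pair for the seven types -/
theorem cellCtx_all (D : ChevalleyDatum)
    (hD : D ∈ [chevG2, chevB2, chevD4, chevF4, chevE6, chevE7, chevE8]) (F : Type u) [Field F] :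
    Nonempty (CellCtx D F) := by
  obtain ⟨η, I⟩ := bnInput_all D hD F
  obtain ⟨A, hA, ⟨X⟩⟩ := coord_all D hD
  obtain ⟨hBG, hNG, hG⟩ := Cfsg.Agent.S1043.result (F := F) D hD
  obtain ⟨P, hPB, hPN, hPS⟩ := chev_bnPair I hBG hNG hG.ge
  exact ⟨⟨η, I, primHyp_all D hD F, A, hA, X,
    Cfsg.Agent.S1041.posNegOK_spec D (Cfsg.Agent.S1041.posNegOK_all D hD),
    negOK_of_triOK D (triOK_all D hD), hBG, hNG, hG.ge, P, hPB, hPN, hPS⟩⟩

/-- the Steinberg character restricted to `B` is the permutation character of `B` on the cosets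
of `H` -/
theorem steinberg_borel_all (D : ChevalleyDatum)
    (hD : D ∈ [chevG2, chevB2, chevD4, chevF4, chevE6, chevE7, chevE8]) (F : Type u) [Field F]
    [Finite F] (b : ↥((D.borelSubgroup F).subgroupOf (D.group F))) :
    D.steinbergCharacter F (b : ↥(D.group F)) =
      Cfsg.fixedPointCharacter (((D.diagonalSubgroup F).subgroupOf (D.group F)).subgroupOf
        ((D.borelSubgroup F).subgroupOf (D.group F))) b := by
  obtain ⟨C⟩ := cellCtx_all D hD F
  exact C.steinberg_borel _ C.hPB b

set_option synthInstance.maxHeartbeats 1000000 in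
/-- the degree of the Steinberg character -/
theorem steinberg_degree_all (D : ChevalleyDatum)
    (hD : D ∈ [chevG2, chevB2, chevD4, chevF4, chevE6, chevE7, chevE8]) (F : Type u) [Field F]
    [Fintype F] : D.steinbergCharacter F 1 = (Fintype.card F : ℂ) ^ (D.nroots / 2) := by
  obtain ⟨C⟩ := cellCtx_all D hD F
  have h := steinberg_borel_all D hD F 1
  rw [OneMemClass.coe_one] at h
  rw [h]
  show (Nat.card (MulAction.fixedBy _ (1 : ↥((D.borelSubgroup F).subgroupOf (D.group F)))) : ℂ) = _
  rw [MulAction.fixedBy_one_eq_univ, Nat.card_congr (Equiv.Set.univ _)]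
  have hUH := (Cfsg.Agent.S1036.result (F := F) D hD).2
  have hHB : D.diagonalSubgroup F ≤ D.borelSubgroup F := le_sup_right
  have hHG : D.diagonalSubgroup F ≤ D.group F := hHB.trans C.hBG
  have hle : (D.diagonalSubgroup F).subgroupOf (D.group F) ≤
      (D.borelSubgroup F).subgroupOf (D.group F) := by
    intro x hx
    rw [Subgroup.mem_subgroupOf] at hx ⊢
    exact hHB hx
  have h1 := Subgroup.card_eq_card_quotient_mul_card_subgroup
    (((D.diagonalSubgroup F).subgroupOf (D.group F)).subgroupOf
      ((D.borelSubgroup F).subgroupOf (D.group F)))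
  rw [Nat.card_congr (Subgroup.subgroupOfEquivOfLe C.hBG).toEquiv,
    Nat.card_congr (Subgroup.subgroupOfEquivOfLe hle).toEquiv,
    Nat.card_congr (Subgroup.subgroupOfEquivOfLe hHG).toEquiv, card_borel C.I hUH,
    card_posUnipotent C.I.hSD' C.I.hU C.I.hcomm] at h1
  have hpos : 0 < Nat.card (D.diagonalSubgroup F) := Nat.card_pos
  have h2 := Nat.eq_of_mul_eq_mul_right hpos h1
  rw [← h2]
  push_cast
  rfl

end Cfsg.Agent.Lib.helper41
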