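import Cfsg.Agent.Lib.helper41.ChevOrder

/-!
`U` is a Sylow `p`-subgroup of a Chevalley group over a finite field of characteristic `p`:
`|G| = q^N |H| ∑_w q^{ℓ(w)}`, where `|H|` divides a power of `q - 1` and the Poincaré sum is
congruent to `1` modulo `q`.
-/

set_option autoImplicit false

namespace Cfsg.Agent.Lib.helper41

open Cfsg.Lie Cfsg.Agent.Lib.helper22

/-- the Poincaré sum of a Weyl group is `1` modulo any divisor of `q` -/
theorem WeylData.poin_eq_one_add {n l : ℕ} (A : WeylData n l) (J : Set (Fin l)) (q p : ℕ)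
    (hpq : p ∣ q) : ∃ m, A.poin J q = 1 + p * m := by
  classical
  unfold WeylData.poin
  have h1 : (1 : Equiv.Perm (Fin n)) ∈ Finset.univ.filter (fun w => w ∈ A.W J) := by
    rw [Finset.mem_filter]
    exact ⟨Finset.mem_univ _, one_mem _⟩
  rw [← Finset.add_sum_erase _ _ h1, A.ell_one, pow_zero]
  have h2 : p ∣ ∑ w ∈ (Finset.univ.filter (fun w => w ∈ A.W J)).erase 1, q ^ A.ell w := by
    apply Finset.dvd_sum
    intro w hw
    rw [Finset.mem_erase, Finset.mem_filter] at hw
    obtain ⟨hw1, -, hwW⟩ := hw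
    have h3 : A.ell w ≠ 0 := by
      intro h0
      apply hw1
      apply A.eq_one_of_pos J w hwW
      intro i _
      by_contra hneg
      unfold WeylData.ell at h0
      rw [Finset.card_eq_zero] at h0
      have : A.simple i ∈ Finset.univ.filter fun r => A.pos r ∧ ¬ A.pos (w r) := by
        rw [Finset.mem_filter]
        exact ⟨Finset.mem_univ _, A.pos_simple i, hneg⟩
      rw [h0] at this
      exact absurd this (Finset.notMem_empty _)
    exact hpq.trans (dvd_pow_self q h3)
  obtain ⟨m, hm⟩ := h2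
  exact ⟨m, by rw [hm]⟩

section

variable {D : ChevalleyDatum} {F : Type*} [Field F]

/-- `U` is a Sylow `p`-subgroup of the Chevalley group -/
theorem sylow_posUnipotent [Fintype F] (p : ℕ) [Fact p.Prime] [CharP F p] {η : ℕ → ℕ → ℤ}
    (I : BNInput D F η) (hp : PrimHyp D F)
    {A : WeylData D.nroots D.rank} (hA : WLink D A)
    (hpn : ∀ r, r < D.nroots → D.IsPosRoot r ∨ D.IsNegRoot r) (hN : ∀ r, D.IsNegRoot r → NegOK D r)
    (hBG : D.borelSubgroup F ≤ D.group F) (hNG : D.monomialSubgroup F ≤ D.group F)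
    (hG : D.group F ≤ D.borelSubgroup F ⊔ D.monomialSubgroup F)
    (hUH : D.posUnipotent F ⊓ D.diagonalSubgroup F = ⊥)
    (hH : ∃ d, d * Nat.card (D.diagonalSubgroup F) = (Fintype.card F - 1) ^ D.rank) :
    ∃ P : Sylow p ↥(D.group F),
      (P : Subgroup ↥(D.group F)) = (D.posUnipotent F).subgroupOf (D.group F) := by
  classical
  have hpp : p.Prime := Fact.out
  obtain ⟨k, -, hq⟩ := FiniteField.card F p
  have hUG : D.posUnipotent F ≤ D.group F := fun x hx => hBG (Subgroup.mem_sup_left hx)
  have hcU : Nat.card ((D.posUnipotent F).subgroupOf (D.group F)) =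
      Fintype.card F ^ (D.nroots / 2) := by
    rw [Nat.card_congr (Subgroup.subgroupOfEquivOfLe hUG).toEquiv]
    exact card_posUnipotent I.hSD' I.hU I.hcomm
  have hcG := card_group_formula I hp hA hpn hN hBG hNG hG hUH
  have hpq : p ∣ Fintype.card F := by
    rw [hq]
    exact dvd_pow_self p k.pos.ne'
  obtain ⟨m, hm⟩ := A.poin_eq_one_add Set.univ (Fintype.card F) p hpq
  have hm1 : ¬ p ∣ A.poin Set.univ (Fintype.card F) := by
    intro h
    rw [hm, (Nat.dvd_add_left (dvd_mul_right p m))] at h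
    exact hpp.one_lt.ne' (Nat.dvd_one.mp h)
  have hm2 : ¬ p ∣ Nat.card (D.diagonalSubgroup F) := by
    intro h
    obtain ⟨d, hd⟩ := hH
    have h2 : p ∣ (Fintype.card F - 1) ^ D.rank := by
      rw [← hd]
      exact h.mul_left d
    have h3 := hpp.dvd_of_dvd_pow h2
    have h4 : 1 ≤ Fintype.card F := Fintype.card_pos
    have h5 : p ∣ Fintype.card F - (Fintype.card F - 1) := Nat.dvd_sub hpq h3
    have h6 : Fintype.card F - (Fintype.card F - 1) = 1 := by omega
    rw [h6] at h5
    exact hpp.one_lt.ne' (Nat.dvd_one.mp h5)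
  have hfac : (Nat.card (D.group F)).factorization p = k * (D.nroots / 2) := by
    rw [hcG, mul_assoc, hq, ← pow_mul]
    have hne1 : p ^ ((k : ℕ) * (D.nroots / 2)) ≠ 0 := pow_ne_zero _ hpp.pos.ne'
    have hne2 : Nat.card (D.diagonalSubgroup F) * A.poin Set.univ (p ^ (k : ℕ)) ≠ 0 := by
      intro h0
      rw [← hq] at h0
      rcases mul_eq_zero.mp h0 with h0 | h0
      · exact hm2 (h0 ▸ dvd_zero p)
      · exact hm1 (h0 ▸ dvd_zero p)
    rw [Nat.factorization_mul hne1 hne2, Finsupp.add_apply, hpp.factorization_pow,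
      Finsupp.single_eq_same]
    have h0 : (Nat.card (D.diagonalSubgroup F) * A.poin Set.univ (p ^ (k : ℕ))).factorization p
        = 0 := by
      apply Nat.factorization_eq_zero_of_not_dvd
      rw [← hq]
      intro h
      rcases hpp.dvd_mul.mp h with h | h
      · exact hm2 h
      · exact hm1 h
    rw [h0, add_zero]
  refine ⟨Sylow.ofCard ((D.posUnipotent F).subgroupOf (D.group F)) ?_, Sylow.coe_ofCard _ _⟩
  rw [hcU, hfac, hq, ← pow_mul]

end

end Cfsg.Agent.Lib.helper41
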