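import Cfsg.Agent.Lib.helper41.ChevSteinIrr
import Cfsg.Agent.Lib.helper41.ChevSteinAll
import Cfsg.Agent.Lib.helper41.ChevSylow
import Cfsg.Agent.Lib.helper19.PermChar
import Cfsg.Agent.Lib.helper4.Induction
import Cfsg.Agent.Lib.helper4.DefectZero

/-!
The Steinberg character of the seven tabulated Chevalley groups over a finite field is
irreducible, and vanishes at the elements of order divisible by the characteristic.
-/

set_option autoImplicit false

namespace Cfsg.Agent.Lib.helper41

open Cfsg.Lie Cfsg.Agent.Lib.helper22 Cfsg.Agent.Lib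

universe u

/-- a permutation character on cosets is a character -/
theorem isCharacter_fixedPoint {G : Type u} [Group G] [Fintype G] (H : Subgroup G) :
    Cfsg.IsCharacter G (Cfsg.fixedPointCharacter H) := by
  have h : Cfsg.fixedPointCharacter H = Cfsg.indFun H (fun _ => 1) := by
    funext g
    rw [helper19.indFun_one_eq]
    rfl
  rw [h]
  exact helper4.isCharacter_indFun H helper4.isCharacter_one

set_option synthInstance.maxHeartbeats 1000000 in
/-- the Steinberg character is irreducible -/
theorem steinberg_irr_all (D : ChevalleyDatum)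
    (hD : D ∈ [chevG2, chevB2, chevD4, chevF4, chevE6, chevE7, chevE8]) (F : Type u) [Field F]
    [Fintype F] : Cfsg.IsIrrCharacter ↥(D.group F) (D.steinbergCharacter F) := by
  obtain ⟨C⟩ := cellCtx_all D hD F
  have : Fintype ↥(D.group F) := Fintype.ofFinite _
  apply helper4.isIrrCharacter_of_generalized_of_norm_one_of_pos
  · have h : D.steinbergCharacter F = ∑ J ∈ (Finset.range D.rank).powerset,
        (((-1 : ℤ) ^ J.card : ℤ) : ℂ) • Cfsg.fixedPointCharacter (D.parabolicIn F J) := by
      funext g
      rw [Finset.sum_apply]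
      unfold ChevalleyDatum.steinbergCharacter
      apply Finset.sum_congr rfl
      intro J _
      rw [Pi.smul_apply, smul_eq_mul]
      push_cast
      rfl
    rw [h]
    apply helper4.isGeneralizedCharacter_sum
    intro J _
    apply helper4.isGeneralizedCharacter_intCast_smul
    apply helper4.isGeneralizedCharacter_of_isCharacter
    exact isCharacter_fixedPoint _
  · exact C.steinberg_norm
  · rw [steinberg_degree_all D hD F]
    have h : ((Fintype.card F : ℂ) ^ (D.nroots / 2)).re = (Fintype.card F : ℝ) ^ (D.nroots / 2) := by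
      rw [← Complex.ofReal_natCast, ← Complex.ofReal_pow, Complex.ofReal_re]
    rw [h]
    exact pow_pos (by exact_mod_cast Fintype.card_pos) _

set_option synthInstance.maxHeartbeats 1000000 in
/-- the Steinberg character vanishes at the elements of order divisible by `p` -/
theorem steinberg_vanish_all (D : ChevalleyDatum)
    (hD : D ∈ [chevG2, chevB2, chevD4, chevF4, chevE6, chevE7, chevE8]) (F : Type u) [Field F]
    [Fintype F] (p : ℕ) [Fact p.Prime] [CharP F p] (g : ↥(D.group F)) (hg : p ∣ orderOf g) :
    D.steinbergCharacter F g = 0 := by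
  obtain ⟨n, ρ, hirr, hχ⟩ := steinberg_irr_all D hD F
  have := hirr
  obtain ⟨k, -, hq⟩ := FiniteField.card F p
  have hpp : p.Prime := Fact.out
  have hdeg : n = Fintype.card F ^ (D.nroots / 2) := by
    have h1 := congrFun hχ 1
    rw [steinberg_degree_all D hD F, Representation.char_one, Module.finrank_fin_fun] at h1
    exact_mod_cast h1
  obtain ⟨Pk⟩ := chevPkg_all D hD F
  obtain ⟨P, hP⟩ := sylow_posUnipotent p Pk.I Pk.hp Pk.hA Pk.hpn Pk.hN Pk.hBG Pk.hNG Pk.hG Pk.hUH
    (diag_card_all D hD F)
  have hUG : D.posUnipotent F ≤ D.group F := fun x hx => Pk.hBG (Subgroup.mem_sup_left hx)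
  have hcP : Nat.card P = p ^ ((k : ℕ) * (D.nroots / 2)) := by
    have h1 : Nat.card P = Nat.card ((D.posUnipotent F).subgroupOf (D.group F)) := by
      rw [← hP]
    rw [h1, Nat.card_congr (Subgroup.subgroupOfEquivOfLe hUG).toEquiv,
      card_posUnipotent Pk.I.hSD' Pk.I.hU Pk.I.hcomm, hq, ← pow_mul]
  have hfac : (Nat.card ↥(D.group F)).factorization p = (k : ℕ) * (D.nroots / 2) := by
    have h2 := P.card_eq_multiplicity
    rw [hcP] at h2
    exact (Nat.pow_right_injective hpp.two_le h2).symm
  rw [← hχ]
  apply helper4.char_eq_zero_of_defect_zero ρ p ((k : ℕ) * (D.nroots / 2)) hpp ?_ ?_ g hg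
  · rw [← hfac]
    exact Nat.pow_succ_factorization_not_dvd Nat.card_pos.ne' hpp
  · rw [Module.finrank_fin_fun, hdeg, hq, ← pow_mul]

end Cfsg.Agent.Lib.helper41
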