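import Cfsg.Agent.Lib.helper41.ChevDefZero
import Cfsg.Agent.Lib.helper41.ChevSteinIrrAll

/-!
The Steinberg character of a Chevalley group of type G₂, B₂, D₄, F₄, E₆, E₇ or E₈ is its only
irreducible character of `p`-defect zero.
-/

set_option autoImplicit false

namespace Cfsg.Agent.Lib.helper41

open Cfsg.Lie Cfsg.Agent.Lib.helper22 Cfsg.Agent.Lib

universe u

set_option synthInstance.maxHeartbeats 1000000 in
/-- the Steinberg character is the only irreducible character of `p`-defect zero -/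
theorem defect_zero_steinberg_all (D : ChevalleyDatum)
    (hD : D ∈ [chevG2, chevB2, chevD4, chevF4, chevE6, chevE7, chevE8]) (F : Type u) [Field F]
    [Fintype F] (p : ℕ) [Fact p.Prime] [CharP F p] (χ : ↥(D.group F) → ℂ)
    (hχ : Cfsg.IsIrrCharacter ↥(D.group F) χ)
    (hdeg : ∃ d : ℕ, χ 1 = (d : ℂ) ∧ p ^ (Nat.card ↥(D.group F)).factorization p ∣ d) :
    χ = D.steinbergCharacter F := by
  obtain ⟨C⟩ := cellCtx_all D hD F
  obtain ⟨Pk⟩ := chevPkg_all D hD F
  exact C.defect_zero_eq_steinberg p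
    (sylow_posUnipotent p Pk.I Pk.hp Pk.hA Pk.hpn Pk.hN Pk.hBG Pk.hNG Pk.hG Pk.hUH
      (diag_card_all D hD F))
    (steinberg_irr_all D hD F) χ hχ hdeg

end Cfsg.Agent.Lib.helper41
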