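import Cfsg.Agent.Lib.helper41.ChevOrder

/-!
An element of a Chevalley group whose matrix is diagonal and which acts on every root element
`x_r(t)` by scaling the parameter lies in the diagonal subgroup `H`: in its canonical form
`b n u` the element `n` normalises `U`, so it acts as the identity of the Weyl group and lies in
`H`; then the element is in `B = U H`, and its unipotent part, being diagonal, is trivial.
-/

set_option autoImplicit false

namespace Cfsg.Agent.Lib.helper41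

open Cfsg.Lie Cfsg.Agent.Lib.helper22

section

variable {D : ChevalleyDatum} {F : Type*} [Field F]

/-- `B` normalises `U` -/
theorem borel_conj_mem_pos {η : ℕ → ℕ → ℤ} (I : BNInput D F η) {b u : GL D.Idx F}
    (hb : b ∈ D.borelSubgroup F) (hu : u ∈ D.posUnipotent F) : b * u * b⁻¹ ∈ D.posUnipotent F := by
  obtain ⟨u₁, hu₁, h₁, hh₁, rfl⟩ := borel_decomp I hb
  have h1 := diag_conj_mem_pos I hh₁ hu
  have e : u₁ * h₁ * u * (u₁ * h₁)⁻¹ = u₁ * (h₁ * u * h₁⁻¹) * u₁⁻¹ := by group
  rw [e]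
  exact mul_mem (mul_mem hu₁ h1) (inv_mem hu₁)

/-- a diagonal matrix which is unitriangular is the identity -/
theorem eq_one_of_diagonal_uniK {ρ : D.Idx → ℕ} {g : GL D.Idx F} (hg : g ∈ uniK F ρ 0)
    {d : D.Idx → F} (hd : (g : Matrix D.Idx D.Idx F) = Matrix.diagonal d) : g = 1 := by
  apply Units.ext
  rw [Units.val_one]
  have h1 : TriK ρ 1 ((g : Matrix D.Idx D.Idx F) - 1) := hg
  ext x z
  by_cases hxz : x = z
  · subst hxz
    by_contra hne
    have h2 := h1 x x (by
      rw [Matrix.sub_apply]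
      exact sub_ne_zero.mpr hne)
    omega
  · rw [hd, Matrix.diagonal_apply_ne _ hxz, Matrix.one_apply_ne hxz]

/-- an element of the group which is a diagonal matrix scaling the parameters of the root
elements lies in `H` -/
theorem mem_diag_of_rootAct_diagonal {η : ℕ → ℕ → ℤ} (I : BNInput D F η) (hp : PrimHyp D F)
    {A : WeylData D.nroots D.rank} (hA : WLink D A)
    (hpn : ∀ r, r < D.nroots → D.IsPosRoot r ∨ D.IsNegRoot r) (hN : ∀ r, D.IsNegRoot r → NegOK D r)
    (hBG : D.borelSubgroup F ≤ D.group F) (hNG : D.monomialSubgroup F ≤ D.group F)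
    (hG : D.group F ≤ D.borelSubgroup F ⊔ D.monomialSubgroup F)
    {g : GL D.Idx F} (hg : g ∈ D.group F) {d : D.Idx → F}
    (hd : (g : Matrix D.Idx D.Idx F) = Matrix.diagonal d) {c : ℕ → F}
    (hact : RootAct D F (g : Matrix D.Idx D.Idx F) (fun s => s) c) :
    g ∈ D.diagonalSubgroup F := by
  -- `g` normalises `U`
  have hgU : ∀ y ∈ D.posUnipotent F, g * y * g⁻¹ ∈ D.posUnipotent F := by
    unfold ChevalleyDatum.posUnipotent
    apply conj_mem_closure
    rintro x ⟨r, t, hr, hx⟩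
    exact Subgroup.subset_closure ⟨r, c r * t, hr, rootAct_conj hact hr.1 hx⟩
  obtain ⟨b, hb, n, hn, u, hu, rfl⟩ := canon_exists I hpn hN hBG hNG hG hg
  have huU : u ∈ D.posUnipotent F := negSet_le_pos n hu
  -- `n` normalises `U`
  have hnU : ∀ y ∈ D.posUnipotent F, n * y * n⁻¹ ∈ D.posUnipotent F := by
    intro y hy
    have h1 : u⁻¹ * y * u⁻¹⁻¹ ∈ D.posUnipotent F := mul_mem (mul_mem (inv_mem huU) hy) (inv_mem (inv_mem huU))
    have h2 := hgU _ h1
    have h3 := borel_conj_mem_pos I (inv_mem hb) h2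
    have e : b⁻¹ * (b * n * u * (u⁻¹ * y * u⁻¹⁻¹) * (b * n * u)⁻¹) * b⁻¹⁻¹ = n * y * n⁻¹ := by group
    rwa [e] at h3
  obtain ⟨w, hw, π, cn, hπ, hwπ⟩ := exists_actsAs I hA hn
  have hw1 : w = 1 := by
    apply A.eq_one_of_pos Set.univ w hw
    intro i _
    rw [hA.pos]
    by_contra hlt
    rw [not_le] at hlt
    have hs := (I.hS i).1
    obtain ⟨S⟩ := I.hSD' ⟨D.simple i.val, hs⟩
    have hspos : D.IsPosRoot (D.simple i.val) := by
      have := (A.pos_simple i)
      rw [hA.pos, hA.simple] at this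
      exact (I.hU.pos_iff _).mpr ⟨this, hs⟩
    have hxU : sl2Hom S (sl2u 1) ∈ D.posUnipotent F :=
      Subgroup.subset_closure ⟨_, 1, hspos, sl2Hom_sl2u S 1⟩
    have h1 := hnU _ hxU
    have h2 := rootAct_conj hπ hs (sl2Hom_sl2u S 1)
    have h3 := hwπ (A.simple i)
    rw [hA.simple] at h3
    rw [← h3] at hlt
    have h4 := x_mem_neg I hpn (hπ _ hs).1 hlt h2
    have h5 := borel_inf_neg I hN (Subgroup.mem_sup_left h1) h4
    rw [h5, Units.val_one] at h2
    have h6 := x_eq_one_all I hp (hπ _ hs).1 h2.symm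
    rw [mul_one] at h6
    exact rootAct_ne_zero_all I hp hπ hs h6
  subst hw1
  have hnH : n ∈ D.diagonalSubgroup F :=
    mem_diag_of_actsAs_one I hp hA hBG hNG hG n hn ⟨π, cn, hπ, hwπ⟩
  have hgB : b * n * u ∈ D.borelSubgroup F :=
    mul_mem (mul_mem hb (Subgroup.mem_sup_right hnH)) (Subgroup.mem_sup_left huU)
  obtain ⟨u₁, hu₁, h₁, hh₁, e⟩ := borel_decomp I hgB
  obtain ⟨c₁, -, hc₁⟩ := diagonalSubgroup_le_torus I.hSD' (inv_mem hh₁)
  have e1 : u₁ = b * n * u * h₁⁻¹ := by rw [e]; group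
  have e2 : (u₁ : Matrix D.Idx D.Idx F) = Matrix.diagonal (fun x => d x *
      Sum.elim (fun _ => (1 : F)) (fun s : Fin D.nroots => torusChar D F c₁ s.val) x) := by
    rw [e1, Units.val_mul, hd, hc₁]
    unfold torusMat
    rw [Matrix.diagonal_mul_diagonal]
  have e3 := eq_one_of_diagonal_uniK (posUnipotent_le_uniK I.posOK hu₁) e2
  rw [e, e3, one_mul]
  exact hh₁

end

end Cfsg.Agent.Lib.helper41
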