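import Cfsg.Agent.Lib.helper41.ChevGen
import Cfsg.Agent.Lib.helper41.ChevReflB2

/-! Generation of the Chevalley group of type B2 by the fundamental root elements and their
negatives (generated certificate, kernel-checked). -/

set_option autoImplicit false
set_option maxRecDepth 100000

namespace Cfsg.Agent.Lib.helper41.TabB2

open Cfsg.Lie Cfsg.Agent.Lib.helper41

def levP : ℕ := 0x101000000000101

def parJP : ℕ := 0x1000101000100

def parSP : ℕ := 0x405000000000203

theorem genOK : genCheck chevB2 (pk8 levP) (pk8 parJP) (pk8 parSP) = true := by decide +kernel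

theorem invOK : invAll chevB2 tab.col = true := by decide +kernel

theorem reflHyp {F : Type*} [Field F] : ReflHyp chevB2 F := fun i s hi hs => refl i s hi hs

theorem group_le {F : Type*} [Field F] : chevB2.group F ≤ fundClosure chevB2 F :=
  group_le_fundClosure chevB2 _ _ _ genOK reflHyp (invHyp_of_invAll chevB2 tab.col colValid invOK)

theorem simple_lt : ∀ i, i < chevB2.rank → chevB2.simple i < chevB2.nroots ∧
    chevB2.neg (chevB2.simple i) < chevB2.nroots := simple_lt_of_invAll chevB2 tab.col invOK

theorem fieldGraphComm {F : Type*} [Field F] (f g : ↥(chevB2.group F) ≃* ↥(chevB2.group F))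
    (hf : chevB2.IsFieldAut f) (hg : chevB2.IsGraphAut g) (y : ↥(chevB2.group F)) : f (g y) = g (f y) :=
  fieldGraph_comm chevB2 group_le simple_lt f g hf hg y

end Cfsg.Agent.Lib.helper41.TabB2
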