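import Cfsg.Agent.Lib.helper41.ChevGen
import Cfsg.Agent.Lib.helper41.ChevReflE7

/-! Generation of the Chevalley group of type E7 by the fundamental root elements and their
negatives (generated certificate, kernel-checked). -/

set_option autoImplicit false
set_option maxRecDepth 100000

namespace Cfsg.Agent.Lib.helper41.TabE7

open Cfsg.Lie Cfsg.Agent.Lib.helper41

def levP : ℕ := 0x100f0e0d0c0b0a0c0b0a090a0908080706090807070605060504030504030201000807060605040504030204030201000403020100030201000201000100000000010001020001020300010203040001020304020304050405060607080001020304050304050605060707080906070808090a090a0b0c0a0b0c0d0e0f10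

def parJP : ℕ := 0x203040501010405030305040402020205040403030300000000000000000000050404030303020202020101010101020202020203030303040404050506060506040506030405060203040506010304050602040506030506040605000203040506010405060305060406050205060406050306050401060504030200

def parSP : ℕ := 0x7c7b7a7978747375747170716f6e6968676b6968666564565554534d4c4b4a49005b59585655545251504f48474645004847464500444342004140003f000000003d003b3a003837360034333231002f2e2d2c2e2a292829262525232200201f1e1d1c1e1a191819161515131216100f0f0d0c0d0a09080a060504030201

theorem genOK : genCheck chevE7 (pk8 levP) (pk8 parJP) (pk8 parSP) = true := by decide +kernel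

theorem invOK : invAll chevE7 tab.col = true := by decide +kernel

theorem reflHyp {F : Type*} [Field F] : ReflHyp chevE7 F := fun i s hi hs => refl i s hi hs

theorem group_le {F : Type*} [Field F] : chevE7.group F ≤ fundClosure chevE7 F :=
  group_le_fundClosure chevE7 _ _ _ genOK reflHyp (invHyp_of_invAll chevE7 tab.col colValid invOK)

theorem simple_lt : ∀ i, i < chevE7.rank → chevE7.simple i < chevE7.nroots ∧
    chevE7.neg (chevE7.simple i) < chevE7.nroots := simple_lt_of_invAll chevE7 tab.col invOK

theorem fieldGraphComm {F : Type*} [Field F] (f g : ↥(chevE7.group F) ≃* ↥(chevE7.group F))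
    (hf : chevE7.IsFieldAut f) (hg : chevE7.IsGraphAut g) (y : ↥(chevE7.group F)) : f (g y) = g (f y) :=
  fieldGraph_comm chevE7 group_le simple_lt f g hf hg y

end Cfsg.Agent.Lib.helper41.TabE7
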