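import Cfsg.Agent.Lib.helper41.ChevGen
import Cfsg.Agent.Lib.helper41.ChevReflE8

/-! Generation of the Chevalley group of type E8 by the fundamental root elements and their
negatives (generated certificate, kernel-checked). -/

set_option autoImplicit false
set_option maxRecDepth 100000

namespace Cfsg.Agent.Lib.helper41.TabE8

open Cfsg.Lie Cfsg.Agent.Lib.helper41

def levP : ℕ := 0x1c1b1a19181716161514131211101514131211100f1211100f0e100f0e0d0e0d0c0c0b0a0f0e0d0c0d0c0b0b0a090c0b0a0a0908090807060b0a09090807080706050706050403060504030201000a090808070607060504060504030205040302010005040302010004030201000302010002010001000000000100010200010203000102030400010203040500010203040502030405060405060706070808090a00010203040506030405060705060708070809090a0b0607080908090a0a0b0c090a0b0b0c0d0c0d0e0f0a0b0c0c0d0e0d0e0f100e0f1011120f10111213141510111213141516161718191a1b1c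

def parJP : ℕ := 0x70605040302010203040506000001030405060202040506030305060404060505010101050604040605050303030605050404040202020206050504040403030303000000000000000000000000060505040404030303030202020202010101010101020202020202030303030304040404050505060607070607050607040506070304050607020304050607010304050607020405060703050607040607050706000203040506070104050607030506070406070507060205060704060705070603060705070604070605010607050706040706050307060504020706050403010007060504030201020304050607

def parSP : ℕ := 0xeeedecebeae9e7e7e6e5e4e3dcdbe0dfdedddcd7d6d9d8d7d3d2d4d3d0cfd0cecdc4c3c2cac9c6c5c6c4c3bebdbcc0bebdbbbab9b1b0afaeb6b4b3b1b0afadacabaa97969594938c8b8a89888700a09e9d9b9a99979695949291908f8e86858483820086858483820081807f7e007d7c7b007a79007800000000760074730071706f006d6c6b6a006867666564006261605f5e615c5b5a595b57565556535252504f004d4c4b4a49484b464544434541403f403d3c3c3a394137363536333232302f332d2c2c2a292a2726252d232222201f201d1c1b1d191817161914131211100f140d0c0b0a090808060504030201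

theorem genOK : genCheck chevE8 (pk8 levP) (pk8 parJP) (pk8 parSP) = true := by decide +kernel

theorem invOK : invAll chevE8 tab.col = true := by decide +kernel

theorem reflHyp {F : Type*} [Field F] : ReflHyp chevE8 F := fun i s hi hs => refl i s hi hs

theorem group_le {F : Type*} [Field F] : chevE8.group F ≤ fundClosure chevE8 F :=
  group_le_fundClosure chevE8 _ _ _ genOK reflHyp (invHyp_of_invAll chevE8 tab.col colValid invOK)

theorem simple_lt : ∀ i, i < chevE8.rank → chevE8.simple i < chevE8.nroots ∧
    chevE8.neg (chevE8.simple i) < chevE8.nroots := simple_lt_of_invAll chevE8 tab.col invOK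

theorem fieldGraphComm {F : Type*} [Field F] (f g : ↥(chevE8.group F) ≃* ↥(chevE8.group F))
    (hf : chevE8.IsFieldAut f) (hg : chevE8.IsGraphAut g) (y : ↥(chevE8.group F)) : f (g y) = g (f y) :=
  fieldGraph_comm chevE8 group_le simple_lt f g hf hg y

end Cfsg.Agent.Lib.helper41.TabE8
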