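import Mathlib
import Cfsg.Prelude.Def_Characters
import Cfsg.Prelude.Def_ParabolicCharacters
import Cfsg.Agent.Lib.helper4.CharTheory
import Cfsg.Agent.Lib.helper4.Induction
import Cfsg.Agent.Lib.helper19.PermChar

/-!
Representations of a finite group on a coordinate space: an invariant Hermitian form, the averaging
operators of subgroups, Schur's lemma for the sum of the squared norms of the averaged translates
of a vector, and the rank one inequality of the Hecke algebra argument.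
-/

set_option autoImplicit false

namespace Cfsg.Agent.Lib.helper41

open scoped ComplexConjugate

universe u v

section Core

/-- the inequality of the rank one step, in an inner product space -/
theorem rank1_core {E : Type*} [NormedAddCommGroup E] [InnerProductSpace ℂ E] (a b c : E) (m : ℕ)
    (hm : 1 ≤ m)
    (h1 : ((m + 1 : ℕ) : ℂ) * inner ℂ a a = inner ℂ c c + (m : ℂ) * inner ℂ b a)
    (h2 : ‖b‖ ≤ ‖c‖) :
    ‖c‖ ≤ ((m + 1 : ℕ) : ℝ) * ‖a‖ ∧
      (‖c‖ = ((m + 1 : ℕ) : ℝ) * ‖a‖ → ‖b‖ = ‖c‖ ∧ ((m + 1 : ℕ) : ℂ) • a + b = 0) := by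
  have hr : ((m + 1 : ℕ) : ℝ) * ‖a‖ ^ 2 = ‖c‖ ^ 2 + (m : ℝ) * RCLike.re (inner ℂ b a) := by
    have h := congrArg RCLike.re h1
    rw [RCLike.mul_re, RCLike.natCast_re, RCLike.natCast_im, zero_mul, sub_zero, map_add,
      RCLike.mul_re, RCLike.natCast_re, RCLike.natCast_im, zero_mul, sub_zero,
      inner_self_eq_norm_sq, inner_self_eq_norm_sq] at h
    exact h
  have hcs : -(‖b‖ * ‖a‖) ≤ RCLike.re (inner ℂ b a) := by
    have h := re_inner_le_norm (𝕜 := ℂ) (-b) a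
    rw [inner_neg_left, map_neg, norm_neg] at h
    linarith
  have ha := norm_nonneg a
  have hb := norm_nonneg b
  have hc := norm_nonneg c
  have hM : (1 : ℝ) ≤ (m : ℝ) := by exact_mod_cast hm
  have hcast : ((m + 1 : ℕ) : ℝ) = (m : ℝ) + 1 := by push_cast; ring
  rw [hcast] at hr ⊢
  have hba : ‖b‖ * ‖a‖ ≤ ‖c‖ * ‖a‖ := mul_le_mul_of_nonneg_right h2 ha
  refine ⟨?_, ?_⟩
  · by_contra hlt
    push_neg at hlt
    have hpos : 0 < ‖c‖ := lt_of_le_of_lt (by positivity) hlt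
    have h3 : (((m : ℝ) + 1) * ‖a‖ - ‖c‖) * (‖a‖ + ‖c‖) < 0 :=
      mul_neg_of_neg_of_pos (by linarith) (by linarith)
    nlinarith
  · intro heq
    have hr2 : RCLike.re (inner ℂ b a) * ((m : ℝ) + 1) = -(‖c‖ ^ 2) := by
      have h4 : (m : ℝ) * (RCLike.re (inner ℂ b a) * ((m : ℝ) + 1) + ‖c‖ ^ 2) = 0 := by
        rw [heq]
        rw [heq] at hr
        nlinarith
      have h5 : (m : ℝ) ≠ 0 := by linarith
      have h6 := (mul_eq_zero.mp h4).resolve_left h5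
      linarith
    have hn : ‖((m + 1 : ℕ) : ℂ) • a + b‖ ^ 2 = ‖b‖ ^ 2 - ‖c‖ ^ 2 := by
      rw [norm_add_sq (𝕜 := ℂ), norm_smul, inner_smul_left, Complex.norm_natCast, map_natCast,
        RCLike.mul_re, RCLike.natCast_re, RCLike.natCast_im, zero_mul, sub_zero,
        inner_re_symm (𝕜 := ℂ) a b, hcast]
      rw [heq] at hr2 ⊢
      linear_combination 2 * hr2
    have h7 : ‖b‖ ^ 2 ≤ ‖c‖ ^ 2 := by nlinarith
    have h8 : ‖((m + 1 : ℕ) : ℂ) • a + b‖ ^ 2 = 0 := by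
      have := sq_nonneg ‖((m + 1 : ℕ) : ℂ) • a + b‖
      linarith
    have h9 : ‖b‖ ^ 2 = ‖c‖ ^ 2 := by linarith
    refine ⟨?_, ?_⟩
    · nlinarith
    · exact norm_eq_zero.mp ((pow_eq_zero_iff (two_ne_zero)).mp h8)

end Core

section Unitary

variable {G : Type u} [Group G] [Fintype G] {n : ℕ} (ρ : Representation ℂ G (Fin n → ℂ))

/-- the embedding of the space into a Euclidean space for which the representation is unitary -/
noncomputable def uEmb : (Fin n → ℂ) →ₗ[ℂ] EuclideanSpace ℂ (G × Fin n) :=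
  (WithLp.linearEquiv 2 ℂ (G × Fin n → ℂ)).symm.toLinearMap ∘ₗ
    LinearMap.pi (fun gk : G × Fin n => LinearMap.proj gk.2 ∘ₗ ρ gk.1)

theorem uEmb_apply (x : Fin n → ℂ) (g : G) (k : Fin n) : uEmb ρ x (g, k) = ρ g x k := rfl

theorem rho_mul_apply (g h : G) (x : Fin n → ℂ) : ρ (g * h) x = ρ g (ρ h x) := by
  rw [map_mul]
  rfl

theorem rho_one_apply (x : Fin n → ℂ) : ρ 1 x = x := by
  rw [map_one]
  rfl

theorem rho_inv_apply (g : G) (x : Fin n → ℂ) : ρ g⁻¹ (ρ g x) = x := by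
  rw [← rho_mul_apply, inv_mul_cancel, rho_one_apply]

theorem rho_apply_inv (g : G) (x : Fin n → ℂ) : ρ g (ρ g⁻¹ x) = x := by
  rw [← rho_mul_apply, mul_inv_cancel, rho_one_apply]

theorem uEmb_injective : Function.Injective (uEmb ρ) := by
  intro x y h
  funext k
  have h1 : uEmb ρ x (1, k) = uEmb ρ y (1, k) := by rw [h]
  rwa [uEmb_apply, uEmb_apply, rho_one_apply, rho_one_apply] at h1

/-- the invariant Hermitian form -/
noncomputable def ip (x y : Fin n → ℂ) : ℂ := inner ℂ (uEmb ρ x) (uEmb ρ y)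

/-- the invariant norm -/
noncomputable def nm (x : Fin n → ℂ) : ℝ := ‖uEmb ρ x‖

theorem nm_nonneg (x : Fin n → ℂ) : 0 ≤ nm ρ x := norm_nonneg _

theorem ip_rho (h : G) (x y : Fin n → ℂ) : ip ρ (ρ h x) (ρ h y) = ip ρ x y := by
  unfold ip
  rw [PiLp.inner_apply, PiLp.inner_apply]
  apply Fintype.sum_equiv ((Equiv.mulRight h).prodCongr (Equiv.refl (Fin n)))
  rintro ⟨g, k⟩
  show inner ℂ (uEmb ρ (ρ h x) (g, k)) (uEmb ρ (ρ h y) (g, k)) =
    inner ℂ (uEmb ρ x (g * h, k)) (uEmb ρ y (g * h, k))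
  rw [uEmb_apply, uEmb_apply, uEmb_apply, uEmb_apply, rho_mul_apply, rho_mul_apply]

theorem ip_adj (g : G) (x y : Fin n → ℂ) : ip ρ (ρ g x) y = ip ρ x (ρ g⁻¹ y) := by
  rw [← ip_rho ρ g x (ρ g⁻¹ y), rho_apply_inv]

theorem ip_adj' (g : G) (x y : Fin n → ℂ) : ip ρ x (ρ g y) = ip ρ (ρ g⁻¹ x) y := by
  rw [ip_adj, inv_inv]

theorem ip_self (x : Fin n → ℂ) : ip ρ x x = ((nm ρ x ^ 2 : ℝ) : ℂ) := by
  unfold ip nm
  rw [inner_self_eq_norm_sq_to_K]
  push_cast
  rfl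

theorem nm_rho (h : G) (x : Fin n → ℂ) : nm ρ (ρ h x) = nm ρ x := by
  have h1 := ip_rho ρ h x x
  rw [ip_self, ip_self] at h1
  have h2 : nm ρ (ρ h x) ^ 2 = nm ρ x ^ 2 := by exact_mod_cast h1
  have h3 := nm_nonneg ρ (ρ h x)
  have h4 := nm_nonneg ρ x
  nlinarith

theorem nm_eq_zero {x : Fin n → ℂ} (h : nm ρ x = 0) : x = 0 := by
  have h1 : uEmb ρ x = 0 := norm_eq_zero.mp h
  exact uEmb_injective ρ (by rw [h1, map_zero])

/-- the average of the operators of the image of a homomorphism from a finite group -/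
noncomputable def av {K : Type*} [Group K] [Finite K] (φ : K →* G) :
    Module.End ℂ (Fin n → ℂ) :=
  (Nat.card K : ℂ)⁻¹ • @Finset.sum K _ _ (@Finset.univ K (Fintype.ofFinite K)) (fun k => ρ (φ k))

theorem av_eq {K : Type*} [Group K] [Fintype K] (φ : K →* G) :
    av ρ φ = (Fintype.card K : ℂ)⁻¹ • ∑ k, ρ (φ k) := by
  unfold av
  rw [Nat.card_eq_fintype_card]
  congr 1
  exact Finset.sum_congr (Finset.ext (fun _ => by simp)) (fun _ _ => rfl)

theorem av_apply {K : Type*} [Group K] [Fintype K] (φ : K →* G) (x : Fin n → ℂ) :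
    av ρ φ x = (Fintype.card K : ℂ)⁻¹ • ∑ k, ρ (φ k) x := by
  rw [av_eq, LinearMap.smul_apply, LinearMap.sum_apply]

theorem card_ne_zero_C (K : Type*) [Group K] [Fintype K] : (Fintype.card K : ℂ) ≠ 0 := by
  exact_mod_cast Fintype.card_ne_zero

theorem rho_av {K : Type*} [Group K] [Finite K] (φ : K →* G) (k : K) (x : Fin n → ℂ) :
    ρ (φ k) (av ρ φ x) = av ρ φ x := by
  haveI := Fintype.ofFinite K
  rw [av_apply, map_smul, map_sum]
  congr 1
  apply Fintype.sum_equiv (Equiv.mulLeft k)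
  intro j
  rw [Equiv.coe_mulLeft, map_mul, rho_mul_apply]

theorem av_rho {K : Type*} [Group K] [Finite K] (φ : K →* G) (k : K) (x : Fin n → ℂ) :
    av ρ φ (ρ (φ k) x) = av ρ φ x := by
  haveI := Fintype.ofFinite K
  rw [av_apply, av_apply]
  congr 1
  apply Fintype.sum_equiv (Equiv.mulRight k)
  intro j
  rw [Equiv.coe_mulRight, map_mul, rho_mul_apply]

theorem av_fixed {K : Type*} [Group K] [Finite K] (φ : K →* G) (x : Fin n → ℂ)
    (h : ∀ k, ρ (φ k) x = x) : av ρ φ x = x := by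
  haveI := Fintype.ofFinite K
  rw [av_apply]
  simp only [h]
  rw [Finset.sum_const, Finset.card_univ, ← Nat.cast_smul_eq_nsmul ℂ, smul_smul,
    inv_mul_cancel₀ (card_ne_zero_C K), one_smul]

theorem av_av {K : Type*} [Group K] [Finite K] (φ : K →* G) (x : Fin n → ℂ) :
    av ρ φ (av ρ φ x) = av ρ φ x :=
  av_fixed ρ φ _ (fun k => rho_av ρ φ k x)

theorem ip_av {K : Type*} [Group K] [Finite K] (φ : K →* G) (x y : Fin n → ℂ) :
    ip ρ (av ρ φ x) y = ip ρ x (av ρ φ y) := by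
  haveI := Fintype.ofFinite K
  rw [av_apply, av_apply]
  unfold ip
  rw [map_smul, map_smul, map_sum, map_sum, inner_smul_left, inner_smul_right, sum_inner,
    inner_sum]
  have hc : conj (Fintype.card K : ℂ)⁻¹ = (Fintype.card K : ℂ)⁻¹ := by
    rw [map_inv₀, Complex.conj_natCast]
  rw [hc]
  congr 1
  apply Fintype.sum_equiv (Equiv.inv K)
  intro k
  show ip ρ (ρ (φ k) x) y = ip ρ x (ρ (φ k⁻¹) y)
  rw [map_inv]
  exact ip_adj ρ (φ k) x y

theorem nm_av_sq {K : Type*} [Group K] [Finite K] (φ : K →* G) (x : Fin n → ℂ) :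
    nm ρ x ^ 2 = nm ρ (av ρ φ x) ^ 2 + nm ρ (x - av ρ φ x) ^ 2 := by
  have h0 : inner ℂ (uEmb ρ (av ρ φ x)) (uEmb ρ (x - av ρ φ x)) = 0 := by
    show ip ρ (av ρ φ x) (x - av ρ φ x) = 0
    rw [ip_av, map_sub, av_av, sub_self]
    unfold ip
    rw [map_zero, inner_zero_right]
  have h1 := norm_add_sq_eq_norm_sq_add_norm_sq_of_inner_eq_zero (𝕜 := ℂ) _ _ h0
  rw [← map_add, add_sub_cancel] at h1
  unfold nm
  rw [sq, sq, sq]
  exact h1

theorem nm_av_le {K : Type*} [Group K] [Finite K] (φ : K →* G) (x : Fin n → ℂ) :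
    nm ρ (av ρ φ x) ≤ nm ρ x := by
  have h := nm_av_sq ρ φ x
  have h1 := nm_nonneg ρ (av ρ φ x)
  have h2 := nm_nonneg ρ x
  have h3 := sq_nonneg (nm ρ (x - av ρ φ x))
  by_contra hlt
  push_neg at hlt
  nlinarith

theorem av_eq_of_nm_eq {K : Type*} [Group K] [Finite K] (φ : K →* G) (x : Fin n → ℂ)
    (h : nm ρ (av ρ φ x) = nm ρ x) : av ρ φ x = x := by
  have h1 := nm_av_sq ρ φ x
  rw [h] at h1
  have h2 : nm ρ (x - av ρ φ x) ^ 2 = 0 := by linarith
  have h3 := nm_eq_zero ρ ((pow_eq_zero_iff (two_ne_zero)).mp h2)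
  exact (sub_eq_zero.mp h3).symm

theorem trace_av {K : Type*} [Group K] [Fintype K] (φ : K →* G) :
    LinearMap.trace ℂ (Fin n → ℂ) (av ρ φ) =
      (Fintype.card K : ℂ)⁻¹ * ∑ k, ρ.character (φ k) := by
  rw [av_eq, map_smul, map_sum, smul_eq_mul]
  rfl

/-- Schur: the sum over the group of the squared norms of the averaged translates -/
theorem sum_ip_av [ρ.IsIrreducible] {K : Type*} [Group K] [Finite K] (φ : K →* G)
    (x : Fin n → ℂ) :
    ∑ g : G, ip ρ (av ρ φ (ρ g x)) (av ρ φ (ρ g x)) =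
      ((Fintype.card G : ℂ) * LinearMap.trace ℂ (Fin n → ℂ) (av ρ φ) / (n : ℂ)) * ip ρ x x := by
  set e := av ρ φ with he
  set T : Module.End ℂ (Fin n → ℂ) := ∑ g : G, ρ g⁻¹ * e * ρ g with hT
  have hcomm : ∀ h, T ∘ₗ ρ h = ρ h ∘ₗ T := by
    intro h
    show T * ρ h = ρ h * T
    rw [hT, Finset.sum_mul, Finset.mul_sum]
    apply Fintype.sum_equiv (Equiv.mulRight h)
    intro g
    rw [Equiv.coe_mulRight]
    calc ρ g⁻¹ * e * ρ g * ρ h = ρ g⁻¹ * e * (ρ g * ρ h) := by rw [mul_assoc]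
      _ = (ρ h * ρ (g * h)⁻¹) * e * ρ (g * h) := by
        rw [← map_mul, ← map_mul]
        congr 3
        group
      _ = ρ h * (ρ (g * h)⁻¹ * e * ρ (g * h)) := by simp only [mul_assoc]
  obtain ⟨c, hc⟩ := helper4.exists_eq_smul_id_of_comm ρ T hcomm
  have htr : LinearMap.trace ℂ (Fin n → ℂ) T =
      (Fintype.card G : ℂ) * LinearMap.trace ℂ (Fin n → ℂ) e := by
    rw [hT, map_sum]
    have h1 : ∀ g : G, LinearMap.trace ℂ (Fin n → ℂ) (ρ g⁻¹ * e * ρ g) =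
        LinearMap.trace ℂ (Fin n → ℂ) e := by
      intro g
      rw [LinearMap.trace_mul_cycle, ← map_mul, mul_inv_cancel, map_one, one_mul]
    simp only [h1]
    rw [Finset.sum_const, Finset.card_univ, nsmul_eq_mul]
  have hn : (n : ℂ) ≠ 0 := by
    have := helper4.nontrivial_of_isIrreducible ρ
    have h1 : 0 < Module.finrank ℂ (Fin n → ℂ) := Module.finrank_pos
    rw [Module.finrank_fin_fun] at h1
    exact_mod_cast h1.ne'
  have hcn : c = (Fintype.card G : ℂ) * LinearMap.trace ℂ (Fin n → ℂ) e / (n : ℂ) := by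
    rw [hc, map_smul, smul_eq_mul] at htr
    have hid : LinearMap.trace ℂ (Fin n → ℂ) LinearMap.id = (n : ℂ) := by
      rw [LinearMap.trace_id, Module.finrank_fin_fun]
    rw [hid] at htr
    rw [← htr, mul_div_assoc, div_self hn, mul_one]
  have hterm : ∀ g : G, ip ρ (e (ρ g x)) (e (ρ g x)) = ip ρ x (ρ g⁻¹ (e (ρ g x))) := by
    intro g
    rw [he, ip_av, av_av, ← ip_adj]
  simp only [hterm]
  have hsum : ∑ g : G, ip ρ x (ρ g⁻¹ (e (ρ g x))) = ip ρ x (T x) := by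
    unfold ip
    rw [hT, LinearMap.sum_apply, map_sum, inner_sum]
    rfl
  rw [hsum, hc, ← hcn, LinearMap.smul_apply, LinearMap.id_apply]
  unfold ip
  rw [map_smul, inner_smul_right]

/-- the rank one inequality and its case of equality -/
theorem rank1 {K Kh : Type*} [Group K] [Fintype K] [Group Kh] [Fintype Kh] [DecidableEq K]
    (φX : K →* G) (φH : Kh →* G) (nn : G) (τ : Kh → K) (hτ : Function.Injective τ)
    (hτ1 : ∀ s, τ s ≠ 1) (hcard : Fintype.card K = Fintype.card Kh + 1)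
    (hrel : ∀ s, ∃ a b : K, nn⁻¹ * φX (τ s) * nn = φX a * φH s⁻¹ * nn * φX b)
    (x : Fin n → ℂ) (hx : ∀ t, ρ (φX t) x = x)
    (hxh : ∀ s t, ρ (φX t) (ρ (φH s) x) = ρ (φH s) x) :
    nm ρ x ≤ (Fintype.card K : ℝ) * nm ρ (av ρ φX (ρ nn x)) ∧
      (nm ρ x = (Fintype.card K : ℝ) * nm ρ (av ρ φX (ρ nn x)) →
        (∀ s, ρ (φH s) x = x) ∧ (Fintype.card K : ℂ) • av ρ φX (ρ nn x) + x = 0) := by
  set C := av ρ φX (ρ nn x) with hC
  set P := av ρ φH x with hP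
  have hf1 : ip ρ (ρ nn x) (ρ (φX 1) (ρ nn x)) = ip ρ x x := by
    rw [map_one, rho_one_apply, ip_rho]
  have hfs : ∀ s, ip ρ (ρ nn x) (ρ (φX (τ s)) (ρ nn x)) = ip ρ (ρ (φH s) x) C := by
    intro s
    obtain ⟨a, b, hab⟩ := hrel s
    have e1 : ρ nn⁻¹ (ρ (φX (τ s)) (ρ nn x)) = ρ (φX a) (ρ (φH s⁻¹) (ρ nn x)) := by
      rw [← rho_mul_apply, ← rho_mul_apply, hab, rho_mul_apply, hx b, rho_mul_apply,
        rho_mul_apply]
    calc ip ρ (ρ nn x) (ρ (φX (τ s)) (ρ nn x))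
        = ip ρ x (ρ nn⁻¹ (ρ (φX (τ s)) (ρ nn x))) := ip_adj ρ nn x _
      _ = ip ρ x (ρ (φX a) (ρ (φH s⁻¹) (ρ nn x))) := by rw [e1]
      _ = ip ρ (ρ (φX a)⁻¹ x) (ρ (φH s⁻¹) (ρ nn x)) := ip_adj' ρ _ _ _
      _ = ip ρ x (ρ (φH s⁻¹) (ρ nn x)) := by rw [← map_inv, hx]
      _ = ip ρ (ρ (φH s⁻¹)⁻¹ x) (ρ nn x) := ip_adj' ρ _ _ _
      _ = ip ρ (ρ (φH s) x) (ρ nn x) := by rw [← map_inv, inv_inv]
      _ = ip ρ (av ρ φX (ρ (φH s) x)) (ρ nn x) := by rw [av_fixed ρ φX _ (fun t => hxh s t)]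
      _ = ip ρ (ρ (φH s) x) C := by rw [ip_av]
  have hkey : ((Fintype.card Kh + 1 : ℕ) : ℂ) * ip ρ C C =
      ip ρ x x + (Fintype.card Kh : ℂ) * ip ρ P C := by
    have h1 : ip ρ C C = ip ρ (ρ nn x) C := by
      rw [hC, ip_av, av_av]
    have h2 : (Fintype.card K : ℂ) * ip ρ (ρ nn x) C =
        ∑ t : K, ip ρ (ρ nn x) (ρ (φX t) (ρ nn x)) := by
      rw [hC, av_apply]
      unfold ip
      rw [map_smul, map_sum, inner_smul_right, inner_sum, ← mul_assoc,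
        mul_inv_cancel₀ (card_ne_zero_C K), one_mul]
    have h3 : ∑ t : K, ip ρ (ρ nn x) (ρ (φX t) (ρ nn x)) =
        ip ρ x x + ∑ s : Kh, ip ρ (ρ (φH s) x) C := by
      rw [← Finset.add_sum_erase Finset.univ _ (Finset.mem_univ (1 : K)), hf1]
      congr 1
      have himg : (Finset.univ : Finset K).erase 1 = Finset.univ.image τ := by
        symm
        apply Finset.eq_of_subset_of_card_le
        · intro t ht
          obtain ⟨s, -, rfl⟩ := Finset.mem_image.mp ht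
          exact Finset.mem_erase.mpr ⟨hτ1 s, Finset.mem_univ _⟩
        · rw [Finset.card_erase_of_mem (Finset.mem_univ _), Finset.card_univ,
            Finset.card_image_of_injective _ hτ, Finset.card_univ, hcard]
          omega
      rw [himg, Finset.sum_image (fun a _ b _ h => hτ h)]
      exact Finset.sum_congr rfl (fun s _ => hfs s)
    have h4 : ∑ s : Kh, ip ρ (ρ (φH s) x) C = (Fintype.card Kh : ℂ) * ip ρ P C := by
      rw [hP, av_apply]
      unfold ip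
      rw [map_smul, map_sum, inner_smul_left, sum_inner, map_inv₀, Complex.conj_natCast,
        ← mul_assoc, mul_inv_cancel₀ (card_ne_zero_C Kh), one_mul]
    rw [← hcard, h1, h2, h3, h4]
  have hm : 1 ≤ Fintype.card Kh := Fintype.card_pos
  have hcore := rank1_core (uEmb ρ C) (uEmb ρ P) (uEmb ρ x) (Fintype.card Kh) hm hkey
    (nm_av_le ρ φH x)
  rw [← hcard] at hcore
  refine ⟨hcore.1, fun heq => ?_⟩
  obtain ⟨h5, h6⟩ := hcore.2 heq
  have hPx : P = x := av_eq_of_nm_eq ρ φH x h5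
  refine ⟨fun s => ?_, ?_⟩
  · have h7 := rho_av ρ φH s x
    rw [← hP, hPx] at h7
    exact h7
  · apply uEmb_injective ρ
    rw [map_add, map_smul, map_zero, ← hPx]
    exact h6

theorem natCast_ne_zero_of_irr [ρ.IsIrreducible] : (n : ℂ) ≠ 0 := by
  have := helper4.nontrivial_of_isIrreducible ρ
  have h1 : 0 < Module.finrank ℂ (Fin n → ℂ) := Module.finrank_pos
  rw [Module.finrank_fin_fun] at h1
  exact_mod_cast h1.ne'

theorem av_sub_absorb (A P : Subgroup G) (hAP : A ≤ P) (y : Fin n → ℂ) :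
    av ρ P.subtype (av ρ A.subtype y) = av ρ P.subtype y := by
  haveI : Fintype ↥A := Fintype.ofFinite _
  rw [av_apply ρ A.subtype, map_smul, map_sum]
  have h1 : ∀ a : ↥A, av ρ P.subtype (ρ (A.subtype a) y) = av ρ P.subtype y :=
    fun a => av_rho ρ P.subtype ⟨a.1, hAP a.2⟩ y
  simp only [h1]
  rw [Finset.sum_const, Finset.card_univ, ← Nat.cast_smul_eq_nsmul ℂ, smul_smul,
    inv_mul_cancel₀ (card_ne_zero_C _), one_smul]

/-- Frobenius reciprocity for a permutation character -/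
theorem classInner_fixedPoint (P : Subgroup G) :
    Cfsg.classInner (Cfsg.fixedPointCharacter P) ρ.character =
      conj (LinearMap.trace ℂ (Fin n → ℂ) (av ρ P.subtype)) := by
  classical
  haveI : Fintype ↥P := Fintype.ofFinite _
  have h : Cfsg.fixedPointCharacter P = Cfsg.indFun P (fun _ => 1) := by
    funext g
    rw [helper19.indFun_one_eq]
    rfl
  rw [h, helper4.frobenius_reciprocity P _ (helper4.isClassFunction_char ρ), trace_av]
  unfold Cfsg.classInner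
  rw [map_mul, map_inv₀, Complex.conj_natCast, map_sum, Nat.card_eq_fintype_card]
  congr 1
  apply Finset.sum_congr rfl
  intro k _
  rw [one_mul]
  rfl

end Unitary

/-- the group-theoretic input of the Hecke algebra argument -/
structure HeckeSetup (G : Type u) [Group G] (F : Type v) [Field F] [Fintype F] (l : ℕ)
    (W : Type) where
  U : Subgroup G
  H : Subgroup G
  B : Subgroup G
  xh : Fin l → Multiplicative F →* G
  hh : Fin l → Fˣ →* G
  nn : Fin l → G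
  Up : Fin l → Subgroup G
  nw : W → G
  len : W → ℕ
  Uw : W → Subgroup G
  N : ℕ
  xh_mem : ∀ i t, xh i t ∈ U
  hh_mem : ∀ i t, hh i t ∈ H
  hH : ∀ h ∈ H, ∀ u ∈ U, h⁻¹ * u * h ∈ U
  U_le : U ≤ B
  B_eq : ∀ b ∈ B, ∃ u ∈ U, ∃ h ∈ H, b = u * h
  rel : ∀ i (t : Fˣ), ∃ a b : Multiplicative F,
    (nn i)⁻¹ * xh i (Multiplicative.ofAdd (t : F)) * nn i = xh i a * hh i t⁻¹ * nn i * xh i b
  dec : ∀ i, ∀ u ∈ U, ∃ t, ∃ u' ∈ Up i, u = xh i t * u'
  up_conj : ∀ i, ∀ u' ∈ Up i, ∀ t, (xh i t)⁻¹ * u' * xh i t ∈ Up i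
  up_n : ∀ i, ∀ u' ∈ Up i, (nn i)⁻¹ * u' * nn i ∈ U
  len_zero : ∀ w, len w = 0 → nw w ∈ H
  len_pos : ∀ w, len w ≠ 0 → ∃ i w' h, h ∈ H ∧ nw w = nw w' * nn i * h ∧ len w = len w' + 1 ∧
    ∀ t, nw w' * xh i t * (nw w')⁻¹ ∈ U
  simple : ∀ i, ∃ w h, h ∈ H ∧ nw w = nn i * h ∧ len w = 1
  Uw_le : ∀ w, Uw w ≤ U
  card_Uw : ∀ w, Nat.card (Uw w) = Fintype.card F ^ len w
  bij : Function.Bijective
    (fun x : (Σ w : W, ↥B × ↥(Uw w)) => (x.2.1 : G) * nw x.1 * (x.2.2 : G))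
  card_U : Nat.card U = Fintype.card F ^ N
  sym : ∃ τ : W → W, Function.Bijective τ ∧ ∀ w, len (τ w) + len w = N

namespace HeckeSetup

variable {G : Type u} [Group G] [Fintype G] {F : Type v} [Field F] [Fintype F] {l : ℕ} {W : Type}
  (S : HeckeSetup G F l W) {n : ℕ} (ρ : Representation ℂ G (Fin n → ℂ))

/-- the vectors fixed by `U` -/
def Fixed (x : Fin n → ℂ) : Prop := ∀ u ∈ S.U, ρ u x = x

theorem fixed_H {x : Fin n → ℂ} (hx : S.Fixed ρ x) {h : G} (hh : h ∈ S.H) :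
    S.Fixed ρ (ρ h x) := by
  intro u hu
  have h1 := hx _ (S.hH h hh u hu)
  have e : u * h = h * (h⁻¹ * u * h) := by group
  rw [← rho_mul_apply, e, rho_mul_apply, h1]

theorem fixed_av_U (y : Fin n → ℂ) : S.Fixed ρ (av ρ S.U.subtype y) :=
  fun u hu => rho_av ρ S.U.subtype ⟨u, hu⟩ y

theorem av_U_fixed {x : Fin n → ℂ} (hx : S.Fixed ρ x) : av ρ S.U.subtype x = x :=
  av_fixed ρ S.U.subtype x (fun u => hx u.1 u.2)

theorem av_U_mem {u : G} (hu : u ∈ S.U) (y : Fin n → ℂ) :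
    av ρ S.U.subtype (ρ u y) = av ρ S.U.subtype y :=
  av_rho ρ S.U.subtype ⟨u, hu⟩ y

theorem fixed_stepA {x : Fin n → ℂ} (hx : S.Fixed ρ x) (i : Fin l) :
    S.Fixed ρ (av ρ (S.xh i) (ρ (S.nn i) x)) := by
  intro u hu
  obtain ⟨t, u', hu', rfl⟩ := S.dec i u hu
  rw [rho_mul_apply]
  have h1 : ρ u' (av ρ (S.xh i) (ρ (S.nn i) x)) = av ρ (S.xh i) (ρ (S.nn i) x) := by
    rw [av_apply, map_smul, map_sum]
    congr 1
    apply Finset.sum_congr rfl
    intro s _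
    have h2 := hx _ (S.up_n i _ (S.up_conj i u' hu' s))
    have e : u' * S.xh i s * S.nn i = S.xh i s * S.nn i *
        ((S.nn i)⁻¹ * ((S.xh i s)⁻¹ * u' * S.xh i s) * S.nn i) := by group
    have e2 : ρ u' (ρ (S.xh i s) (ρ (S.nn i) x)) = ρ (u' * S.xh i s * S.nn i) x := by
      rw [rho_mul_apply, rho_mul_apply]
    rw [e2, e, rho_mul_apply, h2, rho_mul_apply]
  rw [h1, rho_av]

theorem av_absorb (i : Fin l) (g : G) (hg : ∀ t, g * S.xh i t * g⁻¹ ∈ S.U) (y : Fin n → ℂ) :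
    av ρ S.U.subtype (ρ g (av ρ (S.xh i) y)) = av ρ S.U.subtype (ρ g y) := by
  rw [av_apply ρ (S.xh i), map_smul, map_smul, map_sum, map_sum]
  have h1 : ∀ t, av ρ S.U.subtype (ρ g (ρ (S.xh i t) y)) = av ρ S.U.subtype (ρ g y) := by
    intro t
    have e : g * S.xh i t = (g * S.xh i t * g⁻¹) * g := by group
    rw [← rho_mul_apply, e, rho_mul_apply]
    exact S.av_U_mem ρ (hg t) _
  simp only [h1]
  rw [Finset.sum_const, Finset.card_univ, ← Nat.cast_smul_eq_nsmul ℂ, smul_smul,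
    inv_mul_cancel₀ (card_ne_zero_C _), one_smul]

theorem av_H {h : G} (hh : h ∈ S.H) (y : Fin n → ℂ) :
    av ρ S.U.subtype (ρ h y) = ρ h (av ρ S.U.subtype y) := by
  haveI : Fintype ↥S.U := Fintype.ofFinite _
  rw [av_apply, av_apply, map_smul, map_sum]
  congr 1
  let e : ↥S.U ≃ ↥S.U :=
    { toFun := fun u => ⟨h⁻¹ * u.1 * h, S.hH h hh u.1 u.2⟩
      invFun := fun u => ⟨h * u.1 * h⁻¹, by
        have := S.hH h⁻¹ (inv_mem hh) u.1 u.2
        rwa [inv_inv] at this⟩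
      left_inv := fun u => Subtype.ext (by
        show h * (h⁻¹ * u.1 * h) * h⁻¹ = u.1
        group)
      right_inv := fun u => Subtype.ext (by
        show h⁻¹ * (h * u.1 * h⁻¹) * h = u.1
        group) }
  apply Fintype.sum_equiv e
  intro u
  show ρ (u : G) (ρ h y) = ρ h (ρ (h⁻¹ * (u : G) * h) y)
  have e2 : (u : G) * h = h * (h⁻¹ * (u : G) * h) := by group
  rw [← rho_mul_apply, e2, rho_mul_apply]

theorem rank1_at {x : Fin n → ℂ} (hx : S.Fixed ρ x) (i : Fin l) :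
    nm ρ x ≤ (Fintype.card F : ℝ) * nm ρ (av ρ (S.xh i) (ρ (S.nn i) x)) ∧
      (nm ρ x = (Fintype.card F : ℝ) * nm ρ (av ρ (S.xh i) (ρ (S.nn i) x)) →
        (∀ s, ρ (S.hh i s) x = x) ∧
          (Fintype.card F : ℂ) • av ρ (S.xh i) (ρ (S.nn i) x) + x = 0) := by
  classical
  have hc : Fintype.card (Multiplicative F) = Fintype.card F := Fintype.card_multiplicative F
  have hcard : Fintype.card (Multiplicative F) = Fintype.card Fˣ + 1 := by
    rw [hc, Fintype.card_eq_card_units_add_one]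
  have h := rank1 ρ (S.xh i) (S.hh i) (S.nn i) (fun s : Fˣ => Multiplicative.ofAdd (s : F))
    (fun a b hab => Units.ext (Multiplicative.ofAdd.injective hab))
    (fun s hs => s.ne_zero (by simpa using hs))
    hcard (S.rel i) x (fun t => hx _ (S.xh_mem i t))
    (fun s t => S.fixed_H ρ hx (S.hh_mem i s) _ (S.xh_mem i t))
  rwa [hc] at h

theorem len_ineq : ∀ (k : ℕ) (w : W), S.len w = k → ∀ x : Fin n → ℂ, S.Fixed ρ x →
    nm ρ x ≤ (Fintype.card F : ℝ) ^ k * nm ρ (av ρ S.U.subtype (ρ (S.nw w) x)) := by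
  intro k
  induction k with
  | zero =>
    intro w hw x hx
    have h1 := S.fixed_H ρ hx (S.len_zero w hw)
    rw [S.av_U_fixed ρ h1, nm_rho, pow_zero, one_mul]
  | succ k ih =>
    intro w hw x hx
    obtain ⟨i, w', h, hh, hnw, hlen, hconj⟩ := S.len_pos w (by omega)
    have hx' := S.fixed_H ρ hx hh
    have hz := S.fixed_stepA ρ hx' i
    have h1 := ih w' (by omega) _ hz
    have h2 := (S.rank1_at ρ hx' i).1
    have e : av ρ S.U.subtype (ρ (S.nw w) x) =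
        av ρ S.U.subtype (ρ (S.nw w') (av ρ (S.xh i) (ρ (S.nn i) (ρ h x)))) := by
      rw [S.av_absorb ρ i (S.nw w') hconj, hnw, rho_mul_apply, rho_mul_apply]
    rw [e, pow_succ]
    rw [nm_rho] at h2
    have hq : (0 : ℝ) ≤ (Fintype.card F : ℝ) := Nat.cast_nonneg _
    calc nm ρ x ≤ (Fintype.card F : ℝ) * nm ρ (av ρ (S.xh i) (ρ (S.nn i) (ρ h x))) := h2
      _ ≤ (Fintype.card F : ℝ) * ((Fintype.card F : ℝ) ^ k *
          nm ρ (av ρ S.U.subtype (ρ (S.nw w') (av ρ (S.xh i) (ρ (S.nn i) (ρ h x)))))) :=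
        mul_le_mul_of_nonneg_left h1 hq
      _ = _ := by ring

theorem nm_av_cell {x : Fin n → ℂ} (hx : S.Fixed ρ x) (w : W) (b : G) (hb : b ∈ S.B) (u : G)
    (hu : u ∈ S.Uw w) :
    nm ρ (av ρ S.U.subtype (ρ (b * S.nw w * u) x)) =
      nm ρ (av ρ S.U.subtype (ρ (S.nw w) x)) := by
  obtain ⟨u1, hu1, h1, hh1, rfl⟩ := S.B_eq b hb
  rw [rho_mul_apply, hx u (S.Uw_le w hu), rho_mul_apply, rho_mul_apply, S.av_U_mem ρ hu1,
    S.av_H ρ hh1, nm_rho]

theorem sum_bij_cells [Fintype W] [Fintype ↥S.B] [∀ w, Fintype ↥(S.Uw w)] (f : G → ℝ) :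
    ∑ g : G, f g = ∑ w : W, ∑ b : ↥S.B, ∑ u : ↥(S.Uw w), f ((b : G) * S.nw w * (u : G)) := by
  rw [← Function.Bijective.sum_comp S.bij f, Fintype.sum_sigma]
  apply Finset.sum_congr rfl
  intro w _
  rw [Fintype.sum_prod_type]

theorem sum_cells [Fintype W] {x : Fin n → ℂ} (hx : S.Fixed ρ x) :
    ∑ g : G, nm ρ (av ρ S.U.subtype (ρ g x)) ^ 2 =
      ∑ w : W, (Nat.card S.B : ℝ) * (Fintype.card F : ℝ) ^ S.len w *
        nm ρ (av ρ S.U.subtype (ρ (S.nw w) x)) ^ 2 := by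
  classical
  haveI : Fintype ↥S.B := Fintype.ofFinite _
  haveI : ∀ w, Fintype ↥(S.Uw w) := fun w => Fintype.ofFinite _
  rw [S.sum_bij_cells]
  apply Finset.sum_congr rfl
  intro w _
  have h1 : ∀ (b : ↥S.B) (u : ↥(S.Uw w)),
      nm ρ (av ρ S.U.subtype (ρ ((b : G) * S.nw w * (u : G)) x)) ^ 2 =
        nm ρ (av ρ S.U.subtype (ρ (S.nw w) x)) ^ 2 := fun b u => by
    rw [S.nm_av_cell ρ hx w b.1 b.2 u.1 u.2]
  simp only [h1]
  rw [Finset.sum_const, Finset.sum_const, Finset.card_univ, Finset.card_univ, nsmul_eq_mul,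
    nsmul_eq_mul, ← Nat.card_eq_fintype_card, ← Nat.card_eq_fintype_card, S.card_Uw w]
  push_cast
  ring

theorem card_G [Fintype W] :
    (Fintype.card G : ℝ) = ∑ w : W, (Nat.card S.B : ℝ) * (Fintype.card F : ℝ) ^ S.len w := by
  classical
  haveI : Fintype ↥S.B := Fintype.ofFinite _
  haveI : ∀ w, Fintype ↥(S.Uw w) := fun w => Fintype.ofFinite _
  have h := S.sum_bij_cells (fun _ => (1 : ℝ))
  rw [Finset.sum_const, Finset.card_univ, nsmul_eq_mul, mul_one] at h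
  rw [h]
  apply Finset.sum_congr rfl
  intro w _
  rw [Finset.sum_const, Finset.sum_const, Finset.card_univ, Finset.card_univ, nsmul_eq_mul,
    nsmul_eq_mul, ← Nat.card_eq_fintype_card, ← Nat.card_eq_fintype_card, S.card_Uw w]
  push_cast
  ring

theorem trace_av_U (hvan : ∀ u ∈ S.U, u ≠ 1 → ρ.character u = 0) :
    LinearMap.trace ℂ (Fin n → ℂ) (av ρ S.U.subtype) = (n : ℂ) / (Nat.card S.U : ℂ) := by
  classical
  haveI : Fintype ↥S.U := Fintype.ofFinite _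
  rw [trace_av, Finset.sum_eq_single (1 : ↥S.U)]
  · rw [map_one, Representation.char_one, Module.finrank_fin_fun, Nat.card_eq_fintype_card,
      div_eq_inv_mul]
  · intro u _ hu
    exact hvan u.1 u.2 (fun h => hu (Subtype.ext h))
  · intro h
    exact absurd (Finset.mem_univ _) h

theorem sum_sq [ρ.IsIrreducible] (hvan : ∀ u ∈ S.U, u ≠ 1 → ρ.character u = 0)
    (x : Fin n → ℂ) :
    ∑ g : G, nm ρ (av ρ S.U.subtype (ρ g x)) ^ 2 =
      (Fintype.card G : ℝ) / (Nat.card S.U : ℝ) * nm ρ x ^ 2 := by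
  have h := sum_ip_av ρ S.U.subtype x
  rw [S.trace_av_U ρ hvan] at h
  simp only [ip_self] at h
  have hn : (n : ℂ) ≠ 0 := natCast_ne_zero_of_irr ρ
  have hU : (Nat.card S.U : ℂ) ≠ 0 := by exact_mod_cast Nat.card_pos.ne'
  have h2 : ((Fintype.card G : ℂ) * ((n : ℂ) / (Nat.card S.U : ℂ)) / (n : ℂ)) =
      (((Fintype.card G : ℝ) / (Nat.card S.U : ℝ) : ℝ) : ℂ) := by
    push_cast
    field_simp
  rw [h2, ← Complex.ofReal_sum, ← Complex.ofReal_mul] at h
  exact_mod_cast h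

/-- the inequalities of the lengths are equalities -/
theorem len_eq [Fintype W] [ρ.IsIrreducible] (hvan : ∀ u ∈ S.U, u ≠ 1 → ρ.character u = 0)
    {x : Fin n → ℂ} (hx : S.Fixed ρ x) (w : W) :
    nm ρ x = (Fintype.card F : ℝ) ^ S.len w * nm ρ (av ρ S.U.subtype (ρ (S.nw w) x)) := by
  obtain ⟨q, hq⟩ : ∃ q : ℝ, q = (Fintype.card F : ℝ) := ⟨_, rfl⟩
  have hq0 : 0 < q := by
    rw [hq]
    exact_mod_cast Fintype.card_pos
  obtain ⟨cB, hcB⟩ : ∃ cB : ℝ, cB = (Nat.card S.B : ℝ) := ⟨_, rfl⟩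
  have hcB0 : 0 < cB := by
    rw [hcB]
    exact_mod_cast Nat.card_pos
  obtain ⟨a, ha⟩ : ∃ a : W → ℝ, a = fun w => nm ρ (av ρ S.U.subtype (ρ (S.nw w) x)) := ⟨_, rfl⟩
  obtain ⟨b, hb⟩ : ∃ b : ℝ, b = nm ρ x := ⟨_, rfl⟩
  have hb0 : 0 ≤ b := by
    rw [hb]
    exact nm_nonneg ρ x
  have ha0 : ∀ w, 0 ≤ a w := fun w => by
    rw [ha]
    exact nm_nonneg ρ _
  have hL : ∀ w, b ≤ q ^ S.len w * a w := fun w => by
    rw [hb, ha, hq]
    exact S.len_ineq ρ (S.len w) w rfl x hx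
  have hE1 : ∑ w : W, cB * q ^ S.len w * a w ^ 2 =
      (Fintype.card G : ℝ) / (Nat.card S.U : ℝ) * b ^ 2 := by
    rw [hb, ha, hq, hcB, ← S.sum_sq ρ hvan x, S.sum_cells ρ hx]
  have hU : (Nat.card S.U : ℝ) = q ^ S.N := by
    rw [S.card_U, hq]
    push_cast
    rfl
  have hG : (Fintype.card G : ℝ) = ∑ w : W, cB * q ^ S.len w := by
    rw [hq, hcB]
    exact S.card_G
  obtain ⟨τ, hτ, hτN⟩ := S.sym
  have hsym : (∑ w : W, q ^ S.len w) / q ^ S.N = ∑ w : W, (q ^ S.len w)⁻¹ := by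
    rw [← Function.Bijective.sum_comp hτ (fun w => (q ^ S.len w)⁻¹), Finset.sum_div]
    apply Finset.sum_congr rfl
    intro w _
    have h1 : q ^ S.len (τ w) ≠ 0 := (pow_pos hq0 _).ne'
    have h2 : q ^ S.len w ≠ 0 := (pow_pos hq0 _).ne'
    rw [← hτN w, pow_add]
    field_simp
  have hterm : ∀ w, 0 ≤ cB * q ^ S.len w * (a w ^ 2 - b ^ 2 * ((q ^ S.len w)⁻¹) ^ 2) := by
    intro w
    have h1 : 0 < q ^ S.len w := pow_pos hq0 _
    have h2 : b * (q ^ S.len w)⁻¹ ≤ a w := by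
      rw [← div_eq_mul_inv, div_le_iff₀ h1]
      linarith [hL w]
    have h3 : 0 ≤ b * (q ^ S.len w)⁻¹ := mul_nonneg hb0 (inv_nonneg.mpr h1.le)
    have h4 : (b * (q ^ S.len w)⁻¹) ^ 2 ≤ a w ^ 2 := pow_le_pow_left₀ h3 h2 2
    have h5 : 0 ≤ a w ^ 2 - b ^ 2 * ((q ^ S.len w)⁻¹) ^ 2 := by
      rw [mul_pow] at h4
      linarith
    exact mul_nonneg (mul_nonneg hcB0.le h1.le) h5
  have hzero : ∑ w : W, cB * q ^ S.len w * (a w ^ 2 - b ^ 2 * ((q ^ S.len w)⁻¹) ^ 2) = 0 := by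
    have h1 : ∑ w : W, cB * q ^ S.len w * (a w ^ 2 - b ^ 2 * ((q ^ S.len w)⁻¹) ^ 2) =
        ∑ w : W, cB * q ^ S.len w * a w ^ 2 - cB * b ^ 2 * ∑ w : W, (q ^ S.len w)⁻¹ := by
      rw [Finset.mul_sum, ← Finset.sum_sub_distrib]
      apply Finset.sum_congr rfl
      intro w _
      have h1 : q ^ S.len w ≠ 0 := (pow_pos hq0 _).ne'
      field_simp
    have h2 : q ^ S.N ≠ 0 := (pow_pos hq0 _).ne'
    rw [h1, hE1, hG, hU, ← hsym, ← Finset.mul_sum]
    field_simp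
    ring
  have hall := (Finset.sum_eq_zero_iff_of_nonneg (fun w _ => hterm w)).mp hzero w
    (Finset.mem_univ w)
  have h1 : 0 < q ^ S.len w := pow_pos hq0 _
  have h2 : a w ^ 2 = b ^ 2 * ((q ^ S.len w)⁻¹) ^ 2 := by
    rcases mul_eq_zero.mp hall with h | h
    · exact absurd h (mul_pos hcB0 h1).ne'
    · linarith
  have h3 : (q ^ S.len w) ^ 2 * ((q ^ S.len w)⁻¹) ^ 2 = 1 := by
    rw [← mul_pow, mul_inv_cancel₀ h1.ne', one_pow]
  have h4 : (q ^ S.len w * a w) ^ 2 = b ^ 2 := by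
    calc (q ^ S.len w * a w) ^ 2 = (q ^ S.len w) ^ 2 * a w ^ 2 := mul_pow _ _ _
      _ = b ^ 2 * ((q ^ S.len w) ^ 2 * ((q ^ S.len w)⁻¹) ^ 2) := by
        rw [h2]
        ring
      _ = b ^ 2 := by rw [h3, mul_one]
  have h5 : 0 ≤ q ^ S.len w * a w := mul_nonneg h1.le (ha0 w)
  have h6 : q ^ S.len w * a w = b := (sq_eq_sq₀ h5 hb0).mp h4
  rw [← hb, ← hq, ← h6, ha]

/-- the torus elements of the simple roots fix the `U`-fixed vectors and the rank one operators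
act as `-1/q` on them -/
theorem main [Fintype W] [ρ.IsIrreducible] (hvan : ∀ u ∈ S.U, u ≠ 1 → ρ.character u = 0)
    {x : Fin n → ℂ} (hx : S.Fixed ρ x) (i : Fin l) :
    (∀ t, ρ (S.hh i t) x = x) ∧
      (Fintype.card F : ℂ) • av ρ (S.xh i) (ρ (S.nn i) x) + x = 0 := by
  obtain ⟨w, h, hh, hnw, hlen⟩ := S.simple i
  have hx' := S.fixed_H ρ hx (inv_mem hh)
  have h1 := S.len_eq ρ hvan hx' w
  rw [hlen, pow_one, nm_rho, hnw, rho_mul_apply, rho_apply_inv] at h1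
  have h2 : av ρ S.U.subtype (ρ (S.nn i) x) = av ρ (S.xh i) (ρ (S.nn i) x) := by
    have h3 := S.av_absorb ρ i 1 (fun t => by simpa using S.xh_mem i t) (ρ (S.nn i) x)
    rw [rho_one_apply, rho_one_apply] at h3
    rw [← h3, S.av_U_fixed ρ (S.fixed_stepA ρ hx i)]
  rw [h2] at h1
  exact (S.rank1_at ρ hx i).2 h1

theorem fixed_torus (gen : S.H ≤ Subgroup.closure {g | ∃ i t, g = S.hh i t})
    (hmain : ∀ x, S.Fixed ρ x → ∀ i t, ρ (S.hh i t) x = x) {x : Fin n → ℂ}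
    (hx : S.Fixed ρ x) {h : G} (hh : h ∈ S.H) : ρ h x = x := by
  let St : Subgroup G :=
    { carrier := {g | ρ g x = x}
      mul_mem' := fun {a b} ha hb => by
        show ρ (a * b) x = x
        rw [rho_mul_apply, show ρ b x = x from hb, show ρ a x = x from ha]
      one_mem' := rho_one_apply ρ x
      inv_mem' := fun {a} ha => by
        show ρ a⁻¹ x = x
        have h1 : ρ a x = x := ha
        have h2 := rho_inv_apply ρ a x
        rw [h1] at h2
        exact h2 }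
  have hle : Subgroup.closure {g | ∃ i t, g = S.hh i t} ≤ St :=
    (Subgroup.closure_le St).mpr (by
      rintro g ⟨i, t, rfl⟩
      exact hmain x hx i t)
  exact hle (gen hh)

theorem av_B_eq (hH : ∀ x, S.Fixed ρ x → ∀ h ∈ S.H, ρ h x = x) (y : Fin n → ℂ) :
    av ρ S.B.subtype y = av ρ S.U.subtype y := by
  have h1 : av ρ S.B.subtype (av ρ S.U.subtype y) = av ρ S.U.subtype y := by
    apply av_fixed
    intro b
    obtain ⟨u, hu, h, hh, e⟩ := S.B_eq b.1 b.2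
    show ρ (b : G) _ = _
    rw [e, rho_mul_apply, hH _ (S.fixed_av_U ρ y) h hh]
    exact S.fixed_av_U ρ y u hu
  rw [← h1, av_sub_absorb ρ S.U S.B S.U_le]

theorem av_P_zero (P : Subgroup G) (hUP : S.U ≤ P) (i : Fin l) (hi : S.nn i ∈ P)
    (hmain : ∀ x, S.Fixed ρ x →
      (Fintype.card F : ℂ) • av ρ (S.xh i) (ρ (S.nn i) x) + x = 0) (y : Fin n → ℂ) :
    av ρ P.subtype y = 0 := by
  have hfix : S.Fixed ρ (av ρ P.subtype y) := fun u hu => rho_av ρ P.subtype ⟨u, hUP hu⟩ y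
  have hn : ρ (S.nn i) (av ρ P.subtype y) = av ρ P.subtype y :=
    rho_av ρ P.subtype ⟨S.nn i, hi⟩ y
  have h1 := hmain _ hfix
  rw [hn, av_fixed ρ (S.xh i) _ (fun t => hfix _ (S.xh_mem i t))] at h1
  have h2 : ((Fintype.card F : ℂ) + 1) • av ρ P.subtype y = 0 := by
    rw [add_smul, one_smul]
    exact h1
  have h3 : (Fintype.card F : ℂ) + 1 ≠ 0 := by
    have h4 : ((Fintype.card F + 1 : ℕ) : ℂ) ≠ 0 := Nat.cast_ne_zero.mpr (Nat.succ_ne_zero _)
    push_cast at h4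
    exact h4
  exact (smul_eq_zero.mp h2).resolve_left h3

/-- the inner product of the alternating sum of the permutation characters of the parabolic
subgroups with an irreducible character vanishing on the non-trivial elements of `U` is not
zero -/
theorem steinberg_inner_ne_zero [Fintype W] [ρ.IsIrreducible]
    (gen : S.H ≤ Subgroup.closure {g | ∃ i t, g = S.hh i t})
    (hvan : ∀ u ∈ S.U, u ≠ 1 → ρ.character u = 0)
    (I : Finset ℕ) (P : Finset ℕ → Subgroup G) (hP0 : P ∅ = S.B)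
    (hP : ∀ J ∈ I.powerset, J ≠ ∅ → S.U ≤ P J ∧ ∃ i, S.nn i ∈ P J)
    (St : G → ℂ) (hSt : St = fun g => ∑ J ∈ I.powerset,
      (-1 : ℂ) ^ J.card * Cfsg.fixedPointCharacter (P J) g) :
    Cfsg.classInner St ρ.character ≠ 0 := by
  have hmain := fun (x : Fin n → ℂ) (hx : S.Fixed ρ x) (i : Fin l) => S.main ρ hvan hx i
  have hH : ∀ x, S.Fixed ρ x → ∀ h ∈ S.H, ρ h x = x := fun x hx h hh =>
    S.fixed_torus ρ gen (fun x hx i t => (hmain x hx i).1 t) hx hh
  have e : St = ∑ J ∈ I.powerset, ((-1 : ℂ) ^ J.card) • Cfsg.fixedPointCharacter (P J) := by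
    rw [hSt]
    funext g
    rw [Finset.sum_apply]
    rfl
  rw [e, helper4.classInner_sum_left, Finset.sum_eq_single ∅]
  · rw [helper4.classInner_smul_left, Finset.card_empty, pow_zero, one_mul,
      classInner_fixedPoint, hP0]
    have h1 : av ρ S.B.subtype = av ρ S.U.subtype := LinearMap.ext (S.av_B_eq ρ hH)
    rw [h1, S.trace_av_U ρ hvan, Ne, map_eq_zero]
    have hn : (n : ℂ) ≠ 0 := natCast_ne_zero_of_irr ρ
    have hU : (Nat.card S.U : ℂ) ≠ 0 := by exact_mod_cast Nat.card_pos.ne'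
    exact div_ne_zero hn hU
  · intro J hJ hne
    obtain ⟨hUP, i, hi⟩ := hP J hJ hne
    have h1 : av ρ (P J).subtype = 0 :=
      LinearMap.ext (fun y => S.av_P_zero ρ (P J) hUP i hi (fun x hx => (hmain x hx i).2) y)
    rw [helper4.classInner_smul_left, classInner_fixedPoint, h1, map_zero, map_zero, mul_zero]
  · intro h
    exact absurd (Finset.empty_mem_powerset I) h

end HeckeSetup

end Cfsg.Agent.Lib.helper41
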