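import Mathlib
import Cfsg.Agent.Lib.helper41.DefZeroRep
import Cfsg.Agent.Lib.helper4.Regular
import Cfsg.Agent.Lib.helper4.CharDecomp

/-!
The Hecke algebra `e A e` of a subgroup `B` of a finite group `G` inside the group algebra `A`,
`e` the idempotent of `B`: the dimension of its centre and the rank of the map
`x ↦ e (∑ g x g⁻¹) e` on it are both the number of irreducible constituents of the permutation
character on the cosets of `B`.
-/

set_option autoImplicit false

namespace Cfsg.Agent.Lib.helper41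

open scoped ComplexConjugate

universe u

section HeckeCenter

variable {G : Type u} [Group G] [Fintype G]

/-- the idempotent of a subgroup in the group algebra -/
noncomputable def idem (B : Subgroup G) : MonoidAlgebra ℂ G :=
  (Nat.card B : ℂ)⁻¹ • @Finset.sum B _ _ (@Finset.univ B (Fintype.ofFinite B))
    (fun b => MonoidAlgebra.of ℂ G (b : G))

theorem idem_eq (B : Subgroup G) [Fintype B] :
    idem B = (Fintype.card B : ℂ)⁻¹ • ∑ b : B, MonoidAlgebra.of ℂ G (b : G) := by
  unfold idem
  rw [Nat.card_eq_fintype_card]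
  congr 1
  exact Finset.sum_congr (Finset.ext (fun _ => by simp)) (fun _ _ => rfl)

theorem card_sub_ne_zero (B : Subgroup G) [Fintype B] : (Fintype.card B : ℂ) ≠ 0 := by
  exact_mod_cast Fintype.card_ne_zero

theorem of_mul_idem (B : Subgroup G) {b : G} (hb : b ∈ B) :
    MonoidAlgebra.of ℂ G b * idem B = idem B := by
  classical
  haveI : Fintype B := Fintype.ofFinite _
  rw [idem_eq, mul_smul_comm, Finset.mul_sum]
  congr 1
  apply Fintype.sum_equiv (Equiv.mulLeft (⟨b, hb⟩ : B))
  intro x
  rw [← map_mul]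
  rfl

theorem idem_mul_of (B : Subgroup G) {b : G} (hb : b ∈ B) :
    idem B * MonoidAlgebra.of ℂ G b = idem B := by
  classical
  haveI : Fintype B := Fintype.ofFinite _
  rw [idem_eq, smul_mul_assoc, Finset.sum_mul]
  congr 1
  apply Fintype.sum_equiv (Equiv.mulRight (⟨b, hb⟩ : B))
  intro x
  rw [← map_mul]
  rfl

theorem idem_mul_idem (B : Subgroup G) : idem B * idem B = idem B := by
  classical
  haveI : Fintype B := Fintype.ofFinite _
  have h : ∀ b : B, MonoidAlgebra.of ℂ G (b : G) * idem B = idem B := fun b => of_mul_idem B b.2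
  nth_rewrite 1 [idem_eq B]
  rw [smul_mul_assoc, Finset.sum_mul, Finset.sum_congr rfl (fun b _ => h b), Finset.sum_const,
    Finset.card_univ, ← Nat.cast_smul_eq_nsmul ℂ, smul_smul, inv_mul_cancel₀ (card_sub_ne_zero B),
    one_smul]

theorem idem_mul_idem_mul (B : Subgroup G) (x : MonoidAlgebra ℂ G) :
    idem B * (idem B * x) = idem B * x := by
  rw [← mul_assoc, idem_mul_idem]

/-- the degree of a chosen representation affording an irreducible character -/
noncomputable def irrDim (χ : Cfsg.IrrCharacter G) : ℕ := Classical.choose χ.2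

/-- a chosen representation affording an irreducible character -/
noncomputable def irrRep (χ : Cfsg.IrrCharacter G) : Representation ℂ G (Fin (irrDim χ) → ℂ) :=
  Classical.choose (Classical.choose_spec χ.2)

theorem irrRep_irr (χ : Cfsg.IrrCharacter G) : (irrRep χ).IsIrreducible :=
  (Classical.choose_spec (Classical.choose_spec χ.2)).1

theorem irrRep_char (χ : Cfsg.IrrCharacter G) : (irrRep χ).character = (χ : G → ℂ) :=
  (Classical.choose_spec (Classical.choose_spec χ.2)).2

theorem irrDim_ne_zero (χ : Cfsg.IrrCharacter G) : (irrDim χ : ℂ) ≠ 0 := by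
  haveI := irrRep_irr χ
  have := helper4.nontrivial_of_isIrreducible (irrRep χ)
  have h := Module.finrank_pos (R := ℂ) (M := Fin (irrDim χ) → ℂ)
  rw [Module.finrank_fin_fun] at h
  exact_mod_cast h.ne'

/-- the algebra homomorphism of the chosen representation -/
noncomputable def irrHom (χ : Cfsg.IrrCharacter G) :
    MonoidAlgebra ℂ G →ₐ[ℂ] Module.End ℂ (Fin (irrDim χ) → ℂ) :=
  (irrRep χ).asAlgebraHom

theorem irrHom_of (χ : Cfsg.IrrCharacter G) (g : G) :
    irrHom χ (MonoidAlgebra.of ℂ G g) = irrRep χ g :=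
  Representation.asAlgebraHom_of _ g

theorem trace_irrHom_of (χ : Cfsg.IrrCharacter G) (g : G) :
    LinearMap.trace ℂ _ (irrHom χ (MonoidAlgebra.of ℂ G g)) = (χ : G → ℂ) g := by
  rw [irrHom_of, ← irrRep_char χ]
  rfl

/-- Fourier inversion -/
theorem fourier_coeff [Fintype (Cfsg.IrrCharacter G)] (y : MonoidAlgebra ℂ G) (g : G) :
    ∑ χ : Cfsg.IrrCharacter G, (χ : G → ℂ) 1 *
        LinearMap.trace ℂ _ (irrHom χ (y * MonoidAlgebra.of ℂ G g⁻¹)) =
      (Nat.card G : ℂ) * y.coeff g := by
  classical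
  refine MonoidAlgebra.induction_on (motive := fun y => ∑ χ : Cfsg.IrrCharacter G, (χ : G → ℂ) 1 *
        LinearMap.trace ℂ _ (irrHom χ (y * MonoidAlgebra.of ℂ G g⁻¹)) =
      (Nat.card G : ℂ) * y.coeff g) y ?_ ?_ ?_
  · intro h
    have h1 : ∀ χ : Cfsg.IrrCharacter G, (χ : G → ℂ) 1 *
        LinearMap.trace ℂ _ (irrHom χ (MonoidAlgebra.of ℂ G h * MonoidAlgebra.of ℂ G g⁻¹)) =
        (χ : G → ℂ) 1 * (χ : G → ℂ) (h * g⁻¹) := by
      intro χ
      rw [← map_mul, trace_irrHom_of]
    rw [Finset.sum_congr rfl (fun χ _ => h1 χ), helper4.sum_irr_degree_mul,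
      MonoidAlgebra.of_apply, MonoidAlgebra.coeff_single, Finsupp.single_apply]
    by_cases hg : h = g
    · subst hg
      simp
    · rw [if_neg (fun h' => hg (mul_inv_eq_one.mp h')), if_neg hg, mul_zero]
  · intro a b ha hb
    simp only [add_mul, map_add, mul_add, Finset.sum_add_distrib, MonoidAlgebra.coeff_add,
      Finsupp.add_apply]
    rw [ha, hb]
  · intro r a ha
    simp only [smul_mul_assoc, map_smul, smul_eq_mul, MonoidAlgebra.coeff_smul,
      Finsupp.smul_apply]
    rw [mul_left_comm, ← ha, Finset.mul_sum]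
    apply Finset.sum_congr rfl
    intro χ _
    ring

/-- an element killed by all the irreducible representations is zero -/
theorem eq_zero_of_irrHom (x : MonoidAlgebra ℂ G)
    (h : ∀ χ : Cfsg.IrrCharacter G, irrHom χ x = 0) : x = 0 := by
  classical
  haveI := Fintype.ofFinite (Cfsg.IrrCharacter G)
  rw [← MonoidAlgebra.coeff_eq_zero]
  ext g
  have h1 := fourier_coeff x g
  have h2 : ∑ χ : Cfsg.IrrCharacter G, (χ : G → ℂ) 1 *
      LinearMap.trace ℂ _ (irrHom χ (x * MonoidAlgebra.of ℂ G g⁻¹)) = 0 := by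
    apply Finset.sum_eq_zero
    intro χ _
    rw [map_mul, h χ, zero_mul, map_zero, mul_zero]
  rw [h2] at h1
  rcases mul_eq_zero.mp h1.symm with h3 | h3
  · exact absurd h3 helper4.card_ne_zero_complex
  · simpa using h3

/-- the sum of the conjugates of an element -/
noncomputable def conjSum (x : MonoidAlgebra ℂ G) : MonoidAlgebra ℂ G :=
  ∑ g : G, MonoidAlgebra.of ℂ G g * x * MonoidAlgebra.of ℂ G g⁻¹

theorem conjSum_add (x y : MonoidAlgebra ℂ G) : conjSum (x + y) = conjSum x + conjSum y := by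
  unfold conjSum
  simp only [mul_add, add_mul, Finset.sum_add_distrib]

theorem conjSum_smul (c : ℂ) (x : MonoidAlgebra ℂ G) : conjSum (c • x) = c • conjSum x := by
  unfold conjSum
  simp only [mul_smul_comm, smul_mul_assoc, Finset.smul_sum]

theorem of_mul_conjSum (x : MonoidAlgebra ℂ G) (h : G) :
    MonoidAlgebra.of ℂ G h * conjSum x = conjSum x * MonoidAlgebra.of ℂ G h := by
  unfold conjSum
  rw [Finset.mul_sum, Finset.sum_mul]
  apply Fintype.sum_equiv (Equiv.mulLeft h)
  intro g
  simp only [Equiv.coe_mulLeft, mul_inv_rev, map_mul, mul_assoc]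
  rw [← map_mul (MonoidAlgebra.of ℂ G) h⁻¹ h, inv_mul_cancel, map_one, mul_one]

theorem conjSum_comm (x y : MonoidAlgebra ℂ G) : y * conjSum x = conjSum x * y := by
  refine MonoidAlgebra.induction_on (motive := fun y => y * conjSum x = conjSum x * y) y ?_ ?_ ?_
  · intro h
    exact of_mul_conjSum x h
  · intro a b ha hb
    rw [add_mul, mul_add, ha, hb]
  · intro r a ha
    rw [smul_mul_assoc, mul_smul_comm, ha]

theorem irrHom_conjSum (χ : Cfsg.IrrCharacter G) (x : MonoidAlgebra ℂ G) :
    irrHom χ (conjSum x) = ((Nat.card G : ℂ) * LinearMap.trace ℂ _ (irrHom χ x) /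
      (irrDim χ : ℂ)) • (1 : Module.End ℂ (Fin (irrDim χ) → ℂ)) := by
  haveI := irrRep_irr χ
  obtain ⟨c, hc⟩ := helper4.exists_eq_smul_id_of_comm (irrRep χ) (irrHom χ (conjSum x))
    (fun g => by
      rw [← irrHom_of, ← Module.End.mul_eq_comp, ← Module.End.mul_eq_comp, ← map_mul, ← map_mul,
        of_mul_conjSum])
  have htr : LinearMap.trace ℂ _ (irrHom χ (conjSum x)) =
      (Nat.card G : ℂ) * LinearMap.trace ℂ _ (irrHom χ x) := by
    unfold conjSum
    rw [map_sum, map_sum]
    have h1 : ∀ g : G, LinearMap.trace ℂ _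
        (irrHom χ (MonoidAlgebra.of ℂ G g * x * MonoidAlgebra.of ℂ G g⁻¹)) =
        LinearMap.trace ℂ _ (irrHom χ x) := by
      intro g
      rw [map_mul, LinearMap.trace_mul_comm, ← map_mul, ← mul_assoc, ← map_mul, inv_mul_cancel,
        map_one, one_mul]
    rw [Finset.sum_congr rfl (fun g _ => h1 g), Finset.sum_const, Finset.card_univ,
      nsmul_eq_mul, Nat.card_eq_fintype_card]
  rw [hc, map_smul, smul_eq_mul, LinearMap.trace_id, Module.finrank_fin_fun] at htr
  rw [hc, ← htr, mul_div_assoc, div_self (irrDim_ne_zero χ), mul_one]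
  rfl

/-- the central element of an irreducible character -/
noncomputable def charElt (χ : Cfsg.IrrCharacter G) : MonoidAlgebra ℂ G :=
  ∑ g : G, conj ((χ : G → ℂ) g) • MonoidAlgebra.of ℂ G g

theorem irrHom_charElt (χ ψ : Cfsg.IrrCharacter G) :
    irrHom ψ (charElt χ) = if χ = ψ then ((Nat.card G : ℂ) / (irrDim ψ : ℂ)) •
      (1 : Module.End ℂ (Fin (irrDim ψ) → ℂ)) else 0 := by
  classical
  haveI := irrRep_irr ψ
  have h1 : irrHom ψ (charElt χ) =
      helper4.opSum (irrRep ψ) (fun g => conj ((χ : G → ℂ) g)) := by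
    unfold charElt helper4.opSum
    rw [map_sum]
    apply Finset.sum_congr rfl
    intro g _
    rw [map_smul, irrHom_of]
  have h2 : ∑ g, conj ((χ : G → ℂ) g) * (ψ : G → ℂ) g =
      (Nat.card G : ℂ) * Cfsg.classInner (ψ : G → ℂ) (χ : G → ℂ) := by
    unfold Cfsg.classInner
    rw [← mul_assoc, mul_inv_cancel₀ helper4.card_ne_zero_complex, one_mul]
    exact Finset.sum_congr rfl (fun g _ => mul_comm _ _)
  rw [h1, helper4.opSum_eq_of_irr (irrRep ψ)
    (helper4.isClassFunction_conj (helper4.isClassFunction_of_isIrrCharacter χ.2)), irrRep_char,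
    Module.finrank_fin_fun, h2, helper4.classInner_irr ψ.2 χ.2]
  by_cases h : χ = ψ
  · subst h
    rw [if_pos rfl, if_pos rfl, mul_one]
    rfl
  · rw [if_neg h, if_neg (fun h' => h (Subtype.ext h'.symm)), mul_zero, zero_div, zero_smul]

/-- the Hecke algebra `e A e` of a subgroup -/
noncomputable def heckeE (B : Subgroup G) : Submodule ℂ (MonoidAlgebra ℂ G) where
  carrier := {x | idem B * x * idem B = x}
  add_mem' := by
    intro a b (ha : idem B * a * idem B = a) (hb : idem B * b * idem B = b)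
    show idem B * (a + b) * idem B = a + b
    rw [mul_add, add_mul, ha, hb]
  zero_mem' := by
    show idem B * 0 * idem B = 0
    rw [mul_zero, zero_mul]
  smul_mem' := by
    intro c x (hx : idem B * x * idem B = x)
    show idem B * (c • x) * idem B = c • x
    rw [mul_smul_comm, smul_mul_assoc, hx]

theorem mem_heckeE (B : Subgroup G) (x : MonoidAlgebra ℂ G) :
    x ∈ heckeE B ↔ idem B * x * idem B = x := Iff.rfl

theorem idem_mul_of_mem {B : Subgroup G} {x : MonoidAlgebra ℂ G} (hx : x ∈ heckeE B) :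
    idem B * x = x := by
  have h : idem B * x * idem B = x := hx
  rw [← h, ← mul_assoc, ← mul_assoc, idem_mul_idem]

theorem mul_idem_of_mem {B : Subgroup G} {x : MonoidAlgebra ℂ G} (hx : x ∈ heckeE B) :
    x * idem B = x := by
  have h : idem B * x * idem B = x := hx
  rw [← h, mul_assoc, idem_mul_idem]

theorem mem_heckeE_mul (B : Subgroup G) (x : MonoidAlgebra ℂ G) :
    idem B * x * idem B ∈ heckeE B := by
  show idem B * (idem B * x * idem B) * idem B = idem B * x * idem B
  simp only [mul_assoc, idem_mul_idem, idem_mul_idem_mul]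

/-- the centre of the Hecke algebra -/
noncomputable def heckeCenter (B : Subgroup G) : Submodule ℂ (MonoidAlgebra ℂ G) where
  carrier := {x | x ∈ heckeE B ∧ ∀ y ∈ heckeE B, x * y = y * x}
  add_mem' := by
    intro a b ha hb
    exact ⟨(heckeE B).add_mem ha.1 hb.1, fun y hy => by rw [add_mul, mul_add, ha.2 y hy, hb.2 y hy]⟩
  zero_mem' := ⟨(heckeE B).zero_mem, fun y _ => by rw [zero_mul, mul_zero]⟩
  smul_mem' := by
    intro c x hx
    exact ⟨(heckeE B).smul_mem c hx.1, fun y hy => by rw [smul_mul_assoc, mul_smul_comm, hx.2 y hy]⟩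

theorem mem_heckeCenter (B : Subgroup G) (x : MonoidAlgebra ℂ G) :
    x ∈ heckeCenter B ↔ x ∈ heckeE B ∧ ∀ y ∈ heckeE B, x * y = y * x := Iff.rfl

/-- the map `x ↦ e (∑ g x g⁻¹) e` -/
noncomputable def heckeJmap (B : Subgroup G) : MonoidAlgebra ℂ G →ₗ[ℂ] MonoidAlgebra ℂ G where
  toFun x := idem B * conjSum x * idem B
  map_add' x y := by rw [conjSum_add, mul_add, add_mul]
  map_smul' c x := by
    rw [conjSum_smul, mul_smul_comm, smul_mul_assoc]
    rfl

theorem heckeJmap_apply (B : Subgroup G) (x : MonoidAlgebra ℂ G) :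
    heckeJmap B x = idem B * conjSum x * idem B := rfl

/-- the image of the Hecke algebra under `x ↦ e (∑ g x g⁻¹) e` -/
noncomputable def heckeJ (B : Subgroup G) : Submodule ℂ (MonoidAlgebra ℂ G) :=
  (heckeE B).map (heckeJmap B)

variable (B : Subgroup G)

/-- the projection of an irreducible character -/
noncomputable def irrProj (χ : Cfsg.IrrCharacter G) : Module.End ℂ (Fin (irrDim χ) → ℂ) :=
  irrHom χ (idem B)

theorem irrProj_sq (χ : Cfsg.IrrCharacter G) : irrProj B χ * irrProj B χ = irrProj B χ := by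
  unfold irrProj
  rw [← map_mul, idem_mul_idem]

theorem irrHom_heckeE {x : MonoidAlgebra ℂ G} (hx : x ∈ heckeE B) (χ : Cfsg.IrrCharacter G) :
    irrHom χ x = irrProj B χ * irrHom χ x * irrProj B χ := by
  have h : idem B * x * idem B = x := hx
  conv_lhs => rw [← h]
  rw [map_mul, map_mul]
  rfl

theorem irrHom_mul_irrProj {x : MonoidAlgebra ℂ G} (hx : x ∈ heckeE B) (χ : Cfsg.IrrCharacter G) :
    irrHom χ x * irrProj B χ = irrHom χ x := by
  unfold irrProj
  rw [← map_mul, mul_idem_of_mem hx]

theorem irrHom_Jmap (x : MonoidAlgebra ℂ G) (χ : Cfsg.IrrCharacter G) :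
    irrHom χ (heckeJmap B x) = ((Nat.card G : ℂ) * LinearMap.trace ℂ _ (irrHom χ x) /
      (irrDim χ : ℂ)) • irrProj B χ := by
  rw [heckeJmap_apply, map_mul, map_mul, irrHom_conjSum, mul_smul_comm, mul_one, smul_mul_assoc]
  congr 1
  exact irrProj_sq B χ

/-- the element `e E_χ e` -/
noncomputable def heckeElt (χ : Cfsg.IrrCharacter G) : MonoidAlgebra ℂ G :=
  idem B * charElt χ * idem B

theorem heckeElt_mem (χ : Cfsg.IrrCharacter G) : heckeElt B χ ∈ heckeE B :=
  mem_heckeE_mul B _

theorem irrHom_heckeElt (χ ψ : Cfsg.IrrCharacter G) :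
    irrHom ψ (heckeElt B χ) = if χ = ψ then ((Nat.card G : ℂ) / (irrDim ψ : ℂ)) • irrProj B ψ
      else 0 := by
  unfold heckeElt
  rw [map_mul, map_mul, irrHom_charElt]
  split_ifs with h
  · rw [mul_smul_comm, mul_one, smul_mul_assoc]
    congr 1
    exact irrProj_sq B ψ
  · rw [mul_zero, zero_mul]

theorem trace_irrProj_ne_zero (χ : Cfsg.IrrCharacter G) (h : irrProj B χ ≠ 0) :
    LinearMap.trace ℂ _ (irrProj B χ) ≠ 0 := by
  intro h0
  have hid : IsIdempotentElem (irrProj B χ) := irrProj_sq B χ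
  exact h ((LinearMap.IsIdempotentElem.trace_eq_zero_iff hid).mp h0)

/-- the map `x ↦ e (∑ g x g⁻¹) e` on the centre -/
theorem heckeJmap_center {z : MonoidAlgebra ℂ G} (hz : z ∈ heckeCenter B) :
    heckeJmap B z = z * heckeJmap B (idem B) := by
  have hz1 : idem B * z * idem B = z := hz.1
  have hterm : ∀ g : G, idem B * (MonoidAlgebra.of ℂ G g * z * MonoidAlgebra.of ℂ G g⁻¹) * idem B =
      z * (idem B * (MonoidAlgebra.of ℂ G g * idem B * MonoidAlgebra.of ℂ G g⁻¹) * idem B) := by
    intro g
    have ha := hz.2 _ (mem_heckeE_mul B (MonoidAlgebra.of ℂ G g))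
    calc idem B * (MonoidAlgebra.of ℂ G g * z * MonoidAlgebra.of ℂ G g⁻¹) * idem B
        = idem B * (MonoidAlgebra.of ℂ G g * (idem B * z * idem B) *
            MonoidAlgebra.of ℂ G g⁻¹) * idem B := by rw [hz1]
      _ = (idem B * MonoidAlgebra.of ℂ G g * idem B) * z *
            (idem B * MonoidAlgebra.of ℂ G g⁻¹ * idem B) := by simp only [mul_assoc]
      _ = z * (idem B * MonoidAlgebra.of ℂ G g * idem B) *
            (idem B * MonoidAlgebra.of ℂ G g⁻¹ * idem B) := by rw [ha]
      _ = z * (idem B * (MonoidAlgebra.of ℂ G g * idem B * MonoidAlgebra.of ℂ G g⁻¹) *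
            idem B) := by simp only [mul_assoc, idem_mul_idem_mul]
  rw [heckeJmap_apply, heckeJmap_apply]
  unfold conjSum
  rw [Finset.mul_sum, Finset.sum_mul, Finset.mul_sum, Finset.sum_mul, Finset.mul_sum]
  exact Finset.sum_congr rfl (fun g _ => hterm g)

/-- Schur's lemma for the Hecke algebra -/
theorem irrHom_center {z : MonoidAlgebra ℂ G} (hz : z ∈ heckeCenter B) (χ : Cfsg.IrrCharacter G) :
    ∃ c : ℂ, irrHom χ z = c • irrProj B χ := by
  by_cases hP : irrProj B χ = 0
  · refine ⟨0, ?_⟩
    rw [irrHom_heckeE B hz.1 χ, hP, zero_mul, zero_mul, zero_smul]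
  · have h1 := congrArg (irrHom χ) (heckeJmap_center B hz)
    rw [irrHom_Jmap, map_mul, irrHom_Jmap, mul_smul_comm, irrHom_mul_irrProj B hz.1] at h1
    have htr := trace_irrProj_ne_zero B χ hP
    have hG : (Nat.card G : ℂ) ≠ 0 := helper4.card_ne_zero_complex
    have hd := irrDim_ne_zero χ
    have hk : (Nat.card G : ℂ) * LinearMap.trace ℂ _ (irrHom χ (idem B)) / (irrDim χ : ℂ) ≠ 0 :=
      div_ne_zero (mul_ne_zero hG htr) hd
    refine ⟨((Nat.card G : ℂ) * LinearMap.trace ℂ _ (irrHom χ (idem B)) / (irrDim χ : ℂ))⁻¹ *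
      ((Nat.card G : ℂ) * LinearMap.trace ℂ _ (irrHom χ z) / (irrDim χ : ℂ)), ?_⟩
    rw [← smul_smul, h1, smul_smul, inv_mul_cancel₀ hk, one_smul]

/-- the constituents of the permutation character -/
abbrev IrrOf : Type u := {χ : Cfsg.IrrCharacter G // irrProj B χ ≠ 0}

theorem heckeCenter_le_span :
    heckeCenter B ≤ Submodule.span ℂ (Set.range (fun χ : IrrOf B => heckeElt B χ.1)) := by
  classical
  haveI := Fintype.ofFinite (Cfsg.IrrCharacter G)
  haveI := Fintype.ofFinite (IrrOf B)
  intro z hz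
  have hc := fun χ => irrHom_center B hz χ
  choose c hc using hc
  have hG : (Nat.card G : ℂ) ≠ 0 := helper4.card_ne_zero_complex
  have hzeq : z = ∑ χ : IrrOf B, (c χ.1 * (irrDim χ.1 : ℂ) / (Nat.card G : ℂ)) • heckeElt B χ.1 := by
    rw [← sub_eq_zero]
    apply eq_zero_of_irrHom
    intro ψ
    rw [map_sub, map_sum, hc ψ]
    simp only [map_smul, irrHom_heckeElt]
    by_cases hψ : irrProj B ψ = 0
    · rw [hψ, smul_zero, zero_sub, neg_eq_zero]
      apply Finset.sum_eq_zero
      intro χ _
      split_ifs <;> simp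
    · rw [Finset.sum_eq_single (⟨ψ, hψ⟩ : IrrOf B)]
      · rw [if_pos rfl, smul_smul]
        have hd := irrDim_ne_zero ψ
        have e : c ψ * (irrDim ψ : ℂ) / (Nat.card G : ℂ) * ((Nat.card G : ℂ) / (irrDim ψ : ℂ)) =
            c ψ := by
          field_simp
        rw [e, sub_self]
      · intro χ _ hne
        rw [if_neg (fun h => hne (Subtype.ext h)), smul_zero]
      · intro h
        exact absurd (Finset.mem_univ _) h
  rw [hzeq]
  exact Submodule.sum_mem _ (fun χ _ => Submodule.smul_mem _ _ (Submodule.subset_span ⟨χ, rfl⟩))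

theorem heckeJ_le_center : heckeJ B ≤ heckeCenter B := by
  rintro _ ⟨x, -, rfl⟩
  refine ⟨mem_heckeE_mul B _, ?_⟩
  intro y hy
  rw [heckeJmap_apply]
  calc idem B * conjSum x * idem B * y
      = idem B * conjSum x * (idem B * y) := by simp only [mul_assoc]
    _ = idem B * (conjSum x * y) := by rw [idem_mul_of_mem hy, mul_assoc]
    _ = idem B * (y * conjSum x) := by rw [conjSum_comm]
    _ = y * conjSum x := by rw [← mul_assoc, idem_mul_of_mem hy]
    _ = conjSum x * (y * idem B) := by rw [mul_idem_of_mem hy, conjSum_comm]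
    _ = (y * idem B) * conjSum x * idem B := by
        rw [← mul_assoc, ← conjSum_comm, mul_idem_of_mem hy, mul_assoc, ← conjSum_comm,
          ← mul_assoc, mul_idem_of_mem hy]
    _ = y * (idem B * conjSum x * idem B) := by simp only [mul_assoc]

theorem linearIndependent_Jmap :
    LinearIndependent ℂ (fun χ : IrrOf B => heckeJmap B (heckeElt B χ.1)) := by
  classical
  rw [linearIndependent_iff']
  intro s l hsum χ0 hχ0
  have h1 := congrArg (irrHom χ0.1) hsum
  rw [map_sum, map_zero] at h1
  simp only [map_smul, irrHom_Jmap, irrHom_heckeElt] at h1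
  rw [Finset.sum_eq_single χ0] at h1
  · rw [if_pos rfl, map_smul, smul_eq_mul, smul_smul] at h1
    have hG : (Nat.card G : ℂ) ≠ 0 := helper4.card_ne_zero_complex
    have hd := irrDim_ne_zero χ0.1
    have htr := trace_irrProj_ne_zero B χ0.1 χ0.2
    rcases smul_eq_zero.mp h1 with h2 | h2
    · rcases mul_eq_zero.mp h2 with h3 | h3
      · exact h3
      · exfalso
        have : (Nat.card G : ℂ) * ((Nat.card G : ℂ) / (irrDim χ0.1 : ℂ) *
            LinearMap.trace ℂ _ (irrProj B χ0.1)) / (irrDim χ0.1 : ℂ) ≠ 0 :=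
          div_ne_zero (mul_ne_zero hG (mul_ne_zero (div_ne_zero hG hd) htr)) hd
        exact this h3
    · exact absurd h2 χ0.2
  · intro χ _ hne
    rw [if_neg (fun h => hne (Subtype.ext h)), map_zero, mul_zero, zero_div, zero_smul, smul_zero]
  · intro h
    exact absurd hχ0 h

/-- the dimensions of the centre of the Hecke algebra and of the image of
`x ↦ e (∑ g x g⁻¹) e` -/
theorem finrank_hecke :
    Module.finrank ℂ (heckeCenter B) = Nat.card (IrrOf B) ∧
      Module.finrank ℂ (heckeJ B) = Nat.card (IrrOf B) := by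
  classical
  haveI := Fintype.ofFinite (Cfsg.IrrCharacter G)
  haveI := Fintype.ofFinite (IrrOf B)
  have h1 := finrank_span_eq_card (linearIndependent_Jmap B)
  have h2 : Submodule.span ℂ (Set.range (fun χ : IrrOf B => heckeJmap B (heckeElt B χ.1))) ≤
      heckeJ B := by
    rw [Submodule.span_le]
    rintro _ ⟨χ, rfl⟩
    exact Submodule.mem_map_of_mem (heckeElt_mem B χ.1)
  have h3 := Submodule.finrank_mono h2
  have h4 := Submodule.finrank_mono (heckeJ_le_center B)
  have h5 := Submodule.finrank_mono (heckeCenter_le_span B)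
  have h6 : Module.finrank ℂ (Submodule.span ℂ (Set.range (fun χ : IrrOf B => heckeElt B χ.1))) ≤
      Fintype.card (IrrOf B) := finrank_range_le_card (R := ℂ) (fun χ : IrrOf B => heckeElt B χ.1)
  rw [Nat.card_eq_fintype_card]
  constructor <;> omega

theorem irrProj_eq_av (χ : Cfsg.IrrCharacter G) : irrProj B χ = av (irrRep χ) B.subtype := by
  classical
  haveI : Fintype B := Fintype.ofFinite _
  unfold irrProj
  rw [idem_eq, av_eq, map_smul, map_sum]
  congr 1
  apply Finset.sum_congr rfl
  intro b _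
  rw [irrHom_of]
  rfl

/-- a permutation character on cosets is a character -/
theorem isCharacter_fixedPoint_gen : Cfsg.IsCharacter G (Cfsg.fixedPointCharacter B) := by
  have h : Cfsg.fixedPointCharacter B = Cfsg.indFun B (fun _ => 1) := by
    funext g
    rw [helper19.indFun_one_eq]
    rfl
  rw [h]
  exact helper4.isCharacter_indFun B helper4.isCharacter_one

/-- the constituents of the permutation character are the characters with a nonzero projection -/
theorem irrProj_ne_zero_iff (χ : Cfsg.IrrCharacter G) :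
    irrProj B χ ≠ 0 ↔ ∃ φ : G → ℂ, Cfsg.IsCharacter G φ ∧
      Cfsg.fixedPointCharacter B = (χ : G → ℂ) + φ := by
  classical
  have hin : Cfsg.classInner (Cfsg.fixedPointCharacter B) (χ : G → ℂ) =
      conj (LinearMap.trace ℂ _ (irrProj B χ)) := by
    rw [irrProj_eq_av, ← classInner_fixedPoint (irrRep χ) B, irrRep_char]
  have hπ : Cfsg.IsCharacter G (Cfsg.fixedPointCharacter B) := isCharacter_fixedPoint_gen B
  constructor
  · intro hP
    have htr := trace_irrProj_ne_zero B χ hP
    obtain ⟨m, hm⟩ := helper4.exists_nat_classInner_irr hπ χ.2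
    have hm0 : m ≠ 0 := by
      intro h0
      rw [h0, Nat.cast_zero, hin] at hm
      exact htr ((map_eq_zero _).mp hm)
    refine ⟨Cfsg.fixedPointCharacter B - (χ : G → ℂ), ?_, (add_sub_cancel _ _).symm⟩
    rw [helper4.isCharacter_iff_nat_classInner]
    refine ⟨helper4.isClassFunction_sub (helper4.isClassFunction_of_isCharacter hπ)
      (helper4.isClassFunction_of_isIrrCharacter χ.2), ?_⟩
    intro ψ
    rw [helper4.classInner_sub_left]
    by_cases h : χ = ψ
    · subst h
      rw [hm, helper4.classInner_irr_self χ.2]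
      exact ⟨m - 1, by rw [Nat.cast_sub (Nat.one_le_iff_ne_zero.mpr hm0), Nat.cast_one]⟩
    · obtain ⟨k, hk⟩ := helper4.exists_nat_classInner_irr hπ ψ.2
      rw [hk, helper4.classInner_irr_ne χ.2 ψ.2 (fun h' => h (Subtype.ext h')), sub_zero]
      exact ⟨k, rfl⟩
  · rintro ⟨φ, hφ, hsum⟩ hP
    have h1 : Cfsg.classInner (Cfsg.fixedPointCharacter B) (χ : G → ℂ) = 0 := by
      rw [hin, hP, map_zero, map_zero]
    rw [hsum, helper4.classInner_add_left, helper4.classInner_irr_self χ.2] at h1
    obtain ⟨k, hk⟩ := helper4.exists_nat_classInner_irr hφ χ.2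
    rw [hk] at h1
    have h2 : ((1 + k : ℕ) : ℂ) = 0 := by
      push_cast
      exact h1
    exact absurd (Nat.cast_eq_zero.mp h2) (by omega)

/-- the number of constituents of the permutation character -/
theorem card_constituents :
    Nat.card {χ : Cfsg.IrrCharacter G // ∃ φ : G → ℂ, Cfsg.IsCharacter G φ ∧
      Cfsg.fixedPointCharacter B = (χ : G → ℂ) + φ} = Nat.card (IrrOf B) :=
  Nat.card_congr (Equiv.subtypeEquivRight (fun χ => (irrProj_ne_zero_iff B χ).symm))

end HeckeCenter

end Cfsg.Agent.Lib.helper41
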