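import Mathlib

/-!
Ranks of matrices of polynomials: the rank of the value at a point is attained at all but finitely
many points, and the resulting comparison between the values at the points of an infinite set.
-/

set_option autoImplicit false

namespace Cfsg.Agent.Lib.helper41

open Polynomial Matrix

section GenericRank

variable {m n : Type} [Fintype m] [Fintype n] [DecidableEq m] [DecidableEq n]

/-- the value of a matrix of polynomials at a point -/
noncomputable def evalMat (M : Matrix m n ℂ[X]) (t : ℂ) : Matrix m n ℂ :=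
  M.map (Polynomial.eval t)

theorem evalMat_apply (M : Matrix m n ℂ[X]) (t : ℂ) (i : m) (j : n) :
    evalMat M t i j = (M i j).eval t := rfl

theorem evalMat_mul {k : Type} [Fintype k] (M : Matrix m k ℂ[X]) (N : Matrix k n ℂ[X]) (t : ℂ) :
    evalMat (M * N) t = evalMat M t * evalMat N t := by
  ext i j
  simp only [evalMat_apply, Matrix.mul_apply, Polynomial.eval_finsetSum, Polynomial.eval_mul]

theorem evalMat_one (t : ℂ) : evalMat (1 : Matrix n n ℂ[X]) t = 1 := by
  ext i j
  simp only [evalMat_apply, Matrix.one_apply]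
  split_ifs <;> simp

theorem evalMat_sum {ι : Type} (s : Finset ι) (f : ι → Matrix m n ℂ[X]) (t : ℂ) :
    evalMat (∑ i ∈ s, f i) t = ∑ i ∈ s, evalMat (f i) t := by
  ext i j
  simp only [evalMat_apply, Matrix.sum_apply, Polynomial.eval_finsetSum]

theorem evalMat_smul (p : ℂ[X]) (M : Matrix m n ℂ[X]) (t : ℂ) :
    evalMat (p • M) t = p.eval t • evalMat M t := by
  ext i j
  simp only [evalMat_apply, Matrix.smul_apply, smul_eq_mul, Polynomial.eval_mul]

theorem evalMat_map_C (A : Matrix m n ℂ) (t : ℂ) : evalMat (A.map Polynomial.C) t = A := by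
  ext i j
  simp only [evalMat_apply, Matrix.map_apply, Polynomial.eval_C]

/-- a matrix of rank `r` has an invertible `r × r` compression -/
theorem exists_rank_witness (M : Matrix m n ℂ) :
    ∃ (A : Matrix (Fin M.rank) m ℂ) (B : Matrix n (Fin M.rank) ℂ), A * M * B = 1 := by
  classical
  set f := M.mulVecLin with hf
  have hr : Module.finrank ℂ (LinearMap.range f) = M.rank := rfl
  let b := Module.finBasisOfFinrankEq ℂ (LinearMap.range f) hr
  have hx : ∀ j, ∃ x : n → ℂ, f x = (b j : m → ℂ) := fun j => LinearMap.mem_range.mp (b j).2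
  choose x hx using hx
  obtain ⟨p, hp⟩ := (LinearMap.range f).subtype.exists_leftInverse_of_injective
    (Submodule.ker_subtype _)
  refine ⟨LinearMap.toMatrix' (b.equivFun.toLinearMap ∘ₗ p), Matrix.of (fun i j => x j i), ?_⟩
  have key : ∀ j, (LinearMap.toMatrix' (b.equivFun.toLinearMap ∘ₗ p) * M *
      Matrix.of (fun i j => x j i)) *ᵥ Pi.single j 1 = Pi.single j 1 := by
    intro j
    rw [← Matrix.mulVec_mulVec, ← Matrix.mulVec_mulVec]
    have h1 : (Matrix.of (fun i j => x j i) : Matrix n (Fin M.rank) ℂ) *ᵥ Pi.single j 1 = x j := by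
      ext i
      simp [Matrix.mulVec_single_one]
    have h2 : M *ᵥ x j = (b j : m → ℂ) := hx j
    rw [h1, h2, ← Matrix.toLin'_apply, Matrix.toLin'_toMatrix']
    have h3 : p (b j : m → ℂ) = b j := by
      have := LinearMap.congr_fun hp (b j)
      simpa using this
    rw [LinearMap.comp_apply, h3]
    ext i
    simp [Pi.single_apply, eq_comm]
  ext i j
  have := congrFun (key j) i
  rw [Matrix.mulVec_single_one] at this
  rw [Matrix.one_apply]
  simpa [Pi.single_apply] using this

/-- the rank at a point is attained at all but finitely many points -/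
theorem rank_generic (M : Matrix m n ℂ[X]) (t0 : ℂ) :
    {t : ℂ | (evalMat M t).rank < (evalMat M t0).rank}.Finite := by
  classical
  obtain ⟨A, B, hAB⟩ := exists_rank_witness (evalMat M t0)
  set P : Matrix (Fin (evalMat M t0).rank) (Fin (evalMat M t0).rank) ℂ[X] :=
    A.map Polynomial.C * M * B.map Polynomial.C with hP
  have hev : ∀ t, P.det.eval t = (A * evalMat M t * B).det := by
    intro t
    have h1 := RingHom.map_det (Polynomial.evalRingHom t) P
    rw [Polynomial.coe_evalRingHom] at h1
    rw [h1]
    congr 1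
    have h2 : (Polynomial.evalRingHom t).mapMatrix P = evalMat P t := rfl
    rw [h2, hP, evalMat_mul, evalMat_mul, evalMat_map_C, evalMat_map_C]
  have hne : P.det ≠ 0 := by
    intro h0
    have := hev t0
    rw [h0, hAB, Matrix.det_one, Polynomial.eval_zero] at this
    exact zero_ne_one this
  apply (Polynomial.finite_setOfPred_isRoot hne).subset
  intro t ht
  by_contra hroot
  have hdet : (A * evalMat M t * B).det ≠ 0 := by
    rw [← hev t]
    exact hroot
  have hunit : IsUnit (A * evalMat M t * B) :=
    (Matrix.isUnit_iff_isUnit_det _).mpr (isUnit_iff_ne_zero.mpr hdet)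
  have h1 := Matrix.rank_of_isUnit _ hunit
  rw [Fintype.card_fin] at h1
  have h2 := Matrix.rank_mul_le_left (A * evalMat M t) B
  have h3 := Matrix.rank_mul_le_right A (evalMat M t)
  have ht' : (evalMat M t).rank < (evalMat M t0).rank := ht
  omega

/-- if the ranks of two matrices of polynomials add up to the width at the points of an infinite
set and at `1`, then the ranks at the points of the set are those at `1` -/
theorem rank_squeeze {w : Type} [Fintype w] [DecidableEq w] (Dm : Matrix m w ℂ[X])
    (Im : Matrix w w ℂ[X]) (c : ℕ) (S : Set ℂ) (hS : S.Infinite)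
    (h : ∀ u ∈ S, (evalMat Im u).rank + (evalMat Dm u).rank = Fintype.card w)
    (hI : (evalMat Im 1).rank = c) (hD : (evalMat Dm 1).rank + c = Fintype.card w) :
    ∀ u ∈ S, (evalMat Dm u).rank + c = Fintype.card w := by
  intro u hu
  have hfin : ({t : ℂ | (evalMat Im t).rank < (evalMat Im 1).rank} ∪
      {t : ℂ | (evalMat Dm t).rank < (evalMat Dm 1).rank} ∪
      {t : ℂ | (evalMat Im t).rank < (evalMat Im u).rank} ∪
      {t : ℂ | (evalMat Dm t).rank < (evalMat Dm u).rank}).Finite :=
    (((rank_generic Im 1).union (rank_generic Dm 1)).union (rank_generic Im u)).union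
      (rank_generic Dm u)
  obtain ⟨u', hu'S, hu'⟩ := (hS.sdiff hfin).nonempty
  simp only [Set.mem_union, Set.mem_setOf_eq, not_or, not_lt] at hu'
  obtain ⟨⟨⟨h1, h2⟩, h3⟩, h4⟩ := hu'
  have h5 := h u' hu'S
  have h6 := h u hu
  omega

end GenericRank

end Cfsg.Agent.Lib.helper41
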