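import Mathlib
import Cfsg.Agent.Lib.helper41.HeckeRank

/-!
The matrices of polynomials of the generic Hecke algebra of a finite Coxeter group (the left and
right multiplications by the generators, the commutators with the generators, and the symmetrising
map), and their values at `1`: the kernel of the commutators and the range of the symmetrising map
are the class functions of the group.
-/

set_option autoImplicit false

namespace Cfsg.Agent.Lib.helper41

open Polynomial Matrix

section CoxMat

variable {ι : Type} {W : Type} [Group W] [Fintype W] [DecidableEq W] {M : CoxeterMatrix ι}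
  (cs : CoxeterSystem M W)

/-- left multiplication by the generator of a simple reflection -/
noncomputable def LP (i : ι) : Matrix W W ℂ[X] := fun v w =>
  if cs.length (cs.simple i * w) = cs.length w + 1 then (if v = cs.simple i * w then 1 else 0)
  else X * (if v = cs.simple i * w then 1 else 0) + (1 - X) * (if v = w then 1 else 0)

/-- right multiplication by the generator of a simple reflection -/
noncomputable def RP (i : ι) : Matrix W W ℂ[X] := fun v w =>
  if cs.length (w * cs.simple i) = cs.length w + 1 then (if v = w * cs.simple i then 1 else 0)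
  else X * (if v = w * cs.simple i then 1 else 0) + (1 - X) * (if v = w then 1 else 0)

/-- the commutators with the generators -/
noncomputable def DP : Matrix (ι × W) W ℂ[X] := fun p w => LP cs p.1 p.2 w - RP cs p.1 p.2 w

/-- left multiplication by the product of the generators of a word -/
noncomputable def LPw (ω : List ι) : Matrix W W ℂ[X] := (ω.map (LP cs)).prod

/-- right multiplication by the product of the generators of the reversed word -/
noncomputable def RPw (ω : List ι) : Matrix W W ℂ[X] := (ω.map (RP cs)).prod

/-- a chosen reduced word -/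
noncomputable def redWord (w : W) : List ι := Classical.choose (cs.exists_isReduced w)

theorem redWord_spec (w : W) : cs.IsReduced (redWord cs w) ∧ w = cs.wordProd (redWord cs w) :=
  Classical.choose_spec (cs.exists_isReduced w)

/-- the bound of the lengths -/
noncomputable def maxLen : ℕ := Finset.univ.sup cs.length

theorem length_le_maxLen (w : W) : cs.length w ≤ maxLen cs := Finset.le_sup (Finset.mem_univ w)

/-- the symmetrising map -/
noncomputable def IP : Matrix W W ℂ[X] :=
  ∑ w : W, (X : ℂ[X]) ^ (maxLen cs - cs.length w) • (RPw cs (redWord cs w) * LPw cs (redWord cs w))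

theorem evalMat_LP (i : ι) (u : ℂ) (v w : W) :
    evalMat (LP cs i) u v w = if cs.length (cs.simple i * w) = cs.length w + 1 then
      (if v = cs.simple i * w then 1 else 0)
      else u * (if v = cs.simple i * w then 1 else 0) + (1 - u) * (if v = w then 1 else 0) := by
  rw [evalMat_apply]
  unfold LP
  split_ifs <;> simp

theorem evalMat_RP (i : ι) (u : ℂ) (v w : W) :
    evalMat (RP cs i) u v w = if cs.length (w * cs.simple i) = cs.length w + 1 then
      (if v = w * cs.simple i then 1 else 0)
      else u * (if v = w * cs.simple i then 1 else 0) + (1 - u) * (if v = w then 1 else 0) := by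
  rw [evalMat_apply]
  unfold RP
  split_ifs <;> simp

theorem DP_mulVec [Fintype ι] [DecidableEq ι] (u : ℂ) (c : W → ℂ) (i : ι) (v : W) :
    (evalMat (DP cs) u *ᵥ c) (i, v) =
      (evalMat (LP cs i) u *ᵥ c) v - (evalMat (RP cs i) u *ᵥ c) v := by
  simp only [Matrix.mulVec, dotProduct, evalMat_apply, DP, Polynomial.eval_sub, sub_mul,
    Finset.sum_sub_distrib]

theorem LPw_cons (i : ι) (ω : List ι) : LPw cs (i :: ω) = LP cs i * LPw cs ω := by
  simp [LPw]

theorem RPw_cons (i : ι) (ω : List ι) : RPw cs (i :: ω) = RP cs i * RPw cs ω := by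
  simp [RPw]

theorem LPw_nil : LPw cs ([] : List ι) = 1 := by
  simp [LPw]

theorem RPw_nil : RPw cs ([] : List ι) = 1 := by
  simp [RPw]

theorem LP_one_mulVec (i : ι) (c : W → ℂ) :
    evalMat (LP cs i) 1 *ᵥ c = fun v => c (cs.simple i * v) := by
  ext v
  have h : ∀ w, evalMat (LP cs i) 1 v w = if v = cs.simple i * w then 1 else 0 := by
    intro w
    rw [evalMat_LP]
    split_ifs <;> simp
  simp only [Matrix.mulVec, dotProduct, h]
  rw [Finset.sum_eq_single (cs.simple i * v)]
  · rw [if_pos (by rw [cs.simple_mul_simple_cancel_left]), one_mul]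
  · intro w _ hne
    rw [if_neg, zero_mul]
    intro h'
    apply hne
    rw [h', cs.simple_mul_simple_cancel_left]
  · intro h'
    exact absurd (Finset.mem_univ _) h'

theorem RP_one_mulVec (i : ι) (c : W → ℂ) :
    evalMat (RP cs i) 1 *ᵥ c = fun v => c (v * cs.simple i) := by
  ext v
  have h : ∀ w, evalMat (RP cs i) 1 v w = if v = w * cs.simple i then 1 else 0 := by
    intro w
    rw [evalMat_RP]
    split_ifs <;> simp
  simp only [Matrix.mulVec, dotProduct, h]
  rw [Finset.sum_eq_single (v * cs.simple i)]
  · rw [if_pos (by rw [cs.simple_mul_simple_cancel_right]), one_mul]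
  · intro w _ hne
    rw [if_neg, zero_mul]
    intro h'
    apply hne
    rw [h', cs.simple_mul_simple_cancel_right]
  · intro h'
    exact absurd (Finset.mem_univ _) h'

theorem LPw_one_mulVec (ω : List ι) (c : W → ℂ) :
    evalMat (LPw cs ω) 1 *ᵥ c = fun v => c ((cs.wordProd ω)⁻¹ * v) := by
  induction ω generalizing c with
  | nil =>
    rw [LPw_nil, evalMat_one, Matrix.one_mulVec]
    ext v
    simp
  | cons i ω ih =>
    rw [LPw_cons, evalMat_mul, ← Matrix.mulVec_mulVec, ih, LP_one_mulVec]
    ext v
    rw [cs.wordProd_cons, _root_.mul_inv_rev, cs.inv_simple, mul_assoc]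

theorem RPw_one_mulVec (ω : List ι) (c : W → ℂ) :
    evalMat (RPw cs ω) 1 *ᵥ c = fun v => c (v * cs.wordProd ω) := by
  induction ω generalizing c with
  | nil =>
    rw [RPw_nil, evalMat_one, Matrix.one_mulVec]
    ext v
    simp
  | cons i ω ih =>
    rw [RPw_cons, evalMat_mul, ← Matrix.mulVec_mulVec, ih, RP_one_mulVec]
    ext v
    rw [cs.wordProd_cons, mul_assoc]

theorem IP_one_mulVec (c : W → ℂ) :
    evalMat (IP cs) 1 *ᵥ c = fun v => ∑ w : W, c (w⁻¹ * (v * w)) := by
  unfold IP
  rw [evalMat_sum, Matrix.sum_mulVec]
  ext v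
  rw [Finset.sum_apply]
  apply Finset.sum_congr rfl
  intro w _
  rw [evalMat_smul, Polynomial.eval_pow, Polynomial.eval_X, one_pow, one_smul, evalMat_mul,
    ← Matrix.mulVec_mulVec, LPw_one_mulVec, RPw_one_mulVec, ← (redWord_spec cs w).2]

/-- the class functions of a group -/
def classFun (W : Type) [Group W] : Submodule ℂ (W → ℂ) where
  carrier := {c | ∀ g v, c (g * v * g⁻¹) = c v}
  add_mem' := by
    intro a b ha hb g v
    show a (g * v * g⁻¹) + b (g * v * g⁻¹) = a v + b v
    rw [ha g v, hb g v]
  zero_mem' := by
    intro g v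
    rfl
  smul_mem' := by
    intro r a ha g v
    show r • a (g * v * g⁻¹) = r • a v
    rw [ha g v]

omit [DecidableEq W] in
theorem finrank_classFun : Module.finrank ℂ (classFun W) = Nat.card (ConjClasses W) := by
  classical
  haveI : Fintype (ConjClasses W) := Fintype.ofFinite _
  have hinj : Function.Injective (LinearMap.funLeft ℂ ℂ (ConjClasses.mk : W → ConjClasses W)) :=
    LinearMap.funLeft_injective_of_surjective _ _ _ ConjClasses.mk_surjective
  have hrange : LinearMap.range (LinearMap.funLeft ℂ ℂ (ConjClasses.mk : W → ConjClasses W)) =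
      classFun W := by
    ext c
    constructor
    · rintro ⟨d, rfl⟩ g v
      show d (ConjClasses.mk (g * v * g⁻¹)) = d (ConjClasses.mk v)
      congr 1
      rw [ConjClasses.mk_eq_mk_iff_isConj]
      exact (isConj_iff.mpr ⟨g, rfl⟩).symm
    · intro hc
      refine ⟨fun k => c (Quotient.out k), ?_⟩
      ext v
      show c (Quotient.out (ConjClasses.mk v)) = c v
      have h1 : IsConj (Quotient.out (ConjClasses.mk v)) v :=
        ConjClasses.mk_eq_mk_iff_isConj.mp (Quotient.out_eq _)
      obtain ⟨g, hg⟩ := isConj_iff.mp h1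
      exact ((hc g _).symm).trans (congrArg c hg)
  rw [← hrange, LinearMap.finrank_range_of_inj hinj, Module.finrank_fintype_fun_eq_card,
    Nat.card_eq_fintype_card]

theorem ker_DP_one [Fintype ι] [DecidableEq ι] :
    LinearMap.ker (evalMat (DP cs) 1).mulVecLin = classFun W := by
  ext c
  rw [LinearMap.mem_ker, Matrix.mulVecLin_apply]
  constructor
  · intro h
    have h1 : ∀ i v, c (cs.simple i * v) = c (v * cs.simple i) := by
      intro i v
      have h2 := congrFun h (i, v)
      rw [DP_mulVec, LP_one_mulVec, RP_one_mulVec] at h2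
      exact sub_eq_zero.mp h2
    intro g
    refine cs.simple_induction (p := fun g => ∀ v, c (g * v * g⁻¹) = c v) g ?_ ?_ ?_
    · intro i v
      have h2 := h1 i (v * (cs.simple i)⁻¹)
      rw [inv_mul_cancel_right] at h2
      rw [mul_assoc]
      exact h2
    · intro v
      simp
    · intro a b ha hb v
      rw [← hb v, ← ha (b * v * b⁻¹)]
      congr 1
      group
  · intro hc
    ext ⟨i, v⟩
    rw [DP_mulVec, LP_one_mulVec, RP_one_mulVec]
    show c (cs.simple i * v) - c (v * cs.simple i) = 0
    have h2 := hc (cs.simple i) (v * cs.simple i)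
    have e : cs.simple i * (v * cs.simple i) * (cs.simple i)⁻¹ = cs.simple i * v := by group
    rw [e] at h2
    rw [h2, sub_self]

theorem range_IP_one : LinearMap.range (evalMat (IP cs) 1).mulVecLin = classFun W := by
  ext c
  constructor
  · rintro ⟨d, rfl⟩ g v
    rw [Matrix.mulVecLin_apply, IP_one_mulVec]
    show ∑ w : W, d (w⁻¹ * (g * v * g⁻¹ * w)) = ∑ w : W, d (w⁻¹ * (v * w))
    apply Fintype.sum_equiv (Equiv.mulLeft g⁻¹)
    intro w
    congr 1
    simp only [Equiv.coe_mulLeft]
    group
  · intro hc
    refine ⟨(Fintype.card W : ℂ)⁻¹ • c, ?_⟩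
    rw [Matrix.mulVecLin_apply, IP_one_mulVec]
    ext v
    simp only [Pi.smul_apply, smul_eq_mul]
    have h1 : ∀ w : W, c (w⁻¹ * (v * w)) = c v := by
      intro w
      have h2 := hc w⁻¹ v
      rw [inv_inv] at h2
      rw [← h2]
      congr 1
      group
    have hW : (Fintype.card W : ℂ) ≠ 0 := by exact_mod_cast Fintype.card_ne_zero
    rw [← Finset.mul_sum, Finset.sum_congr rfl (fun w _ => h1 w), Finset.sum_const,
      Finset.card_univ, nsmul_eq_mul, ← mul_assoc, inv_mul_cancel₀ hW, one_mul]

/-- the ranks at `1` -/
theorem rank_at_one [Fintype ι] [DecidableEq ι] :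
    (evalMat (IP cs) 1).rank = Nat.card (ConjClasses W) ∧
      (evalMat (DP cs) 1).rank + Nat.card (ConjClasses W) = Fintype.card W := by
  constructor
  · show Module.finrank ℂ (LinearMap.range (evalMat (IP cs) 1).mulVecLin) = _
    rw [range_IP_one, finrank_classFun]
  · have h := LinearMap.finrank_range_add_finrank_ker (evalMat (DP cs) 1).mulVecLin
    rw [ker_DP_one, finrank_classFun, Module.finrank_fintype_fun_eq_card] at h
    exact h

end CoxMat

end Cfsg.Agent.Lib.helper41
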