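import Mathlib
import Cfsg.Agent.Lib.helper41.HeckeCenter
import Cfsg.Agent.Lib.helper41.HeckeCox

/-!
The Hecke algebra of a subgroup `B` of a finite group with a cell decomposition indexed by a
Coxeter group (as for the Borel subgroup of a Chevalley group): the relations of Iwahori, the
basis of the Hecke algebra, and the resulting ranks of the values of the matrices of polynomials of
the generic Hecke algebra at the inverse of the order of the field.
-/

set_option autoImplicit false

namespace Cfsg.Agent.Lib.helper41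

open Polynomial Matrix

universe u v

/-- a finite group with a subgroup `B` and a cell decomposition indexed by a Coxeter group -/
structure IwahoriData (G : Type u) [Group G] (F : Type v) [Field F] [Fintype F] {ι : Type}
    {W : Type} [Group W] {M : CoxeterMatrix ι} (cs : CoxeterSystem M W) where
  B : Subgroup G
  cell : G → W
  nn : ι → G
  xh : ι → Multiplicative F →* G
  cell_mul : ∀ g, ∀ b ∈ B, ∀ b' ∈ B, cell (b * g * b') = cell g
  cell_eq : ∀ g g', cell g = cell g' → ∃ b ∈ B, ∃ b' ∈ B, g' = b * g * b'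
  cell_one : cell 1 = 1
  cell_inv : ∀ g, cell g⁻¹ = (cell g)⁻¹
  cell_nn : ∀ i, cell (nn i) = cs.simple i
  cell_up : ∀ i g, cs.length (cs.simple i * cell g) = cs.length (cell g) + 1 →
    cell (nn i * g) = cs.simple i * cell g
  xh_mem : ∀ i t, xh i t ∈ B
  dec : ∀ i, ∀ b ∈ B, ∃ t, (nn i)⁻¹ * ((xh i t)⁻¹ * b) * nn i ∈ B
  nn_sq : ∀ i, nn i * nn i ∈ B
  rel : ∀ i t, t ≠ 1 → cell (nn i * xh i t * nn i) = cs.simple i
  card_cell : ∀ w, Nat.card {g // cell g = w} = Nat.card B * Fintype.card F ^ cs.length w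

theorem idem_mid {G : Type u} [Group G] [Fintype G] (B : Subgroup G) [Fintype B]
    (x y : MonoidAlgebra ℂ G) :
    x * idem B * y = (Fintype.card B : ℂ)⁻¹ • ∑ b : B, x * MonoidAlgebra.of ℂ G (b : G) * y := by
  rw [idem_eq, mul_smul_comm, smul_mul_assoc, Finset.mul_sum, Finset.sum_mul]

namespace IwahoriData

variable {G : Type u} [Group G] [Fintype G] {F : Type v} [Field F] [Fintype F] {ι : Type}
  {W : Type} [Group W] [Fintype W] [DecidableEq W] {M : CoxeterMatrix ι} {cs : CoxeterSystem M W}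
  (S : IwahoriData G F cs)

/-- the parameter: the inverse of the order of the field -/
noncomputable def u (_S : IwahoriData G F cs) : ℂ := (Fintype.card F : ℂ)⁻¹

theorem card_F_ne_zero : (Fintype.card F : ℂ) ≠ 0 := by
  exact_mod_cast Fintype.card_ne_zero

/-- the element `e g e` -/
noncomputable def hA (g : G) : MonoidAlgebra ℂ G :=
  idem S.B * MonoidAlgebra.of ℂ G g * idem S.B

theorem hA_mul (g : G) {b b' : G} (hb : b ∈ S.B) (hb' : b' ∈ S.B) :
    S.hA (b * g * b') = S.hA g := by
  unfold hA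
  rw [map_mul, map_mul]
  calc idem S.B * (MonoidAlgebra.of ℂ G b * MonoidAlgebra.of ℂ G g * MonoidAlgebra.of ℂ G b') *
        idem S.B
      = (idem S.B * MonoidAlgebra.of ℂ G b) * MonoidAlgebra.of ℂ G g *
          (MonoidAlgebra.of ℂ G b' * idem S.B) := by simp only [mul_assoc]
    _ = _ := by rw [idem_mul_of S.B hb, of_mul_idem S.B hb']

theorem hA_cell {g g' : G} (h : S.cell g = S.cell g') : S.hA g = S.hA g' := by
  obtain ⟨b, hb, b', hb', rfl⟩ := S.cell_eq g g' h
  exact (S.hA_mul g hb hb').symm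

theorem cell_surj (w : W) : ∃ g, S.cell g = w := by
  have h := S.card_cell w
  have hpos : 0 < Nat.card {g // S.cell g = w} := by
    rw [h]
    exact Nat.mul_pos Nat.card_pos (pow_pos Fintype.card_pos _)
  obtain ⟨⟨g, hg⟩⟩ := (Nat.card_pos_iff.mp hpos).1
  exact ⟨g, hg⟩

/-- a representative of a cell -/
noncomputable def rep (w : W) : G := Classical.choose (S.cell_surj w)

theorem cell_rep (w : W) : S.cell (S.rep w) = w := Classical.choose_spec (S.cell_surj w)

/-- the basis element of a cell -/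
noncomputable def aw (w : W) : MonoidAlgebra ℂ G := S.hA (S.rep w)

theorem hA_eq_aw (g : G) : S.hA g = S.aw (S.cell g) := S.hA_cell (S.cell_rep _).symm

theorem aw_mem (w : W) : S.aw w ∈ heckeE S.B := mem_heckeE_mul S.B _

theorem aw_one : S.aw 1 = idem S.B := by
  rw [← S.cell_one, ← S.hA_eq_aw]
  unfold hA
  rw [map_one, mul_one, idem_mul_idem]

theorem hA_mul_hA (g g' : G) [Fintype S.B] :
    S.hA g * S.hA g' = (Fintype.card S.B : ℂ)⁻¹ • ∑ b : S.B, S.hA (g * b * g') := by
  unfold hA
  have h1 : idem S.B * MonoidAlgebra.of ℂ G g * idem S.B *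
      (idem S.B * MonoidAlgebra.of ℂ G g' * idem S.B) =
      (idem S.B * MonoidAlgebra.of ℂ G g) * idem S.B * (MonoidAlgebra.of ℂ G g' * idem S.B) := by
    simp only [mul_assoc, idem_mul_idem_mul]
  rw [h1, idem_mid]
  congr 1
  apply Finset.sum_congr rfl
  intro b _
  rw [map_mul, map_mul]
  simp only [mul_assoc]

theorem cell_left_mul (g : G) {b : G} (hb : b ∈ S.B) : S.cell (b * g) = S.cell g := by
  have h := S.cell_mul g b hb 1 S.B.one_mem
  rwa [mul_one] at h

theorem cell_right_mul (g : G) {b : G} (hb : b ∈ S.B) : S.cell (g * b) = S.cell g := by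
  have h := S.cell_mul g 1 S.B.one_mem b hb
  rwa [one_mul] at h

theorem cell_of_mem {b : G} (hb : b ∈ S.B) : S.cell b = 1 := by
  have h := S.cell_left_mul 1 hb
  rwa [mul_one, S.cell_one] at h

theorem aw_simple (i : ι) : S.aw (cs.simple i) = S.hA (S.nn i) := by
  rw [S.hA_eq_aw, S.cell_nn]

theorem sum_const_B [Fintype S.B] (x : MonoidAlgebra ℂ G) :
    (Fintype.card S.B : ℂ)⁻¹ • ∑ _b : S.B, x = x := by
  rw [Finset.sum_const, Finset.card_univ, ← Nat.cast_smul_eq_nsmul ℂ, smul_smul,
    inv_mul_cancel₀ (card_sub_ne_zero S.B), one_smul]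

theorem aw_mul_up_left (i : ι) (w : W) (h : cs.length (cs.simple i * w) = cs.length w + 1) :
    S.aw (cs.simple i) * S.aw w = S.aw (cs.simple i * w) := by
  classical
  haveI : Fintype S.B := Fintype.ofFinite _
  rw [S.aw_simple]
  show S.hA (S.nn i) * S.hA (S.rep w) = _
  rw [S.hA_mul_hA]
  have h2 : ∀ b : S.B, S.hA (S.nn i * b * S.rep w) = S.aw (cs.simple i * w) := by
    intro b
    have hc : S.cell ((b : G) * S.rep w) = w := by
      rw [S.cell_left_mul _ b.2, S.cell_rep]
    rw [S.hA_eq_aw, mul_assoc, S.cell_up i _ (by rw [hc]; exact h), hc]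
  rw [Finset.sum_congr rfl (fun b _ => h2 b), S.sum_const_B]

theorem cell_inv_nn_mul (i : ι) (g : G)
    (h : cs.length (cs.simple i * S.cell g) = cs.length (S.cell g) + 1) :
    S.cell ((S.nn i)⁻¹ * g) = cs.simple i * S.cell g := by
  have e : (S.nn i)⁻¹ * g = S.nn i * ((S.nn i * S.nn i)⁻¹ * g) := by group
  have hc : S.cell ((S.nn i * S.nn i)⁻¹ * g) = S.cell g :=
    S.cell_left_mul g (S.B.inv_mem (S.nn_sq i))
  rw [e, S.cell_up i _ (by rw [hc]; exact h), hc]

theorem cell_mul_nn (i : ι) (g : G)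
    (h : cs.length (S.cell g * cs.simple i) = cs.length (S.cell g) + 1) :
    S.cell (g * S.nn i) = S.cell g * cs.simple i := by
  have h1 : cs.length (cs.simple i * S.cell g⁻¹) = cs.length (S.cell g⁻¹) + 1 := by
    rw [S.cell_inv, cs.length_inv, ← h, ← cs.length_inv (S.cell g * cs.simple i),
      _root_.mul_inv_rev, cs.inv_simple]
  have h2 := S.cell_inv_nn_mul i g⁻¹ h1
  have e : g * S.nn i = ((S.nn i)⁻¹ * g⁻¹)⁻¹ := by group
  rw [e, S.cell_inv, h2, S.cell_inv, _root_.mul_inv_rev, inv_inv, cs.inv_simple]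

theorem aw_mul_up_right (i : ι) (w : W) (h : cs.length (w * cs.simple i) = cs.length w + 1) :
    S.aw w * S.aw (cs.simple i) = S.aw (w * cs.simple i) := by
  classical
  haveI : Fintype S.B := Fintype.ofFinite _
  rw [S.aw_simple]
  show S.hA (S.rep w) * S.hA (S.nn i) = _
  rw [S.hA_mul_hA]
  have h2 : ∀ b : S.B, S.hA (S.rep w * b * S.nn i) = S.aw (w * cs.simple i) := by
    intro b
    have hc : S.cell (S.rep w * (b : G)) = w := by
      rw [S.cell_right_mul _ b.2, S.cell_rep]
    rw [S.hA_eq_aw, S.cell_mul_nn i _ (by rw [hc]; exact h), hc]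
  rw [Finset.sum_congr rfl (fun b _ => h2 b), S.sum_const_B]

/-- the quadratic relation -/
theorem aw_sq (i : ι) :
    S.aw (cs.simple i) * S.aw (cs.simple i) =
      S.u • idem S.B + (1 - S.u) • S.aw (cs.simple i) := by
  classical
  haveI : Fintype S.B := Fintype.ofFinite _
  have hA1 : ∀ t, S.hA (S.nn i * S.xh i t) = S.hA (S.nn i) := by
    intro t
    have h := S.hA_mul (S.nn i) S.B.one_mem (S.xh_mem i t)
    rwa [one_mul] at h
  have hB : ∀ t, S.hA (S.nn i) * S.hA (S.nn i) =
      (Fintype.card S.B : ℂ)⁻¹ • ∑ b : S.B, S.hA (S.nn i * S.xh i t * b * S.nn i) := by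
    intro t
    have h := S.hA_mul_hA (S.nn i * S.xh i t) (S.nn i)
    rwa [hA1 t] at h
  have hC : ∀ b : S.B, ∑ t, S.hA (S.nn i * S.xh i t * b * S.nn i) =
      ∑ t, S.hA (S.nn i * S.xh i t * S.nn i) := by
    intro b
    obtain ⟨t0, ht0⟩ := S.dec i b b.2
    have h1 : ∀ t, S.hA (S.nn i * S.xh i t * b * S.nn i) =
        S.hA (S.nn i * S.xh i (t * t0) * S.nn i) := by
      intro t
      have e : S.nn i * S.xh i t * b * S.nn i = 1 * (S.nn i * S.xh i (t * t0) * S.nn i) *
          ((S.nn i)⁻¹ * ((S.xh i t0)⁻¹ * b) * S.nn i) := by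
        rw [map_mul]
        group
      rw [e, S.hA_mul _ S.B.one_mem ht0]
    rw [Finset.sum_congr rfl (fun t _ => h1 t)]
    exact Fintype.sum_equiv (Equiv.mulRight t0) _ _ (fun t => rfl)
  have hD : ∑ t, S.hA (S.nn i * S.xh i t * S.nn i) =
      idem S.B + ((Fintype.card F : ℂ) - 1) • S.aw (cs.simple i) := by
    rw [← Finset.add_sum_erase Finset.univ _ (Finset.mem_univ (1 : Multiplicative F))]
    congr 1
    · rw [map_one, mul_one, S.hA_eq_aw, S.cell_of_mem (S.nn_sq i), S.aw_one]
    · have h1 : ∀ t ∈ Finset.univ.erase (1 : Multiplicative F),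
          S.hA (S.nn i * S.xh i t * S.nn i) = S.aw (cs.simple i) := by
        intro t ht
        rw [S.hA_eq_aw, S.rel i t (Finset.ne_of_mem_erase ht)]
      rw [Finset.sum_congr rfl h1, Finset.sum_const, Finset.card_erase_of_mem (Finset.mem_univ _),
        Finset.card_univ, Fintype.card_multiplicative, ← Nat.cast_smul_eq_nsmul ℂ,
        Nat.cast_sub Fintype.card_pos, Nat.cast_one]
  have hq : (Fintype.card F : ℂ) ≠ 0 := card_F_ne_zero
  have hsum : (Fintype.card F : ℂ) • (S.hA (S.nn i) * S.hA (S.nn i)) =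
      idem S.B + ((Fintype.card F : ℂ) - 1) • S.aw (cs.simple i) := by
    calc (Fintype.card F : ℂ) • (S.hA (S.nn i) * S.hA (S.nn i))
        = ∑ _t : Multiplicative F, S.hA (S.nn i) * S.hA (S.nn i) := by
          rw [Finset.sum_const, Finset.card_univ, Fintype.card_multiplicative,
            Nat.cast_smul_eq_nsmul]
      _ = ∑ t : Multiplicative F, (Fintype.card S.B : ℂ)⁻¹ •
            ∑ b : S.B, S.hA (S.nn i * S.xh i t * b * S.nn i) :=
          Finset.sum_congr rfl (fun t _ => hB t)
      _ = (Fintype.card S.B : ℂ)⁻¹ • ∑ b : S.B, ∑ t : Multiplicative F,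
            S.hA (S.nn i * S.xh i t * b * S.nn i) := by
          rw [← Finset.smul_sum, Finset.sum_comm]
      _ = (Fintype.card S.B : ℂ)⁻¹ • ∑ _b : S.B,
            (idem S.B + ((Fintype.card F : ℂ) - 1) • S.aw (cs.simple i)) := by
          congr 1
          exact Finset.sum_congr rfl (fun b _ => (hC b).trans hD)
      _ = _ := S.sum_const_B _
  have hfin : S.hA (S.nn i) * S.hA (S.nn i) = (Fintype.card F : ℂ)⁻¹ •
      (idem S.B + ((Fintype.card F : ℂ) - 1) • S.aw (cs.simple i)) := by
    rw [← hsum, smul_smul, inv_mul_cancel₀ hq, one_smul]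
  rw [S.aw_simple, hfin, smul_add, smul_smul, ← S.aw_simple]
  unfold u
  congr 2
  field_simp

theorem aw_mul_down_left (i : ι) (w : W) (h : ¬ cs.length (cs.simple i * w) = cs.length w + 1) :
    S.aw (cs.simple i) * S.aw w = S.u • S.aw (cs.simple i * w) + (1 - S.u) • S.aw w := by
  have h' : cs.length (cs.simple i * w) + 1 = cs.length w :=
    (cs.length_simple_mul w i).resolve_left h
  have h2 : cs.length (cs.simple i * (cs.simple i * w)) = cs.length (cs.simple i * w) + 1 := by
    rw [cs.simple_mul_simple_cancel_left]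
    exact h'.symm
  have h3 := S.aw_mul_up_left i (cs.simple i * w) h2
  rw [cs.simple_mul_simple_cancel_left] at h3
  rw [← h3, ← mul_assoc, S.aw_sq, add_mul, smul_mul_assoc, smul_mul_assoc,
    idem_mul_of_mem (S.aw_mem _)]

theorem aw_mul_down_right (i : ι) (w : W) (h : ¬ cs.length (w * cs.simple i) = cs.length w + 1) :
    S.aw w * S.aw (cs.simple i) = S.u • S.aw (w * cs.simple i) + (1 - S.u) • S.aw w := by
  have h' : cs.length (w * cs.simple i) + 1 = cs.length w :=
    (cs.length_mul_simple w i).resolve_left h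
  have h2 : cs.length (w * cs.simple i * cs.simple i) = cs.length (w * cs.simple i) + 1 := by
    rw [cs.simple_mul_simple_cancel_right]
    exact h'.symm
  have h3 := S.aw_mul_up_right i (w * cs.simple i) h2
  rw [cs.simple_mul_simple_cancel_right] at h3
  rw [← h3, mul_assoc, S.aw_sq, mul_add, mul_smul_comm, mul_smul_comm,
    mul_idem_of_mem (S.aw_mem _)]

theorem aw_simple_mul (i : ι) (w : W) :
    S.aw (cs.simple i) * S.aw w = ∑ v, (evalMat (LP cs i) S.u v w) • S.aw v := by
  by_cases h : cs.length (cs.simple i * w) = cs.length w + 1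
  · rw [S.aw_mul_up_left i w h]
    simp only [evalMat_LP, if_pos h, ite_smul, one_smul, zero_smul, Finset.sum_ite_eq',
      Finset.mem_univ, if_true]
  · rw [S.aw_mul_down_left i w h]
    simp only [evalMat_LP, if_neg h, add_smul, Finset.sum_add_distrib, mul_ite, mul_one, mul_zero,
      ite_smul, zero_smul, Finset.sum_ite_eq', Finset.mem_univ, if_true]

theorem aw_mul_simple (i : ι) (w : W) :
    S.aw w * S.aw (cs.simple i) = ∑ v, (evalMat (RP cs i) S.u v w) • S.aw v := by
  by_cases h : cs.length (w * cs.simple i) = cs.length w + 1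
  · rw [S.aw_mul_up_right i w h]
    simp only [evalMat_RP, if_pos h, ite_smul, one_smul, zero_smul, Finset.sum_ite_eq',
      Finset.mem_univ, if_true]
  · rw [S.aw_mul_down_right i w h]
    simp only [evalMat_RP, if_neg h, add_smul, Finset.sum_add_distrib, mul_ite, mul_one, mul_zero,
      ite_smul, zero_smul, Finset.sum_ite_eq', Finset.mem_univ, if_true]

/-- the coordinates of the Hecke algebra -/
noncomputable def Phi : (W → ℂ) →ₗ[ℂ] MonoidAlgebra ℂ G where
  toFun c := ∑ w, c w • S.aw w
  map_add' c d := by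
    simp only [Pi.add_apply, add_smul, Finset.sum_add_distrib]
  map_smul' r c := by
    simp only [Pi.smul_apply, smul_eq_mul, RingHom.id_apply, Finset.smul_sum, smul_smul]

theorem Phi_apply (c : W → ℂ) : S.Phi c = ∑ w, c w • S.aw w := rfl

theorem Phi_mem (c : W → ℂ) : S.Phi c ∈ heckeE S.B :=
  Submodule.sum_mem _ (fun w _ => Submodule.smul_mem _ _ (S.aw_mem w))

theorem Phi_single (w : W) : S.Phi (Pi.single w 1) = S.aw w := by
  rw [Phi_apply, Finset.sum_eq_single w]
  · rw [Pi.single_eq_same, one_smul]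
  · intro v _ hne
    rw [Pi.single_eq_of_ne hne, zero_smul]
  · intro h
    exact absurd (Finset.mem_univ _) h

theorem aw_simple_mul_Phi (i : ι) (c : W → ℂ) :
    S.aw (cs.simple i) * S.Phi c = S.Phi (evalMat (LP cs i) S.u *ᵥ c) := by
  rw [Phi_apply, Phi_apply, Finset.mul_sum]
  simp only [mul_smul_comm, S.aw_simple_mul, Finset.smul_sum, smul_smul]
  rw [Finset.sum_comm]
  apply Finset.sum_congr rfl
  intro v _
  rw [Matrix.mulVec, dotProduct, Finset.sum_smul]
  apply Finset.sum_congr rfl
  intro w _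
  rw [mul_comm]

theorem Phi_mul_aw_simple (i : ι) (c : W → ℂ) :
    S.Phi c * S.aw (cs.simple i) = S.Phi (evalMat (RP cs i) S.u *ᵥ c) := by
  rw [Phi_apply, Phi_apply, Finset.sum_mul]
  simp only [smul_mul_assoc, S.aw_mul_simple, Finset.smul_sum, smul_smul]
  rw [Finset.sum_comm]
  apply Finset.sum_congr rfl
  intro v _
  rw [Matrix.mulVec, dotProduct, Finset.sum_smul]
  apply Finset.sum_congr rfl
  intro w _
  rw [mul_comm]

/-- the product of the generators of a word -/
noncomputable def aprod (ω : List ι) : MonoidAlgebra ℂ G :=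
  (ω.map (fun i => S.aw (cs.simple i))).prod

theorem aprod_nil : S.aprod ([] : List ι) = 1 := by
  simp [aprod]

theorem aprod_cons (i : ι) (ω : List ι) : S.aprod (i :: ω) = S.aw (cs.simple i) * S.aprod ω := by
  simp [aprod]

theorem aprod_concat (i : ι) (ω : List ι) :
    S.aprod (ω ++ [i]) = S.aprod ω * S.aw (cs.simple i) := by
  simp [aprod]

theorem aprod_mul_Phi (ω : List ι) (c : W → ℂ) :
    S.aprod ω * S.Phi c = S.Phi (evalMat (LPw cs ω) S.u *ᵥ c) := by
  induction ω generalizing c with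
  | nil => rw [aprod_nil, one_mul, LPw_nil, evalMat_one, Matrix.one_mulVec]
  | cons i ω ih =>
    rw [aprod_cons, LPw_cons, mul_assoc, ih, aw_simple_mul_Phi, evalMat_mul, Matrix.mulVec_mulVec]

theorem Phi_mul_aprod_reverse (ω : List ι) (c : W → ℂ) :
    S.Phi c * S.aprod ω.reverse = S.Phi (evalMat (RPw cs ω) S.u *ᵥ c) := by
  induction ω generalizing c with
  | nil => rw [List.reverse_nil, aprod_nil, mul_one, RPw_nil, evalMat_one, Matrix.one_mulVec]
  | cons i ω ih =>
    rw [List.reverse_cons, aprod_concat, RPw_cons, ← mul_assoc, ih, Phi_mul_aw_simple, evalMat_mul,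
      Matrix.mulVec_mulVec]

theorem idem_mul_aprod (ω : List ι) (h : cs.IsReduced ω) :
    idem S.B * S.aprod ω = S.aw (cs.wordProd ω) := by
  induction ω with
  | nil => rw [aprod_nil, mul_one, CoxeterSystem.wordProd_nil, S.aw_one]
  | cons i ω ih =>
    have h0 : cs.length (cs.wordProd (i :: ω)) = (i :: ω).length := h
    rw [cs.wordProd_cons, List.length_cons] at h0
    have h1 := cs.length_wordProd_le ω
    have h2 := cs.length_simple_mul (cs.wordProd ω) i
    have hω : cs.IsReduced ω := by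
      show cs.length (cs.wordProd ω) = ω.length
      omega
    have hlen : cs.length (cs.simple i * cs.wordProd ω) = cs.length (cs.wordProd ω) + 1 := by
      omega
    rw [aprod_cons, ← mul_assoc, idem_mul_of_mem (S.aw_mem _), cs.wordProd_cons,
      ← S.aw_mul_up_left i _ hlen, ← ih hω, ← mul_assoc, mul_idem_of_mem (S.aw_mem _)]

/-- the sum of the coefficients over a cell -/
noncomputable def cof (w : W) : MonoidAlgebra ℂ G →ₗ[ℂ] ℂ where
  toFun x := ∑ g : G, if S.cell g = w then x.coeff g else 0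
  map_add' x y := by
    simp only [MonoidAlgebra.coeff_add, Finsupp.add_apply]
    rw [← Finset.sum_add_distrib]
    apply Finset.sum_congr rfl
    intro g _
    split_ifs <;> simp
  map_smul' c x := by
    simp only [MonoidAlgebra.coeff_smul, Finsupp.smul_apply, RingHom.id_apply, smul_eq_mul]
    rw [Finset.mul_sum]
    apply Finset.sum_congr rfl
    intro g _
    split_ifs <;> simp

theorem cof_of (w : W) (g : G) :
    S.cof w (MonoidAlgebra.of ℂ G g) = if S.cell g = w then 1 else 0 := by
  classical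
  show ∑ h : G, (if S.cell h = w then (MonoidAlgebra.of ℂ G g).coeff h else 0) = _
  rw [Finset.sum_eq_single g]
  · simp [MonoidAlgebra.of_apply, MonoidAlgebra.coeff_single]
  · intro h _ hne
    simp [MonoidAlgebra.of_apply, MonoidAlgebra.coeff_single, Finsupp.single_apply, hne.symm]
  · intro h
    exact absurd (Finset.mem_univ _) h

theorem cof_hA (w : W) (g : G) : S.cof w (S.hA g) = if S.cell g = w then 1 else 0 := by
  classical
  haveI : Fintype S.B := Fintype.ofFinite _
  have h1 : S.hA g = ((Fintype.card S.B : ℂ)⁻¹ * (Fintype.card S.B : ℂ)⁻¹) •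
      ∑ b : S.B, ∑ b' : S.B, MonoidAlgebra.of ℂ G ((b : G) * g * (b' : G)) := by
    unfold hA
    rw [idem_eq]
    simp only [smul_mul_assoc, mul_smul_comm, Finset.sum_mul, Finset.mul_sum, smul_smul, map_mul]
    rw [← Finset.smul_sum, smul_smul, Finset.sum_comm]
  have h2 : ∀ b b' : S.B, S.cell ((b : G) * g * (b' : G)) = S.cell g :=
    fun b b' => S.cell_mul g b b.2 b' b'.2
  rw [h1, map_smul, map_sum]
  simp only [map_sum, cof_of, h2, Finset.sum_const, Finset.card_univ, smul_eq_mul, nsmul_eq_mul]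
  have hB := card_sub_ne_zero S.B
  split_ifs
  · field_simp
  · simp

theorem Phi_injective : Function.Injective S.Phi := by
  rw [← LinearMap.ker_eq_bot, LinearMap.ker_eq_bot']
  intro c hc
  ext w
  have h1 := congrArg (S.cof w) hc
  rw [Phi_apply, map_sum, map_zero] at h1
  have h2 : ∀ v, S.cof w (c v • S.aw v) = if v = w then c v else 0 := by
    intro v
    rw [map_smul, aw, cof_hA, S.cell_rep]
    split_ifs <;> simp
  rw [Finset.sum_congr rfl (fun v _ => h2 v), Finset.sum_ite_eq' Finset.univ w c,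
    if_pos (Finset.mem_univ _)] at h1
  exact h1

theorem range_Phi : LinearMap.range S.Phi = heckeE S.B := by
  apply le_antisymm
  · rintro _ ⟨c, rfl⟩
    exact S.Phi_mem c
  · intro x hx
    have hx' : idem S.B * x * idem S.B = x := hx
    have key : ∀ y : MonoidAlgebra ℂ G, idem S.B * y * idem S.B ∈ LinearMap.range S.Phi := by
      intro y
      refine MonoidAlgebra.induction_on
        (motive := fun y => idem S.B * y * idem S.B ∈ LinearMap.range S.Phi) y ?_ ?_ ?_
      · intro g
        exact ⟨Pi.single (S.cell g) 1, by rw [Phi_single, ← S.hA_eq_aw]; rfl⟩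
      · intro a b ha hb
        rw [mul_add, add_mul]
        exact Submodule.add_mem _ ha hb
      · intro r a ha
        rw [mul_smul_comm, smul_mul_assoc]
        exact Submodule.smul_mem _ r ha
    rw [← hx']
    exact key x

theorem Jmap_Phi (c : W → ℂ) :
    heckeJmap S.B (S.Phi c) = S.Phi (((Nat.card S.B : ℂ) * (Fintype.card F : ℂ) ^ maxLen cs) •
      (evalMat (IP cs) S.u *ᵥ c)) := by
  classical
  have hP : idem S.B * S.Phi c * idem S.B = S.Phi c := S.Phi_mem c
  have h1 : heckeJmap S.B (S.Phi c) =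
      ∑ g : G, S.aw (S.cell g) * S.Phi c * S.aw (S.cell g)⁻¹ := by
    rw [heckeJmap_apply]
    unfold conjSum
    rw [Finset.mul_sum, Finset.sum_mul]
    apply Finset.sum_congr rfl
    intro g _
    rw [← S.hA_eq_aw, ← S.cell_inv, ← S.hA_eq_aw]
    unfold hA
    calc idem S.B * (MonoidAlgebra.of ℂ G g * S.Phi c * MonoidAlgebra.of ℂ G g⁻¹) * idem S.B
        = idem S.B * (MonoidAlgebra.of ℂ G g * (idem S.B * S.Phi c * idem S.B) *
            MonoidAlgebra.of ℂ G g⁻¹) * idem S.B := by rw [hP]
      _ = _ := by simp only [mul_assoc]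
  have h2 : ∀ f : W → MonoidAlgebra ℂ G, ∑ g : G, f (S.cell g) =
      ∑ w : W, (Nat.card {g // S.cell g = w}) • f w := by
    intro f
    have h : ∀ g, f (S.cell g) = ∑ w, if S.cell g = w then f w else 0 := by
      intro g
      rw [Finset.sum_ite_eq Finset.univ (S.cell g) f, if_pos (Finset.mem_univ _)]
    rw [Finset.sum_congr rfl (fun g _ => h g), Finset.sum_comm]
    apply Finset.sum_congr rfl
    intro w _
    rw [← Finset.sum_filter, Finset.sum_const, Nat.card_eq_fintype_card, Fintype.card_subtype]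
  have h3 : ∀ w, S.aw w * S.Phi c * S.aw w⁻¹ =
      S.Phi (evalMat (RPw cs (redWord cs w) * LPw cs (redWord cs w)) S.u *ᵥ c) := by
    intro w
    obtain ⟨hred, hw⟩ := redWord_spec cs w
    have e1 : S.aw w = idem S.B * S.aprod (redWord cs w) := by
      rw [S.idem_mul_aprod _ hred, ← hw]
    have e2 : S.aw w⁻¹ = idem S.B * S.aprod (redWord cs w).reverse := by
      rw [S.idem_mul_aprod _ ((cs.isReduced_reverse_iff _).mpr hred), cs.wordProd_reverse, ← hw]
    rw [e1, e2, mul_assoc (idem S.B), S.aprod_mul_Phi, idem_mul_of_mem (S.Phi_mem _), ← mul_assoc,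
      mul_idem_of_mem (S.Phi_mem _), S.Phi_mul_aprod_reverse, evalMat_mul, Matrix.mulVec_mulVec]
  rw [h1, h2 (fun w => S.aw w * S.Phi c * S.aw w⁻¹)]
  simp only [h3, S.card_cell]
  unfold IP
  rw [evalMat_sum, Matrix.sum_mulVec, Finset.smul_sum, map_sum]
  apply Finset.sum_congr rfl
  intro w _
  rw [evalMat_smul, Matrix.smul_mulVec, smul_smul, map_smul, ← Nat.cast_smul_eq_nsmul ℂ]
  congr 1
  rw [Polynomial.eval_pow, Polynomial.eval_X]
  unfold u
  push_cast
  have hq : (Fintype.card F : ℂ) ≠ 0 := card_F_ne_zero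
  have hle := length_le_maxLen cs w
  rw [mul_assoc]
  congr 1
  rw [inv_pow, ← div_eq_mul_inv, eq_div_iff (pow_ne_zero _ hq), ← pow_add,
    Nat.add_sub_cancel' hle]

section Final

variable [Fintype ι] [DecidableEq ι]

theorem ker_DP_iff (c : W → ℂ) :
    c ∈ LinearMap.ker (evalMat (DP cs) S.u).mulVecLin ↔
      ∀ i, evalMat (LP cs i) S.u *ᵥ c = evalMat (RP cs i) S.u *ᵥ c := by
  rw [LinearMap.mem_ker, Matrix.mulVecLin_apply]
  constructor
  · intro h i
    ext v
    have h1 := congrFun h (i, v)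
    rw [DP_mulVec] at h1
    exact sub_eq_zero.mp h1
  · intro h
    ext ⟨i, v⟩
    rw [DP_mulVec, h i, sub_self]
    rfl

theorem heckeCenter_eq :
    heckeCenter S.B = (LinearMap.ker (evalMat (DP cs) S.u).mulVecLin).map S.Phi := by
  apply le_antisymm
  · intro z hz
    have hzE : z ∈ LinearMap.range S.Phi := by
      rw [S.range_Phi]
      exact hz.1
    obtain ⟨c, rfl⟩ := hzE
    refine ⟨c, ?_, rfl⟩
    rw [SetLike.mem_coe, S.ker_DP_iff]
    intro i
    apply S.Phi_injective
    rw [← S.aw_simple_mul_Phi, ← S.Phi_mul_aw_simple]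
    exact (hz.2 _ (S.aw_mem _)).symm
  · rintro _ ⟨c, hc, rfl⟩
    rw [SetLike.mem_coe, S.ker_DP_iff] at hc
    refine ⟨S.Phi_mem c, ?_⟩
    have hi : ∀ i, S.aw (cs.simple i) * S.Phi c = S.Phi c * S.aw (cs.simple i) := by
      intro i
      rw [S.aw_simple_mul_Phi, S.Phi_mul_aw_simple, hc i]
    have hω : ∀ ω : List ι, S.aprod ω * S.Phi c = S.Phi c * S.aprod ω := by
      intro ω
      induction ω with
      | nil => rw [aprod_nil, one_mul, mul_one]
      | cons i ω ih => rw [aprod_cons, mul_assoc, ih, ← mul_assoc, hi i, mul_assoc]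
    have hw : ∀ w, S.aw w * S.Phi c = S.Phi c * S.aw w := by
      intro w
      obtain ⟨hred, hw⟩ := redWord_spec cs w
      have e1 : S.aw w = idem S.B * S.aprod (redWord cs w) := by
        rw [S.idem_mul_aprod _ hred, ← hw]
      rw [e1, mul_assoc, hω, ← mul_assoc, idem_mul_of_mem (S.Phi_mem c), ← mul_assoc,
        mul_idem_of_mem (S.Phi_mem c)]
    intro y hy
    rw [← S.range_Phi] at hy
    obtain ⟨d, rfl⟩ := hy
    rw [S.Phi_apply d, Finset.mul_sum, Finset.sum_mul]
    apply Finset.sum_congr rfl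
    intro w _
    rw [mul_smul_comm, smul_mul_assoc, hw w]

theorem heckeJ_eq :
    heckeJ S.B = (LinearMap.range (evalMat (IP cs) S.u).mulVecLin).map S.Phi := by
  have hk : ((Nat.card S.B : ℂ) * (Fintype.card F : ℂ) ^ maxLen cs) ≠ 0 :=
    mul_ne_zero (by exact_mod_cast (Nat.card_pos (α := S.B)).ne') (pow_ne_zero _ card_F_ne_zero)
  apply le_antisymm
  · rintro _ ⟨x, hx, rfl⟩
    have hx' : x ∈ LinearMap.range S.Phi := by
      rw [S.range_Phi]
      exact hx
    obtain ⟨c, rfl⟩ := hx'
    rw [S.Jmap_Phi]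
    refine ⟨_, ⟨((Nat.card S.B : ℂ) * (Fintype.card F : ℂ) ^ maxLen cs) • c, ?_⟩, rfl⟩
    rw [Matrix.mulVecLin_apply, Matrix.mulVec_smul]
  · rintro _ ⟨_, ⟨c, rfl⟩, rfl⟩
    refine ⟨S.Phi (((Nat.card S.B : ℂ) * (Fintype.card F : ℂ) ^ maxLen cs)⁻¹ • c),
      S.Phi_mem _, ?_⟩
    rw [S.Jmap_Phi, Matrix.mulVec_smul, smul_smul, mul_inv_cancel₀ hk, one_smul]
    rfl

/-- the ranks of the commutators and of the symmetrising map at the inverse of the order of the
field -/
theorem ranks :
    (evalMat (IP cs) S.u).rank = Nat.card (IrrOf S.B) ∧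
      (evalMat (DP cs) S.u).rank + Nat.card (IrrOf S.B) = Fintype.card W := by
  obtain ⟨h1, h2⟩ := finrank_hecke S.B
  have e1 : Module.finrank ℂ (heckeCenter S.B) =
      Module.finrank ℂ (LinearMap.ker (evalMat (DP cs) S.u).mulVecLin) := by
    rw [S.heckeCenter_eq]
    exact (LinearEquiv.finrank_eq (Submodule.equivMapOfInjective S.Phi S.Phi_injective _)).symm
  have e2 : Module.finrank ℂ (heckeJ S.B) = (evalMat (IP cs) S.u).rank := by
    rw [S.heckeJ_eq]
    exact (LinearEquiv.finrank_eq (Submodule.equivMapOfInjective S.Phi S.Phi_injective _)).symm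
  have h3 := LinearMap.finrank_range_add_finrank_ker (evalMat (DP cs) S.u).mulVecLin
  rw [Module.finrank_fintype_fun_eq_card] at h3
  have h4 : (evalMat (DP cs) S.u).rank =
      Module.finrank ℂ (LinearMap.range (evalMat (DP cs) S.u).mulVecLin) := rfl
  constructor
  · rw [← e2, h2]
  · rw [h4, ← h1, e1]
    exact h3

end Final

end IwahoriData

end Cfsg.Agent.Lib.helper41
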