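import Cfsg.Agent.Lib.helper41.ChevDefZero
import Cfsg.Agent.Lib.helper41.HeckeIwahori

/-!
The Chevalley groups as input of the Hecke algebra of the Borel subgroup: the cells of the Bruhat
decomposition indexed by the Coxeter group of the type, through a homomorphism of the monomial
subgroup onto the Coxeter group with kernel the diagonal subgroup.
-/

set_option autoImplicit false

namespace Cfsg.Agent.Lib.helper41

open Cfsg.Lie Cfsg.Agent.Lib.helper22 Cfsg.Agent.Lib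

universe u

namespace WeylData

variable {n l : ℕ} (A : WeylData n l)

theorem ell_σ_mul_cases (g : Equiv.Perm (Fin n)) (hg : A.Compat g) (i : Fin l) :
    (A.pos (g⁻¹ (A.simple i)) ∧ A.ell (A.σ i * g) = A.ell g + 1) ∨
      (¬ A.pos (g⁻¹ (A.simple i)) ∧ A.ell g = A.ell (A.σ i * g) + 1) := by
  by_cases h : A.pos (g⁻¹ (A.simple i))
  · exact Or.inl ⟨h, A.ell_σ_mul g hg i h⟩
  · right
    refine ⟨h, ?_⟩
    have hc : A.Compat (A.σ i * g) := (A.compat_σ i).mul A hg
    have h1 : A.pos ((A.σ i * g)⁻¹ (A.simple i)) := by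
      rw [mul_inv_rev, A.σ_inv, Equiv.Perm.mul_apply, A.σ_simple, (hg.inv A).1, A.pos_neg]
      exact h
    have h2 := A.ell_σ_mul (A.σ i * g) hc i h1
    rwa [← mul_assoc, A.σ_mul_self, one_mul] at h2

end WeylData

/-- a homomorphism of the monomial subgroup onto the Coxeter group of the type, with kernel the
diagonal subgroup, mapping the elements `n_i` to the simple reflections -/
structure CoxLink (D : ChevalleyDatum) (F : Type u) [Field F] (M : CoxeterMatrix (Fin D.rank)) where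
  φ : ↥(D.monomialSubgroup F) →* M.Group
  surj : Function.Surjective φ
  ker : φ.ker = (D.diagonalSubgroup F).subgroupOf (D.monomialSubgroup F)
  simple : ∀ (i : Fin D.rank) (g : ↥(D.monomialSubgroup F)),
    ((g : GL D.Idx F) : Matrix D.Idx D.Idx F) = D.nMat F (D.simple i) 1 → φ g = M.simple i

namespace CoxLink

variable {D : ChevalleyDatum} {F : Type u} [Field F] {M : CoxeterMatrix (Fin D.rank)}
  (L : CoxLink D F M)

open Classical in
/-- the homomorphism, extended by `1` -/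
noncomputable def phiG (x : GL D.Idx F) : M.Group :=
  if h : x ∈ D.monomialSubgroup F then L.φ ⟨x, h⟩ else 1

theorem phiG_of_mem {x : GL D.Idx F} (h : x ∈ D.monomialSubgroup F) : L.phiG x = L.φ ⟨x, h⟩ := by
  unfold phiG
  rw [dif_pos h]

theorem phiG_mul {x y : GL D.Idx F} (hx : x ∈ D.monomialSubgroup F)
    (hy : y ∈ D.monomialSubgroup F) : L.phiG (x * y) = L.phiG x * L.phiG y := by
  rw [L.phiG_of_mem (mul_mem hx hy), L.phiG_of_mem hx, L.phiG_of_mem hy, ← map_mul]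
  rfl

theorem phiG_one : L.phiG (1 : GL D.Idx F) = 1 := by
  rw [L.phiG_of_mem (one_mem _)]
  exact map_one L.φ

theorem phiG_inv {x : GL D.Idx F} (hx : x ∈ D.monomialSubgroup F) :
    L.phiG x⁻¹ = (L.phiG x)⁻¹ := by
  rw [L.phiG_of_mem (inv_mem hx), L.phiG_of_mem hx, ← map_inv]
  rfl

theorem phiG_eq_one_iff {x : GL D.Idx F} (hx : x ∈ D.monomialSubgroup F) :
    L.phiG x = 1 ↔ x ∈ D.diagonalSubgroup F := by
  rw [L.phiG_of_mem hx, ← MonoidHom.mem_ker, L.ker, Subgroup.mem_subgroupOf]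

theorem phiG_eq_iff {x y : GL D.Idx F} (hx : x ∈ D.monomialSubgroup F)
    (hy : y ∈ D.monomialSubgroup F) : L.phiG x = L.phiG y ↔ x⁻¹ * y ∈ D.diagonalSubgroup F := by
  rw [← L.phiG_eq_one_iff (mul_mem (inv_mem hx) hy), L.phiG_mul (inv_mem hx) hy, L.phiG_inv hx,
    inv_mul_eq_one]

end CoxLink

namespace CellCtx

variable {D : ChevalleyDatum} {F : Type u} [Field F] (C : CellCtx D F)
  {M : CoxeterMatrix (Fin D.rank)} (L : CoxLink D F M)

/-- the cell of an element, as an element of the Coxeter group -/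
noncomputable def cellC (g : ↥(D.group F)) : M.Group :=
  L.phiG ((Classical.choose (helper8.bruhat_exists C.P g) : ↥(D.group F)) : GL D.Idx F)

theorem cellC_eq {g n : ↥(D.group F)} (hn : n ∈ C.P.N) (hg : g ∈ helper8.dc C.P n) :
    C.cellC L g = L.phiG (n : GL D.Idx F) := by
  obtain ⟨hn0, hg0⟩ := Classical.choose_spec (helper8.bruhat_exists C.P g)
  have h1 := helper8.mem_dc_trans C.P (helper8.mem_dc_symm C.P hg0) hg
  have h2 := helper8.bruhat_unique C.P hn0 hn h1
  have h3 := C.diag_of_BN _ h2.2.2 (C.P.N.mul_mem (C.P.N.inv_mem hn0) hn)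
  unfold cellC
  rw [L.phiG_eq_iff ((C.memN _).mp hn0) ((C.memN n).mp hn)]
  exact h3

theorem cellC_mul (g : ↥(D.group F)) {b b' : ↥(D.group F)} (hb : b ∈ C.P.B) (hb' : b' ∈ C.P.B) :
    C.cellC L (b * g * b') = C.cellC L g := by
  obtain ⟨n, hn, hg⟩ := helper8.bruhat_exists C.P g
  rw [C.cellC_eq L hn hg,
    C.cellC_eq L hn (helper8.dc_mul_right C.P (helper8.dc_mul_left C.P hg hb) hb')]

theorem cellC_exists_eq (g g' : ↥(D.group F)) (h : C.cellC L g = C.cellC L g') :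
    ∃ b ∈ C.P.B, ∃ b' ∈ C.P.B, g' = b * g * b' := by
  obtain ⟨n, hn, hg⟩ := helper8.bruhat_exists C.P g
  obtain ⟨n', hn', hg'⟩ := helper8.bruhat_exists C.P g'
  rw [C.cellC_eq L hn hg, C.cellC_eq L hn' hg'] at h
  have h1 := (L.phiG_eq_iff ((C.memN n).mp hn) ((C.memN n').mp hn')).mp h
  have h2 : n⁻¹ * n' ∈ C.P.B := C.memB_of_diag _ h1
  obtain ⟨x, hx, y, hy, rfl⟩ := (helper8.mem_dc_iff C.P).mp hg
  obtain ⟨x', hx', y', hy', rfl⟩ := (helper8.mem_dc_iff C.P).mp hg'
  exact ⟨x' * x⁻¹, mul_mem hx' (inv_mem hx), y⁻¹ * (n⁻¹ * n') * y',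
    mul_mem (mul_mem (inv_mem hy) h2) hy', by group⟩

theorem cellC_one : C.cellC L 1 = 1 := by
  rw [C.cellC_eq L (one_mem _) (helper8.mem_dc_self C.P 1)]
  exact L.phiG_one

theorem cellC_inv (g : ↥(D.group F)) : C.cellC L g⁻¹ = (C.cellC L g)⁻¹ := by
  obtain ⟨n, hn, hg⟩ := helper8.bruhat_exists C.P g
  rw [C.cellC_eq L hn hg, C.cellC_eq L (inv_mem hn) (helper8.dc_inv C.P hg)]
  exact L.phiG_inv ((C.memN n).mp hn)

/-- the chosen string data of the fundamental roots -/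
noncomputable def sdat (i : Fin D.rank) : StringData D ⟨D.simple i.val, (C.I.hS i).1⟩ :=
  Classical.choice (C.I.hSD' _)

/-- the elements `n_i` -/
noncomputable def nnC (i : Fin D.rank) : ↥(D.group F) := nEltG (C.sdat i)

/-- the root elements of the fundamental roots -/
noncomputable def xhC (i : Fin D.rank) : Multiplicative F →* ↥(D.group F) := xHomG (C.sdat i)

theorem nnC_mat (i : Fin D.rank) :
    (((C.nnC i : ↥(D.group F)) : GL D.Idx F) : Matrix D.Idx D.Idx F) =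
      D.nMat F (D.simple i.val) 1 :=
  sl2Hom_sl2n (C.sdat i) 1 one_ne_zero

theorem nnC_memN (i : Fin D.rank) :
    ((C.nnC i : ↥(D.group F)) : GL D.Idx F) ∈ D.monomialSubgroup F :=
  simpleNSet_subset C.I ⟨i.val, i.isLt, C.nnC_mat i⟩

theorem nnC_mem (i : Fin D.rank) : C.nnC i ∈ C.P.N := (C.memN _).mpr (C.nnC_memN i)

theorem nnC_acts (i : Fin D.rank) :
    ActsAs D F ((C.nnC i : ↥(D.group F)) : GL D.Idx F) (C.A.σ i) :=
  actsAs_simple C.I C.hA i (C.nnC_mat i)

theorem phiG_nnC (i : Fin D.rank) :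
    L.phiG ((C.nnC i : ↥(D.group F)) : GL D.Idx F) = M.toCoxeterSystem.simple i := by
  rw [L.phiG_of_mem (C.nnC_memN i), CoxeterMatrix.toCoxeterSystem_simple]
  exact L.simple i _ (C.nnC_mat i)

theorem ell_word (ω : List (Fin D.rank)) :
    ∃ m : GL D.Idx F, m ∈ D.monomialSubgroup F ∧ ∃ w ∈ C.A.W Set.univ, ActsAs D F m w ∧
      L.phiG m = M.toCoxeterSystem.wordProd ω ∧ C.A.ell w ≤ ω.length := by
  induction ω with
  | nil =>
    exact ⟨1, one_mem _, 1, one_mem _, actsAs_one,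
      by rw [L.phiG_one, CoxeterSystem.wordProd_nil], by rw [C.A.ell_one]; exact Nat.zero_le _⟩
  | cons i ω ih =>
    obtain ⟨m, hm, w, hw, hact, hphi, hell⟩ := ih
    refine ⟨(C.nnC i : GL D.Idx F) * m, mul_mem (C.nnC_memN i) hm, C.A.σ i * w,
      mul_mem (C.A.σ_mem_W _ i (Set.mem_univ i)) hw, (C.nnC_acts i).mul hact, ?_, ?_⟩
    · rw [L.phiG_mul (C.nnC_memN i) hm, C.phiG_nnC L, hphi, CoxeterSystem.wordProd_cons]
    · have hc := C.A.compat_of_mem_W _ w hw
      rw [List.length_cons]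
      rcases C.A.ell_σ_mul_cases w hc i with ⟨-, h⟩ | ⟨-, h⟩ <;> omega

/-- the Coxeter length is the number of positive roots made negative -/
theorem length_phiG {n : GL D.Idx F} (hn : n ∈ D.monomialSubgroup F)
    {w : Equiv.Perm (Fin D.nroots)} (hw : w ∈ C.A.W Set.univ) (hact : ActsAs D F n w) :
    M.toCoxeterSystem.length (L.phiG n) = C.A.ell w := by
  apply le_antisymm
  · have key : ∀ k : ℕ, ∀ w : Equiv.Perm (Fin D.nroots), w ∈ C.A.W Set.univ → C.A.ell w = k →
        ∀ n : GL D.Idx F, n ∈ D.monomialSubgroup F → ActsAs D F n w →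
          M.toCoxeterSystem.length (L.phiG n) ≤ k := by
      intro k
      induction k with
      | zero =>
        intro w hw hk n hn hact
        have h1 := C.A.eq_one_of_ell w hw hk
        rw [h1] at hact
        have h2 := mem_diag_of_actsAs_one C.I C.hp C.hA C.hBG C.hNG C.hG n hn hact
        rw [(L.phiG_eq_one_iff hn).mpr h2, CoxeterSystem.length_one]
      | succ k ih =>
        intro w hw hk n hn hact
        obtain ⟨i, hi⟩ := C.A.exists_neg_simple w hw (by omega)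
        have hc := C.A.compat_of_mem_W _ w hw
        have h1 := C.A.ell_mul_σ_of_neg w hc i hi
        have h2 := ih (w * C.A.σ i) (mul_mem hw (C.A.σ_mem_W _ i (Set.mem_univ i))) (by omega)
          (n * (C.nnC i : GL D.Idx F)) (mul_mem hn (C.nnC_memN i)) (hact.mul (C.nnC_acts i))
        rw [L.phiG_mul hn (C.nnC_memN i), C.phiG_nnC L] at h2
        have h3 := M.toCoxeterSystem.length_mul_simple
          (L.phiG n * M.toCoxeterSystem.simple i) i
        rw [M.toCoxeterSystem.simple_mul_simple_cancel_right] at h3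
        omega
    exact key _ w hw rfl n hn hact
  · obtain ⟨ω, hred, hω⟩ := M.toCoxeterSystem.exists_isReduced (L.phiG n)
    obtain ⟨m, hm, w', hw', hact', hphi, hell⟩ := C.ell_word L ω
    have h1 : L.phiG n = L.phiG m := by rw [hphi, hω]
    have h2 := (L.phiG_eq_iff hn hm).mp h1
    have h3 := (hact.inv C.I C.hp C.hA hn).mul hact'
    have h4 := ActsAs.unique C.I C.hp h3 (actsAs_diag C.I h2)
    have h5 : w = w' := inv_mul_eq_one.mp h4
    have h6 : M.toCoxeterSystem.length (L.phiG n) = ω.length := by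
      rw [hω]
      exact hred
    rw [h5, h6]
    exact hell

theorem cellC_nn (i : Fin D.rank) : C.cellC L (C.nnC i) = M.toCoxeterSystem.simple i := by
  rw [C.cellC_eq L (C.nnC_mem i) (helper8.mem_dc_self C.P _)]
  exact C.phiG_nnC L i

theorem cellC_up (i : Fin D.rank) (g : ↥(D.group F))
    (h : M.toCoxeterSystem.length (M.toCoxeterSystem.simple i * C.cellC L g) =
      M.toCoxeterSystem.length (C.cellC L g) + 1) :
    C.cellC L (C.nnC i * g) = M.toCoxeterSystem.simple i * C.cellC L g := by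
  obtain ⟨n, hn, hg⟩ := helper8.bruhat_exists C.P g
  have hnN := (C.memN n).mp hn
  obtain ⟨w, hw, hact⟩ := exists_actsAs C.I C.hA hnN
  rw [C.cellC_eq L hn hg] at h ⊢
  have h1 := C.length_phiG L hnN hw hact
  have h2 := C.length_phiG L (mul_mem (C.nnC_memN i) hnN)
    (mul_mem (C.A.σ_mem_W _ i (Set.mem_univ i)) hw) ((C.nnC_acts i).mul hact)
  rw [L.phiG_mul (C.nnC_memN i) hnN, C.phiG_nnC L] at h2
  have hpos : C.A.pos (w⁻¹ (C.A.simple i)) := by
    rcases C.A.ell_σ_mul_cases w (C.A.compat_of_mem_W _ w hw) i with ⟨hp, -⟩ | ⟨-, hq⟩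
    · exact hp
    · exfalso
      omega
  have hps := C.ps_of_pos i.isLt (C.nnC_mat i) hn hact hpos
  obtain ⟨x, hx, y, hy, rfl⟩ := (helper8.mem_dc_iff C.P).mp hg
  have h3 : C.nnC i * (x * n * y) ∈ helper8.dc C.P (C.nnC i * n) := by
    have h4 := helper8.dc_mul_right C.P (hps x hx) hy
    have e : C.nnC i * (x * n * y) = C.nnC i * x * n * y := by group
    rw [e]
    exact h4
  rw [C.cellC_eq L (mul_mem (C.nnC_mem i) hn) h3]
  have h5 := L.phiG_mul (C.nnC_memN i) hnN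
  rw [C.phiG_nnC L] at h5
  exact h5

theorem xhC_mem (i : Fin D.rank) (t : Multiplicative F) : C.xhC i t ∈ C.P.B :=
  (C.memB _).mpr (Subgroup.mem_sup_left
    (x_mem_pos C.I (C.I.hS i).1 (C.simple_pos_nat i) (sl2Hom_sl2u (C.sdat i) _)))

theorem decC (i : Fin D.rank) (b : ↥(D.group F)) (hb : b ∈ C.P.B) :
    ∃ t, (C.nnC i)⁻¹ * ((C.xhC i t)⁻¹ * b) * C.nnC i ∈ C.P.B := by
  obtain ⟨u, hu, h, hh, e⟩ := borel_decomp C.I ((C.memB b).mp hb)
  obtain ⟨t, u', hu', e'⟩ := posUnipotent_decomp C.I i.isLt (C.sdat i) hu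
  refine ⟨Multiplicative.ofAdd t, (C.memB _).mpr ?_⟩
  have hupn := up_normal C.I.hSD' C.I.hU C.I.hNorm C.I.hcomm (F := F) i.val i.isLt
  have hn : sl2Hom (C.sdat i) (sl2n (1 : F) one_ne_zero) ∈ (sl2Hom (C.sdat i) (F := F)).range :=
    ⟨_, rfl⟩
  rw [sl2Hom_range] at hn
  have hnm := hupn.1 hn
  have h1 := (Subgroup.mem_normalizer_iff.mp (inv_mem hnm) _).mp hu'
  rw [inv_inv] at h1
  have hUp : Subgroup.closure (upSet D F (D.simple i.val)) ≤ D.posUnipotent F := by
    rw [← hupn.2]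
    exact le_sup_left
  have h2 := conj_mem_diag C.I (inv_mem (C.nnC_memN i)) hh
  rw [inv_inv] at h2
  have e3 : (sl2Hom (C.sdat i) (sl2n (1 : F) one_ne_zero))⁻¹ *
      ((sl2Hom (C.sdat i) (sl2u t))⁻¹ * (b : GL D.Idx F)) *
        sl2Hom (C.sdat i) (sl2n (1 : F) one_ne_zero) =
      ((sl2Hom (C.sdat i) (sl2n (1 : F) one_ne_zero))⁻¹ * u' *
        sl2Hom (C.sdat i) (sl2n (1 : F) one_ne_zero)) *
      ((sl2Hom (C.sdat i) (sl2n (1 : F) one_ne_zero))⁻¹ * h *
        sl2Hom (C.sdat i) (sl2n (1 : F) one_ne_zero)) := by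
    rw [e, e']
    group
  show (sl2Hom (C.sdat i) (sl2n (1 : F) one_ne_zero))⁻¹ *
      ((sl2Hom (C.sdat i) (sl2u t))⁻¹ * (b : GL D.Idx F)) *
        sl2Hom (C.sdat i) (sl2n (1 : F) one_ne_zero) ∈ D.borelSubgroup F
  rw [e3]
  exact mul_mem (Subgroup.mem_sup_left (hUp h1)) (Subgroup.mem_sup_right h2)

theorem nnC_sq (i : Fin D.rank) : C.nnC i * C.nnC i ∈ C.P.B := by
  apply C.memB_of_diag
  have h := (C.nnC_acts i).mul (C.nnC_acts i)
  rw [C.A.σ_mul_self] at h
  exact mem_diag_of_actsAs_one C.I C.hp C.hA C.hBG C.hNG C.hG _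
    (mul_mem (C.nnC_memN i) (C.nnC_memN i)) h

theorem hHomG_mem (i : Fin D.rank) (t : Fˣ) : hHomG (C.sdat i) t ∈ C.P.B := by
  apply C.memB_of_diag
  unfold ChevalleyDatum.diagonalSubgroup
  exact Subgroup.subset_closure
    ⟨D.simple i.val, (t : F), (C.I.hS i).1, t.ne_zero, sl2Hom_sl2h (C.sdat i) (t : F) t.ne_zero⟩

theorem relC (i : Fin D.rank) (t : Multiplicative F) (ht : t ≠ 1) :
    C.cellC L (C.nnC i * C.xhC i t * C.nnC i) = M.toCoxeterSystem.simple i := by
  have ha : Multiplicative.toAdd t ≠ 0 := fun h => ht (Multiplicative.toAdd.injective h)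
  have hrel := rel_G (C.sdat i) (Units.mk0 _ ha)
  have e : C.nnC i * C.xhC i t * C.nnC i =
      (C.nnC i * C.nnC i * xHomG (C.sdat i)
          (Multiplicative.ofAdd (-((Units.mk0 _ ha : Fˣ) : F)⁻¹)) *
        hHomG (C.sdat i) (Units.mk0 _ ha)⁻¹) * C.nnC i *
      xHomG (C.sdat i) (Multiplicative.ofAdd (-((Units.mk0 _ ha : Fˣ) : F)⁻¹)) := by
    have e1 : C.nnC i * C.xhC i t * C.nnC i =
        C.nnC i * C.nnC i * ((nEltG (C.sdat i))⁻¹ *
          xHomG (C.sdat i) (Multiplicative.ofAdd ((Units.mk0 _ ha : Fˣ) : F)) *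
            nEltG (C.sdat i)) := by
      show C.nnC i * C.xhC i t * C.nnC i =
        C.nnC i * C.nnC i * ((C.nnC i)⁻¹ * C.xhC i t * C.nnC i)
      group
    rw [e1, hrel]
    show _ = C.nnC i * C.nnC i * xHomG (C.sdat i)
          (Multiplicative.ofAdd (-((Units.mk0 _ ha : Fˣ) : F)⁻¹)) *
        hHomG (C.sdat i) (Units.mk0 _ ha)⁻¹ * nEltG (C.sdat i) *
      xHomG (C.sdat i) (Multiplicative.ofAdd (-((Units.mk0 _ ha : Fˣ) : F)⁻¹))
    group
  have hb1 : C.nnC i * C.nnC i * xHomG (C.sdat i)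
      (Multiplicative.ofAdd (-((Units.mk0 _ ha : Fˣ) : F)⁻¹)) *
        hHomG (C.sdat i) (Units.mk0 _ ha)⁻¹ ∈ C.P.B :=
    mul_mem (mul_mem (C.nnC_sq i) (C.xhC_mem i _)) (C.hHomG_mem i _)
  have hb2 : xHomG (C.sdat i) (Multiplicative.ofAdd (-((Units.mk0 _ ha : Fˣ) : F)⁻¹)) ∈ C.P.B :=
    C.xhC_mem i _
  rw [e, C.cellC_mul L _ hb1 hb2, C.cellC_nn L]

/-- the order of a cell -/
theorem card_cellC [Fintype F] (c : M.Group) :
    Nat.card {g : ↥(D.group F) // C.cellC L g = c} =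
      Nat.card C.P.B * Fintype.card F ^ M.toCoxeterSystem.length c := by
  classical
  have hrep : ∀ w : ↥(C.A.W Set.univ), ∃ n, n ∈ D.monomialSubgroup F ∧ ActsAs D F n w.1 :=
    fun w => exists_monomial_actsAs C.I C.hp C.hA w.2
  choose nw hnwN hnwA using hrep
  have hbij := C.canon_bij nw hnwN hnwA
  have hUG : D.posUnipotent F ≤ D.group F := fun x hx => C.hBG (Subgroup.mem_sup_left hx)
  obtain ⟨m, hm⟩ := L.surj c
  obtain ⟨w0, hw0, hact0⟩ := exists_actsAs C.I C.hA m.2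
  have hc0 : L.phiG (nw ⟨w0, hw0⟩) = c := by
    have h1 : L.phiG (m : GL D.Idx F) = c := by
      rw [L.phiG_of_mem m.2]
      exact hm
    rw [← h1]
    symm
    rw [L.phiG_eq_iff m.2 (hnwN _)]
    apply mem_diag_of_actsAs_one C.I C.hp C.hA C.hBG C.hNG C.hG _
      (mul_mem (inv_mem m.2) (hnwN _))
    have h2 := (hact0.inv C.I C.hp C.hA m.2).mul (hnwA ⟨w0, hw0⟩)
    rwa [inv_mul_cancel] at h2
  have hcell : ∀ x : (Σ w : ↥(C.A.W Set.univ),
      ↥((D.borelSubgroup F).subgroupOf (D.group F)) ×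
        ↥((Subgroup.closure (negSet D F (nw w))).subgroupOf (D.group F))),
      C.cellC L ((x.2.1 : ↥(D.group F)) * (⟨nw x.1, C.hNG (hnwN x.1)⟩ : ↥(D.group F)) *
        (x.2.2 : ↥(D.group F))) = L.phiG (nw x.1) := by
    intro x
    have hb1 : (x.2.1 : ↥(D.group F)) ∈ C.P.B := by
      rw [C.hPB]
      exact x.2.1.2
    have hb2 : (x.2.2 : ↥(D.group F)) ∈ C.P.B :=
      (C.memB _).mpr (Subgroup.mem_sup_left
        (negSet_le_pos _ (Subgroup.mem_subgroupOf.mp x.2.2.2)))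
    rw [C.cellC_mul L _ hb1 hb2,
      C.cellC_eq L ((C.memN _).mpr (hnwN x.1)) (helper8.mem_dc_self C.P _)]
  have hiff : ∀ w : ↥(C.A.W Set.univ), L.phiG (nw w) = c ↔ w = ⟨w0, hw0⟩ := by
    intro w
    constructor
    · intro h
      rw [← hc0, L.phiG_eq_iff (hnwN w) (hnwN _)] at h
      have h1 := ((hnwA w).inv C.I C.hp C.hA (hnwN w)).mul (hnwA ⟨w0, hw0⟩)
      have h2 := ActsAs.unique C.I C.hp h1 (actsAs_diag C.I h)
      apply Subtype.ext
      exact inv_mul_eq_one.mp h2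
    · rintro rfl
      exact hc0
  have e1 : {x : (Σ w : ↥(C.A.W Set.univ),
      ↥((D.borelSubgroup F).subgroupOf (D.group F)) ×
        ↥((Subgroup.closure (negSet D F (nw w))).subgroupOf (D.group F))) //
        x.1 = ⟨w0, hw0⟩} ≃ {g : ↥(D.group F) // C.cellC L g = c} :=
    Equiv.subtypeEquiv (Equiv.ofBijective _ hbij) (fun x => by
      rw [Equiv.ofBijective_apply, hcell, hiff])
  rw [← Nat.card_congr e1, Nat.card_congr (Equiv.sigmaSubtype _), Nat.card_prod]
  congr 1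
  · rw [C.hPB]
  · rw [Nat.card_congr (Subgroup.subgroupOfEquivOfLe ((negSet_le_pos (nw _)).trans hUG)).toEquiv,
      card_negSet C.I C.hp C.hA C.hpn C.hN C.hBG C.hNG C.hG (hnwN _) (hnwA _), ← hc0,
      C.length_phiG L (hnwN _) hw0 (hnwA ⟨w0, hw0⟩)]

/-- the Chevalley group gives an input of the Hecke algebra of the Borel subgroup -/
theorem exists_iwahoriData [Fintype F] (C : CellCtx D F) {M : CoxeterMatrix (Fin D.rank)}
    (L : CoxLink D F M) :
    ∃ S : IwahoriData ↥(D.group F) F M.toCoxeterSystem,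
      S.B = (D.borelSubgroup F).subgroupOf (D.group F) :=
  ⟨{ B := C.P.B
     cell := C.cellC L
     nn := C.nnC
     xh := C.xhC
     cell_mul := fun g _ hb _ hb' => C.cellC_mul L g hb hb'
     cell_eq := C.cellC_exists_eq L
     cell_one := C.cellC_one L
     cell_inv := C.cellC_inv L
     cell_nn := C.cellC_nn L
     cell_up := C.cellC_up L
     xh_mem := C.xhC_mem
     dec := C.decC
     nn_sq := C.nnC_sq
     rel := C.relC L
     card_cell := C.card_cellC L }, C.hPB⟩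

end CellCtx

end Cfsg.Agent.Lib.helper41
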