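import Cfsg.Agent.Lib.helper41.ChevIwahori
import Cfsg.Agent.Lib.helper41.ChevSteinAll
import Cfsg.Agent.Lib.helper41.ChevCoxG2
import Cfsg.Agent.Lib.helper41.ChevCoxB2
import Cfsg.Agent.Lib.helper41.ChevCoxD4
import Cfsg.Agent.Lib.helper41.ChevCoxF4
import Cfsg.Agent.Lib.helper41.ChevCoxE6
import Cfsg.Agent.Lib.helper41.ChevCoxE7
import Cfsg.Agent.Lib.helper41.ChevCoxE8

/-!
The number of irreducible constituents of the permutation character of a Chevalley group on the
cosets of the Borel subgroup is the number of conjugacy classes of the Weyl group: the dimension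
of the centre of the Hecke algebra is the corank of a matrix of polynomials at the inverse of the
order of the field, and the comparison with the group algebra of the Weyl group (the value at `1`)
goes through the prime fields.
-/

set_option autoImplicit false

namespace Cfsg.Agent.Lib.helper41

open Cfsg.Lie Cfsg.Agent.Lib.helper22 Cfsg.Agent.Lib

universe u

theorem coxLink_of_hom {D : ChevalleyDatum} {F : Type u} [Field F]
    {M : CoxeterMatrix (Fin D.rank)}
    (h : ∃ φ : ↥(D.monomialSubgroup F) →* M.Group, Function.Surjective φ ∧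
      φ.ker = (D.diagonalSubgroup F).subgroupOf (D.monomialSubgroup F) ∧
      ∀ (i : Fin D.rank) (g : ↥(D.monomialSubgroup F)),
        ((g : GL D.Idx F) : Matrix D.Idx D.Idx F) = D.nMat F (D.simple i) 1 →
          φ g = M.simple i) : Nonempty (CoxLink D F M) := by
  obtain ⟨φ, h1, h2, h3⟩ := h
  exact ⟨⟨φ, h1, h2, h3⟩⟩

set_option maxHeartbeats 1000000 in
/-- the number of constituents of the permutation character on the cosets of the Borel subgroup
is the number of conjugacy classes of the Coxeter group of the type -/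
theorem card_constituents_weyl (D : ChevalleyDatum)
    (hD : D ∈ [chevG2, chevB2, chevD4, chevF4, chevE6, chevE7, chevE8])
    (M : CoxeterMatrix (Fin D.rank))
    (h0 : ∀ (p : ℕ) [Fact p.Prime], Nonempty (CoxLink D (ZMod p) M))
    {F : Type u} [Field F] [Fintype F] (LF : CoxLink D F M) :
    Nat.card {χ : Cfsg.IrrCharacter ↥(D.group F) //
      ∃ φ : ↥(D.group F) → ℂ, Cfsg.IsCharacter ↥(D.group F) φ ∧
        Cfsg.fixedPointCharacter ((D.borelSubgroup F).subgroupOf (D.group F)) =
          (χ : ↥(D.group F) → ℂ) + φ} = Nat.card (ConjClasses M.Group) := by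
  classical
  haveI : Finite M.Group := Finite.of_surjective LF.φ LF.surj
  haveI : Fintype M.Group := Fintype.ofFinite _
  haveI : Fintype ↥(D.group F) := Fintype.ofFinite _
  obtain ⟨C⟩ := cellCtx_all D hD F
  obtain ⟨S, hSB⟩ := C.exists_iwahoriData LF
  have hS := S.ranks
  have hprime : ∀ p : ℕ, p.Prime →
      (evalMat (IP M.toCoxeterSystem) ((p : ℂ)⁻¹)).rank +
        (evalMat (DP M.toCoxeterSystem) ((p : ℂ)⁻¹)).rank = Fintype.card M.Group := by
    intro p hp
    haveI : Fact p.Prime := ⟨hp⟩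
    haveI : NeZero p := ⟨hp.ne_zero⟩
    haveI : Fintype ↥(D.group (ZMod p)) := Fintype.ofFinite _
    obtain ⟨C'⟩ := cellCtx_all D hD (ZMod p)
    obtain ⟨L'⟩ := h0 p
    obtain ⟨S', -⟩ := C'.exists_iwahoriData L'
    have h := S'.ranks
    have hu : S'.u = (p : ℂ)⁻¹ := by
      unfold IwahoriData.u
      rw [ZMod.card]
    rw [hu] at h
    omega
  have hinf : {u : ℂ | ∃ p : ℕ, p.Prime ∧ u = (p : ℂ)⁻¹}.Infinite := by
    have h1 : Set.InjOn (fun p : ℕ => ((p : ℂ)⁻¹)) {p : ℕ | p.Prime} := by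
      intro a _ b _ hab
      have h2 : (a : ℂ) = (b : ℂ) := inv_injective hab
      exact_mod_cast h2
    have h2 := Nat.infinite_setOf_prime.image h1
    apply h2.mono
    rintro _ ⟨p, hp, rfl⟩
    exact ⟨p, hp, rfl⟩
  have hTinf : ({u : ℂ | ∃ p : ℕ, p.Prime ∧ u = (p : ℂ)⁻¹} ∪ {S.u}).Infinite :=
    hinf.mono Set.subset_union_left
  have hT' : ∀ u ∈ ({u : ℂ | ∃ p : ℕ, p.Prime ∧ u = (p : ℂ)⁻¹} ∪ {S.u} : Set ℂ),
      (evalMat (IP M.toCoxeterSystem) u).rank + (evalMat (DP M.toCoxeterSystem) u).rank =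
        Fintype.card M.Group := by
    rintro u (⟨p, hp, rfl⟩ | hu)
    · exact hprime p hp
    · rw [Set.mem_singleton_iff] at hu
      rw [hu]
      omega
  obtain ⟨h1I, h1D⟩ := rank_at_one M.toCoxeterSystem
  have hfin := rank_squeeze (DP M.toCoxeterSystem) (IP M.toCoxeterSystem) _ _ hTinf hT' h1I h1D
    S.u (Set.mem_union_right _ rfl)
  have hcard : Nat.card (IrrOf S.B) = Nat.card (ConjClasses M.Group) := by omega
  rw [← hSB, card_constituents S.B, hcard]

set_option maxHeartbeats 1000000 in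
/-- the number of constituents of the permutation character on the cosets of the Borel subgroup,
for the seven types -/
theorem principal_series_card_all {F : Type u} [Field F] [Fintype F]
    (dw : ChevalleyDatum × (Σ n : ℕ, CoxeterMatrix (Fin n)))
    (hdw : dw ∈ [(chevG2, ⟨2, CoxeterMatrix.G₂⟩), (chevB2, ⟨2, CoxeterMatrix.B 2⟩),
      (chevD4, ⟨4, coxeterD4⟩), (chevF4, ⟨4, CoxeterMatrix.F₄⟩), (chevE6, ⟨6, CoxeterMatrix.E₆⟩),
      (chevE7, ⟨7, CoxeterMatrix.E₇⟩), (chevE8, ⟨8, CoxeterMatrix.E₈⟩)]) :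
    Nat.card {χ : Cfsg.IrrCharacter ↥(dw.1.group F) //
      ∃ φ : ↥(dw.1.group F) → ℂ, Cfsg.IsCharacter ↥(dw.1.group F) φ ∧
        Cfsg.fixedPointCharacter ((dw.1.borelSubgroup F).subgroupOf (dw.1.group F)) =
          (χ : ↥(dw.1.group F) → ℂ) + φ} = Nat.card (ConjClasses dw.2.2.Group) := by
  simp only [List.mem_cons, List.not_mem_nil, or_false] at hdw
  rcases hdw with rfl | rfl | rfl | rfl | rfl | rfl | rfl
  · obtain ⟨L⟩ := coxLink_of_hom (D := chevG2) (F := F) (M := CoxeterMatrix.G₂) TabG2.coxeter_hom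
    exact card_constituents_weyl chevG2 (by simp) CoxeterMatrix.G₂
      (fun p _ => coxLink_of_hom TabG2.coxeter_hom) L
  · obtain ⟨L⟩ := coxLink_of_hom (D := chevB2) (F := F) (M := CoxeterMatrix.B 2) TabB2.coxeter_hom
    exact card_constituents_weyl chevB2 (by simp) (CoxeterMatrix.B 2)
      (fun p _ => coxLink_of_hom TabB2.coxeter_hom) L
  · obtain ⟨L⟩ := coxLink_of_hom (D := chevD4) (F := F) (M := coxeterD4) TabD4.coxeter_hom
    exact card_constituents_weyl chevD4 (by simp) coxeterD4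
      (fun p _ => coxLink_of_hom TabD4.coxeter_hom) L
  · obtain ⟨L⟩ := coxLink_of_hom (D := chevF4) (F := F) (M := CoxeterMatrix.F₄) TabF4.coxeter_hom
    exact card_constituents_weyl chevF4 (by simp) CoxeterMatrix.F₄
      (fun p _ => coxLink_of_hom TabF4.coxeter_hom) L
  · obtain ⟨L⟩ := coxLink_of_hom (D := chevE6) (F := F) (M := CoxeterMatrix.E₆) TabE6.coxeter_hom
    exact card_constituents_weyl chevE6 (by simp) CoxeterMatrix.E₆
      (fun p _ => coxLink_of_hom TabE6.coxeter_hom) L
  · obtain ⟨L⟩ := coxLink_of_hom (D := chevE7) (F := F) (M := CoxeterMatrix.E₇) TabE7.coxeter_hom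
    exact card_constituents_weyl chevE7 (by simp) CoxeterMatrix.E₇
      (fun p _ => coxLink_of_hom TabE7.coxeter_hom) L
  · obtain ⟨L⟩ := coxLink_of_hom (D := chevE8) (F := F) (M := CoxeterMatrix.E₈) TabE8.coxeter_hom
    exact card_constituents_weyl chevE8 (by simp) CoxeterMatrix.E₈
      (fun p _ => coxLink_of_hom TabE8.coxeter_hom) L

end Cfsg.Agent.Lib.helper41
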