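import Cfsg.Agent.Lib.helper41.ChevOrder
import Cfsg.Agent.Lib.helper41.WeylTab

/-!
The homomorphism `N → W` (Weyl group as a permutation group of the root indices) with kernel
`H`, the Coxeter relations in `W` from the root tables, and `N / H ≅` the abstract Coxeter
group when the orders agree.
-/

set_option autoImplicit false

namespace Cfsg.Agent.Lib.helper41

open Cfsg.Lie Cfsg.Agent.Lib.helper22

section Hom

variable {D : ChevalleyDatum} {F : Type*} [Field F]

/-- the homomorphism `N → W`, onto, with kernel `H`, sending `n_{p_i}(1)` to the `i`-th simple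
reflection -/
theorem exists_weyl_hom {η : ℕ → ℕ → ℤ} (I : BNInput D F η) (hp : PrimHyp D F)
    {A : WeylData D.nroots D.rank} (hA : WLink D A)
    (hBG : D.borelSubgroup F ≤ D.group F) (hNG : D.monomialSubgroup F ≤ D.group F)
    (hG : D.group F ≤ D.borelSubgroup F ⊔ D.monomialSubgroup F) :
    ∃ ψ : ↥(D.monomialSubgroup F) →* ↥(A.W Set.univ), Function.Surjective ψ ∧
      ψ.ker = (D.diagonalSubgroup F).subgroupOf (D.monomialSubgroup F) ∧
      ∀ (i : Fin D.rank) (g : ↥(D.monomialSubgroup F)),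
        ((g : GL D.Idx F) : Matrix D.Idx D.Idx F) = D.nMat F (D.simple i.val) 1 →
          (ψ g : Equiv.Perm (Fin D.nroots)) = A.σ i := by
  have hex : ∀ n : ↥(D.monomialSubgroup F), ∃ w : ↥(A.W Set.univ), ActsAs D F n.1 w.1 := by
    intro n
    obtain ⟨w, hw, h⟩ := exists_actsAs I hA n.2
    exact ⟨⟨w, hw⟩, h⟩
  choose f hf using hex
  have hmul : ∀ a b, f (a * b) = f a * f b := fun a b =>
    Subtype.ext (ActsAs.unique I hp (hf (a * b)) ((hf a).mul (hf b)))
  refine ⟨MonoidHom.mk' f hmul, ?_, ?_, ?_⟩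
  · intro w
    obtain ⟨n, hn, h⟩ := exists_monomial_actsAs I hp hA w.2
    exact ⟨⟨n, hn⟩, Subtype.ext (ActsAs.unique I hp (hf ⟨n, hn⟩) h)⟩
  · ext n
    rw [MonoidHom.mem_ker, Subgroup.mem_subgroupOf]
    constructor
    · intro h
      have h1 := hf n
      have h2 : f n = 1 := h
      rw [h2] at h1
      exact mem_diag_of_actsAs_one I hp hA hBG hNG hG n.1 n.2 h1
    · intro h
      exact Subtype.ext (ActsAs.unique I hp (hf n) (actsAs_diag I h))
  · intro i g hg
    exact ActsAs.unique I hp (hf g) (actsAs_simple I hA i hg)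

/-- `N / H` is the abstract Coxeter group, given the Coxeter relations in `W` and the equality
of the orders -/
theorem exists_coxeter_hom {η : ℕ → ℕ → ℤ} (I : BNInput D F η) (hp : PrimHyp D F)
    {A : WeylData D.nroots D.rank} (hA : WLink D A)
    (hBG : D.borelSubgroup F ≤ D.group F) (hNG : D.monomialSubgroup F ≤ D.group F)
    (hG : D.group F ≤ D.borelSubgroup F ⊔ D.monomialSubgroup F)
    (M : CoxeterMatrix (Fin D.rank)) (hrel : ∀ i j : Fin D.rank, (A.σ i * A.σ j) ^ (M i j) = 1)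
    (hcard : Nat.card M.Group = Nat.card (A.W Set.univ)) :
    ∃ φ : ↥(D.monomialSubgroup F) →* M.Group, Function.Surjective φ ∧
      φ.ker = (D.diagonalSubgroup F).subgroupOf (D.monomialSubgroup F) ∧
      ∀ (i : Fin D.rank) (g : ↥(D.monomialSubgroup F)),
        ((g : GL D.Idx F) : Matrix D.Idx D.Idx F) = D.nMat F (D.simple i.val) 1 →
          φ g = M.simple i := by
  obtain ⟨ψ, hsurj, hker, hsimple⟩ := exists_weyl_hom I hp hA hBG hNG hG
  let f : Fin D.rank → ↥(A.W Set.univ) := fun i => ⟨A.σ i, A.σ_mem_W _ i (Set.mem_univ i)⟩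
  have hf : M.IsLiftable f := fun i j => Subtype.ext (hrel i j)
  let θ : M.Group →* ↥(A.W Set.univ) := M.toCoxeterSystem.lift ⟨f, hf⟩
  have hθs : ∀ i, θ (M.simple i) = f i := fun i => M.toCoxeterSystem.lift_apply_simple hf i
  have hθsurj : Function.Surjective θ := by
    rintro ⟨w, hw⟩
    refine Subgroup.closure_induction (p := fun x hx => ∃ y, θ y = ⟨x, hx⟩) ?_ ?_ ?_ ?_ hw
    · rintro x ⟨i, -, rfl⟩
      exact ⟨M.simple i, hθs i⟩
    · exact ⟨1, map_one θ⟩
    · rintro x y hx hy ⟨a, ha⟩ ⟨b, hb⟩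
      exact ⟨a * b, by rw [map_mul, ha, hb]; rfl⟩
    · rintro x hx ⟨a, ha⟩
      exact ⟨a⁻¹, by rw [map_inv, ha]; rfl⟩
  have hfinM : Finite M.Group := by
    apply Nat.finite_of_card_ne_zero
    rw [hcard]
    exact Nat.card_pos.ne'
  have hθbij : Function.Bijective θ := (Nat.bijective_iff_surjective_and_card θ).mpr ⟨hθsurj, hcard⟩
  let e : M.Group ≃* ↥(A.W Set.univ) := MulEquiv.ofBijective θ hθbij
  refine ⟨e.symm.toMonoidHom.comp ψ, e.symm.surjective.comp hsurj, ?_, ?_⟩
  · rw [← hker]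
    ext n
    rw [MonoidHom.mem_ker, MonoidHom.mem_ker]
    show e.symm (ψ n) = 1 ↔ ψ n = 1
    exact MulEquiv.map_eq_one_iff e.symm
  · intro i g hg
    show e.symm (ψ g) = M.simple i
    rw [MulEquiv.symm_apply_eq]
    show ψ g = θ (M.simple i)
    rw [hθs i]
    exact Subtype.ext (hsimple i g hg)

end Hom

/-! ### The Coxeter relations from the root tables -/

/-- `(rf i ∘ rf j)^m` on the root indices -/
def relIter (R : RootTab) (i j : ℕ) : ℕ → ℕ → ℕ
  | 0, r => r
  | m + 1, r => R.rf i (R.rf j (relIter R i j m r))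

/-- Boolean check of the relations `(σ_i σ_j)^{m i j} = 1` -/
def relOK (R : RootTab) (m : ℕ → ℕ → ℕ) : Bool :=
  allBelow R.l fun i => allBelow R.l fun j => allBelow R.n fun r =>
    Nat.beq (relIter R i j (m i j) r) r

theorem relIter_eq (R : RootTab) (hR : R.Valid) (i j : Fin R.l) (m : ℕ) (r : Fin R.n) :
    ((((R.weyl hR).σ i * (R.weyl hR).σ j) ^ m) r).val = relIter R i.val j.val m r.val := by
  induction m with
  | zero => rfl
  | succ m ih =>
    rw [pow_succ', Equiv.Perm.mul_apply, Equiv.Perm.mul_apply]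
    show R.rf i.val (R.rf j.val _) = R.rf i.val (R.rf j.val _)
    rw [ih]

theorem rel_of_ok (R : RootTab) (hR : R.Valid) (m : ℕ → ℕ → ℕ) (h : relOK R m = true)
    (i j : Fin R.l) : ((R.weyl hR).σ i * (R.weyl hR).σ j) ^ (m i.val j.val) = 1 := by
  apply Equiv.ext
  intro r
  apply Fin.ext
  rw [relIter_eq]
  have h1 := (allBelow_iff _ _).mp ((allBelow_iff _ _).mp ((allBelow_iff _ _).mp h i.val i.isLt)
    j.val j.isLt) r.val r.isLt
  exact Nat.eq_of_beq_eq_true h1

end Cfsg.Agent.Lib.helper41
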