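import Cfsg.Agent.Lib.helper41.ChevRad
import Cfsg.Agent.Lib.helper41.ChevStein

/-!
The alternating sums of the permutation characters on the cosets of the parabolic subgroups
contained in `P_J`, at an element of `U`: the fixed cosets of `B` in the cells of the elements
making the simple roots of `J` negative, counted through the cosets of `P_J` whose conjugate of
the radical contains the element.
-/

set_option autoImplicit false

namespace Cfsg.Agent.Lib.helper41

open Cfsg.Lie Cfsg.Agent.Lib.helper22 Cfsg.Agent.Lib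

universe u

namespace CellCtx

variable {D : ChevalleyDatum} {F : Type u} [Field F] (C : CellCtx D F)

/-- the unipotent radical as a subgroup of the group -/
def radG (J : Set ℕ) : Subgroup ↥(D.group F) := (C.rad J).subgroupOf (D.group F)

theorem mem_radG (J : Set ℕ) (x : ↥(D.group F)) :
    x ∈ C.radG J ↔ (x : GL D.Idx F) ∈ C.rad J := Subgroup.mem_subgroupOf

theorem radG_le_B (J : Set ℕ) : C.radG J ≤ C.P.B := fun x hx =>
  (C.memB x).mpr (Subgroup.mem_sup_left (C.rad_le_pos J ((C.mem_radG J x).mp hx)))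

/-- the elements of the group normalising the radical -/
def nrmSub (J : Set ℕ) : Subgroup ↥(D.group F) where
  carrier := {g | C.Nrm J (g : GL D.Idx F)}
  mul_mem' := fun {a b} ha hb => by
    show C.Nrm J ((a * b : ↥(D.group F)) : GL D.Idx F)
    exact C.nrm_mul J ha hb
  one_mem' := C.nrm_one J
  inv_mem' := fun {a} ha => by
    show C.Nrm J ((a⁻¹ : ↥(D.group F)) : GL D.Idx F)
    exact C.nrm_inv J ha

theorem parabolic_le_nrmSub [Fintype F] (J : Set ℕ) :
    C.P.parabolic (simpleSet D F J) ≤ C.nrmSub J := by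
  unfold Cfsg.BNPair.parabolic
  apply sup_le
  · intro x hx
    exact C.nrm_of_borel J ((C.memB x).mp hx)
  · rw [Subgroup.closure_le]
    rintro s ⟨j, hjJ, hj, hs⟩
    exact C.nrm_of_actsAs J (simpleNSet_subset C.I ⟨j, hj, hs⟩)
      (actsAs_simple C.I C.hA ⟨j, hj⟩ hs) (C.A.σ_mem_W _ _ hjJ)

/-- `P_J` normalises the radical -/
theorem radG_conj [Fintype F] (J : Set ℕ) {p y : ↥(D.group F)}
    (hp : p ∈ C.P.parabolic (simpleSet D F J)) (hy : y ∈ C.radG J) :
    p * y * p⁻¹ ∈ C.radG J := by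
  rw [mem_radG] at hy ⊢
  exact (C.parabolic_le_nrmSub J hp _ hy).1

theorem radG_conj' [Fintype F] (J : Set ℕ) {p y : ↥(D.group F)}
    (hp : p ∈ C.P.parabolic (simpleSet D F J)) (hy : y ∈ C.radG J) :
    p⁻¹ * y * p ∈ C.radG J := by
  rw [mem_radG] at hy ⊢
  exact (C.parabolic_le_nrmSub J hp _ hy).2

/-- `w` makes all the simple roots of `J` negative -/
def LongAt (J : Set ℕ) (w : Equiv.Perm (Fin D.nroots)) : Prop :=
  ∀ j ∈ nodesOf D J, ¬ C.A.pos (w (C.A.simple j))

/-- the alternating sum over `K ⊆ J` of the permutation characters on the cosets of `P_K`, at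
an element of `B`, is its number of fixed cosets of `B` in the cells of the elements making the
simple roots of `J` negative -/
theorem steinbergJ_borel [Finite F] (J : Finset ℕ) (hJ : J ⊆ Finset.range D.rank)
    {b : ↥(D.group F)} (hb : b ∈ C.P.B) :
    ∑ K ∈ J.powerset, (-1 : ℂ) ^ K.card * Cfsg.fixedPointCharacter (D.parabolicIn F K) b =
      (Nat.card {c : ↥(D.group F) ⧸ C.P.B // C.LongAt ↑J (C.cellQ c) ∧ b • c = c} : ℂ) := by
  classical
  have hfix : ∀ K : Finset ℕ,
      Cfsg.fixedPointCharacter (D.parabolicIn F K) b =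
      ∑ w : Equiv.Perm (Fin D.nroots),
        (Nat.card {x : {c : ↥(D.group F) ⧸ C.P.B //
          C.A.Red (nodesOf D ↑K) (C.cellQ c) ∧ b • c = c} //
          C.cellQ x.1 = w} : ℂ) := by
    intro K
    show (Nat.card (MulAction.fixedBy (↥(D.group F) ⧸ D.parabolicIn F K) b) : ℂ) = _
    rw [C.parabolicIn_eq K, C.card_fixed_parabolic K hb,
      Nat.card_congr (Equiv.sigmaFiberEquiv (fun x : {c : ↥(D.group F) ⧸ C.P.B //
          C.A.Red (nodesOf D ↑K) (C.cellQ c) ∧ b • c = c} => C.cellQ x.1)).symm,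
      Nat.card_sigma]
    push_cast
    rfl
  have hlong : (Nat.card {c : ↥(D.group F) ⧸ C.P.B // C.LongAt ↑J (C.cellQ c) ∧ b • c = c} : ℂ) =
      ∑ w : Equiv.Perm (Fin D.nroots),
        (Nat.card {x : {c : ↥(D.group F) ⧸ C.P.B // C.LongAt ↑J (C.cellQ c) ∧ b • c = c} //
          C.cellQ x.1 = w} : ℂ) := by
    rw [Nat.card_congr (Equiv.sigmaFiberEquiv (fun x : {c : ↥(D.group F) ⧸ C.P.B //
          C.LongAt ↑J (C.cellQ c) ∧ b • c = c} => C.cellQ x.1)).symm,
      Nat.card_sigma]
    push_cast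
    rfl
  rw [Finset.sum_congr rfl (fun K _ => by rw [hfix K]), hlong]
  rw [C.A.alt_sum_sub J hJ
    (fun w => (Nat.card {c : ↥(D.group F) ⧸ C.P.B // C.cellQ c = w ∧ b • c = c} : ℂ))
    (fun K w => (Nat.card {x : {c : ↥(D.group F) ⧸ C.P.B //
          C.A.Red (nodesOf D ↑K) (C.cellQ c) ∧ b • c = c} //
          C.cellQ x.1 = w} : ℂ)) ?_ ?_]
  · apply Finset.sum_congr rfl
    intro w _
    by_cases hw : ∀ i : Fin D.rank, i.val ∈ J → ¬ C.A.pos (w (C.A.simple i))
    · rw [if_pos hw]
      congr 1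
      apply Nat.card_congr
      exact
        { toFun := fun y => ⟨⟨y.1, by rw [y.2.1]; exact fun i hi => hw i hi, y.2.2⟩, y.2.1⟩
          invFun := fun x => ⟨x.1.1, x.2, x.1.2.2⟩
          left_inv := fun y => rfl
          right_inv := fun x => rfl }
    · rw [if_neg hw]
      have hemp : IsEmpty {x : {c : ↥(D.group F) ⧸ C.P.B //
          C.LongAt ↑J (C.cellQ c) ∧ b • c = c} // C.cellQ x.1 = w} := by
        constructor
        rintro ⟨⟨c, hlg, hfx⟩, hcw⟩
        apply hw
        have hcw' : C.cellQ c = w := hcw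
        rw [← hcw']
        exact fun i hi => hlg i hi
      rw [Nat.card_of_isEmpty, Nat.cast_zero]
  · intro K w hcond
    show (Nat.card _ : ℂ) = (Nat.card _ : ℂ)
    congr 1
    apply Nat.card_congr
    exact
      { toFun := fun x => ⟨x.1.1, x.2, x.1.2.2⟩
        invFun := fun y => ⟨⟨y.1, by rw [y.2.1]; exact fun i hi => hcond i hi, y.2.2⟩, y.2.1⟩
        left_inv := fun x => rfl
        right_inv := fun y => rfl }
  · intro K w hcond
    show (Nat.card _ : ℂ) = 0
    have hemp : IsEmpty {x : {c : ↥(D.group F) ⧸ C.P.B //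
          C.A.Red (nodesOf D ↑K) (C.cellQ c) ∧ b • c = c} //
          C.cellQ x.1 = w} := by
      constructor
      rintro ⟨⟨c, hred, hfx⟩, hw⟩
      apply hcond
      have hw' : C.cellQ c = w := hw
      rw [← hw']
      exact fun i hi => hred i hi
    rw [Nat.card_of_isEmpty, Nat.cast_zero]

/-- the cell of `x p` for `x` in the cell of a `J`-reduced element and `p ∈ P_J` -/
theorem cellW_mul_of_red (J : Set ℕ) {x p : ↥(D.group F)}
    (hred : C.A.Red (nodesOf D J) (C.cellW x)) (hp : p ∈ C.P.parabolic (simpleSet D F J)) :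
    C.cellW p ∈ C.A.W (nodesOf D J) ∧ C.cellW (x * p) = C.cellW x * C.cellW p := by
  obtain ⟨m, hm, hpm⟩ := (helper8.mem_parabolic_iff C.P (C.simpleSet_subset J) p).mp hp
  have hmN : m ∈ C.P.N := helper8.closure_le_N C.P (C.simpleSet_subset J) hm
  obtain ⟨v, hv, hactm⟩ := C.actsAs_of_closure J hm
  obtain ⟨u, hu, rfl⟩ := (C.A.mem_W_iff _ v).mp hv
  have hdW := (C.cellW_spec x).1
  obtain ⟨n, hn, hg, hact⟩ := (C.cellW_spec x).2
  have h1 := C.dc_mul_of_red J hn hact hdW hred u.length u rfl hu m hmN hactm x hg p hpm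
  have e1 : C.cellW p = C.A.pw u := C.cellW_eq ⟨m, hmN, hpm, hactm⟩
  rw [e1]
  exact ⟨hv, C.cellW_eq ⟨n * m, C.P.N.mul_mem hn hmN, h1, hact.mul hactm⟩⟩

/-- an element acting as the long element of `W_J`, in `⟨n_p : p ∈ J⟩` -/
theorem exists_long_rep (J : Set ℕ) : ∃ nJ ∈ Subgroup.closure (simpleSet D F J),
    ∃ w, C.A.IsLong (nodesOf D J) w ∧ ActsAs D F (nJ : GL D.Idx F) w := by
  obtain ⟨w, hw⟩ := C.A.exists_long (nodesOf D J)
  obtain ⟨m, hm, hact⟩ := C.exists_closure_actsAs J hw.1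
  exact ⟨m, hm, w, hw, hact⟩

/-- an element in a cell making the simple roots of `J` negative: its cell is a `J`-reduced
element times the long element of `W_J` -/
theorem long_cell_decomp (J : Set ℕ) {y : ↥(D.group F)} (hy : C.LongAt J (C.cellW y)) :
    ∃ p ∈ C.P.parabolic (simpleSet D F J), C.A.Red (nodesOf D J) (C.cellW (y * p)) ∧
      C.A.IsLong (nodesOf D J) (C.cellW p⁻¹) ∧
      C.cellW y = C.cellW (y * p) * C.cellW p⁻¹ := by
  obtain ⟨p, hp, d, hcell, hred⟩ := C.exists_red J y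
  have hd := C.cellW_eq hcell
  rw [← hd] at hred
  obtain ⟨hv, e⟩ := C.cellW_mul_of_red J hred (inv_mem hp)
  rw [mul_inv_cancel_right] at e
  refine ⟨p, hp, hred, ?_, e⟩
  apply (C.X.long_of_red_mul (nodesOf D J) _ _ (C.cellW_spec _).1 hred hv).mp
  rw [← e]
  exact hy

end CellCtx

end Cfsg.Agent.Lib.helper41
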