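import Cfsg.Agent.Lib.helper41.ChevPar

/-!
Cosets of `B` in the cells making the simple roots of `J` negative: representatives, and
the conjugates of an element of `U` fixing such a coset.
-/

set_option autoImplicit false

namespace Cfsg.Agent.Lib.helper41

open Cfsg.Lie Cfsg.Agent.Lib.helper22 Cfsg.Agent.Lib

universe u

namespace CellCtx

variable {D : ChevalleyDatum} {F : Type u} [Field F] (C : CellCtx D F)

/-- for `x` in the cell of a `J`-reduced element and `p ∈ P_J` with `x p` in a cell making the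
simple roots of `J` negative, the coset `x p B` is `x a n_J B` with `a ∈ U` -/
theorem long_coset_eq (J : Set ℕ) {x p nJ : ↥(D.group F)} {w : Equiv.Perm (Fin D.nroots)}
    (hred : C.A.Red (nodesOf D J) (C.cellW x)) (hp : p ∈ C.P.parabolic (simpleSet D F J))
    (hlong : C.LongAt J (C.cellW (x * p))) (hnJ : nJ ∈ C.P.N)
    (hw : C.A.IsLong (nodesOf D J) w) (hactJ : ActsAs D F (nJ : GL D.Idx F) w) :
    ∃ a : ↥(D.group F), (a : GL D.Idx F) ∈ D.posUnipotent F ∧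
      (QuotientGroup.mk (x * p) : ↥(D.group F) ⧸ C.P.B) = QuotientGroup.mk (x * a * nJ) := by
  obtain ⟨hv, e⟩ := C.cellW_mul_of_red J hred hp
  have hvl : C.A.IsLong (nodesOf D J) (C.cellW p) :=
    (C.X.long_of_red_mul (nodesOf D J) _ _ (C.cellW_spec x).1 hred hv).mp
      (by rw [← e]; exact hlong)
  have hvw : C.cellW p = w := C.X.long_unique _ _ _ hvl hw
  obtain ⟨n', hn', hp', hact'⟩ := (C.cellW_spec p).2
  rw [hvw] at hact'
  have hnJ' := (C.memN nJ).mp hnJ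
  have hh : ((nJ⁻¹ * n' : ↥(D.group F)) : GL D.Idx F) ∈ D.diagonalSubgroup F := by
    apply mem_diag_of_actsAs_one C.I C.hp C.hA C.hBG C.hNG C.hG _
      (mul_mem (inv_mem hnJ') ((C.memN n').mp hn'))
    have := (hactJ.inv C.I C.hp C.hA hnJ').mul hact'
    rwa [inv_mul_cancel] at this
  obtain ⟨b1, hb1, b2, hb2, ep⟩ := (helper8.mem_dc_iff C.P).mp hp'
  obtain ⟨u', hu', h1, hh1, e1⟩ := borel_decomp C.I ((C.memB b1).mp hb1)
  have hUG : D.posUnipotent F ≤ D.group F := fun z hz => C.hBG (Subgroup.mem_sup_left hz)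
  have hHG : D.diagonalSubgroup F ≤ D.group F := fun z hz => C.hBG (Subgroup.mem_sup_right hz)
  refine ⟨⟨u', hUG hu'⟩, hu', ?_⟩
  rw [QuotientGroup.eq]
  have eb1 : b1 = (⟨u', hUG hu'⟩ : ↥(D.group F)) * ⟨h1, hHG hh1⟩ := Subtype.ext e1
  have hconj : nJ⁻¹ * (⟨h1, hHG hh1⟩ : ↥(D.group F)) * nJ ∈ C.P.B := by
    apply C.memB_of_diag
    have h2 := conj_mem_diag C.I (inv_mem hnJ') hh1
    rw [inv_inv] at h2
    exact h2
  have e2 : (x * p)⁻¹ * (x * (⟨u', hUG hu'⟩ : ↥(D.group F)) * nJ) =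
      b2⁻¹ * ((nJ⁻¹ * (⟨h1, hHG hh1⟩ : ↥(D.group F)) * nJ) * (nJ⁻¹ * n'))⁻¹ := by
    rw [ep, eb1]
    group
  rw [e2]
  exact mul_mem (inv_mem hb2) (inv_mem (mul_mem hconj (C.memB_of_diag _ hh)))

/-- an element of `U` fixing a coset `y B` in a cell making the simple roots of `J` negative is
conjugated by `y` into the radical -/
theorem fix_long_mem_rad [Fintype F] (J : Set ℕ) {u y : ↥(D.group F)}
    (hu : (u : GL D.Idx F) ∈ D.posUnipotent F) (hy : C.LongAt J (C.cellW y))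
    (hfix : y⁻¹ * u * y ∈ C.P.B) : y⁻¹ * u * y ∈ C.radG J := by
  obtain ⟨p, hp, hred, hlg, e⟩ := C.long_cell_decomp J hy
  have hdW := (C.cellW_spec (y * p)).1
  obtain ⟨n, hn, hyn, hact⟩ := (C.cellW_spec y).2
  rw [e] at hact
  have hnN := (C.memN n).mp hn
  obtain ⟨b3, hb3, b4, hb4, ey⟩ := (helper8.mem_dc_iff C.P).mp hyn
  obtain ⟨a3, ha3, h3, hh3, e3⟩ := borel_decomp C.I ((C.memB b3).mp hb3)
  have hk : (n : GL D.Idx F)⁻¹ * h3 * n ∈ D.diagonalSubgroup F := by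
    have h2 := conj_mem_diag C.I (inv_mem hnN) hh3
    rwa [inv_inv] at h2
  have hb5 : (n : GL D.Idx F)⁻¹ * h3 * n * (b4 : GL D.Idx F) ∈ D.borelSubgroup F :=
    mul_mem (Subgroup.mem_sup_right hk) ((C.memB b4).mp hb4)
  have hyGL : (y : GL D.Idx F) =
      a3 * n * ((n : GL D.Idx F)⁻¹ * h3 * n * (b4 : GL D.Idx F)) := by
    rw [ey]
    push_cast
    rw [e3]
    group
  have hy0 : a3⁻¹ * (u : GL D.Idx F) * a3 ∈ D.posUnipotent F :=
    mul_mem (mul_mem (inv_mem ha3) hu) ha3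
  have hfixGL : (y : GL D.Idx F)⁻¹ * (u : GL D.Idx F) * (y : GL D.Idx F) ∈ D.borelSubgroup F :=
    (C.memB _).mp hfix
  have hz : (n : GL D.Idx F)⁻¹ * (a3⁻¹ * (u : GL D.Idx F) * a3) * ((n : GL D.Idx F)⁻¹)⁻¹ ∈
      D.borelSubgroup F := by
    have e4 : (n : GL D.Idx F)⁻¹ * (a3⁻¹ * (u : GL D.Idx F) * a3) * ((n : GL D.Idx F)⁻¹)⁻¹ =
        ((n : GL D.Idx F)⁻¹ * h3 * n * (b4 : GL D.Idx F)) *
          ((y : GL D.Idx F)⁻¹ * (u : GL D.Idx F) * (y : GL D.Idx F)) *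
          ((n : GL D.Idx F)⁻¹ * h3 * n * (b4 : GL D.Idx F))⁻¹ := by
      rw [hyGL]
      group
    rw [e4]
    exact mul_mem (mul_mem hb5 hfixGL) (inv_mem hb5)
  have hactinv := hact.inv C.I C.hp C.hA hnN
  have h1 := C.mem_posPart_of_conj_borel (inv_mem hnN) hy0 hz
  rw [C.posPart_eq_closure (inv_mem hnN) hactinv] at h1
  have h2 : (n : GL D.Idx F)⁻¹ * (a3⁻¹ * (u : GL D.Idx F) * a3) * ((n : GL D.Idx F)⁻¹)⁻¹ ∈
      C.rad J := by
    apply conj_rootSetOf hactinv _ _ _ _ h1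
    intro r hr
    refine ⟨hr.2, ?_⟩
    apply C.X.out_of_red_long (nodesOf D J) _ _ hdW hred hlg _ hr.2
    rw [← Equiv.Perm.mul_apply, perm_apply_inv]
    exact hr.1
  rw [mem_radG]
  have e5 : ((y⁻¹ * u * y : ↥(D.group F)) : GL D.Idx F) =
      ((n : GL D.Idx F)⁻¹ * h3 * n * (b4 : GL D.Idx F))⁻¹ *
        ((n : GL D.Idx F)⁻¹ * (a3⁻¹ * (u : GL D.Idx F) * a3) * ((n : GL D.Idx F)⁻¹)⁻¹) *
        ((n : GL D.Idx F)⁻¹ * h3 * n * (b4 : GL D.Idx F)) := by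
    push_cast
    rw [hyGL]
    group
  rw [e5]
  exact (C.nrm_of_borel J hb5 _ h2).2

/-- the coset `e` of `P_J` conjugates `g` into the radical -/
def InRad (J : Set ℕ) (g : ↥(D.group F))
    (e : ↥(D.group F) ⧸ C.P.parabolic (simpleSet D F J)) : Prop :=
  e.out⁻¹ * g * e.out ∈ C.radG J

theorem inRad_mk [Fintype F] (J : Set ℕ) (g y : ↥(D.group F)) :
    C.InRad J g (QuotientGroup.mk y) ↔ y⁻¹ * g * y ∈ C.radG J := by
  obtain ⟨p, hp⟩ := QuotientGroup.mk_out_eq_mul (C.P.parabolic (simpleSet D F J)) y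
  unfold InRad
  rw [hp]
  have e : (y * (p : ↥(D.group F)))⁻¹ * g * (y * (p : ↥(D.group F))) =
      (p : ↥(D.group F))⁻¹ * (y⁻¹ * g * y) * (p : ↥(D.group F)) := by group
  rw [e]
  constructor
  · intro h
    have h2 := C.radG_conj J p.2 h
    have e2 : (p : ↥(D.group F)) * ((p : ↥(D.group F))⁻¹ * (y⁻¹ * g * y) * (p : ↥(D.group F))) *
        (p : ↥(D.group F))⁻¹ = y⁻¹ * g * y := by group
    rwa [e2] at h2
  · intro h
    exact C.radG_conj' J p.2 h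

end CellCtx

end Cfsg.Agent.Lib.helper41
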