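import Cfsg.Agent.Lib.helper41.ChevPar2

/-!
The count of the fixed cosets of `B` of an element of `U` in the cells making the simple roots
of `J` negative.
-/

set_option autoImplicit false

namespace Cfsg.Agent.Lib.helper41

open Cfsg.Lie Cfsg.Agent.Lib.helper22 Cfsg.Agent.Lib

universe u

namespace CellCtx

variable {D : ChevalleyDatum} {F : Type u} [Field F] (C : CellCtx D F)

/-- the fixed cosets of `B` of an element of `U` in the cells making the simple roots of `J`
negative, counted through the cosets of `P_J` conjugating the element into the radical -/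
theorem card_fixed_long [Fintype F] (J : Set ℕ) {u : ↥(D.group F)}
    (hu : (u : GL D.Idx F) ∈ D.posUnipotent F) :
    Nat.card {c : ↥(D.group F) ⧸ C.P.B // C.LongAt J (C.cellQ c) ∧ u • c = c} *
        Nat.card (C.radG J) =
      Fintype.card F ^ (D.nroots / 2) *
        Nat.card {e : ↥(D.group F) ⧸ C.P.parabolic (simpleSet D F J) // C.InRad J u e} := by
  classical
  have hBP : C.P.B ≤ C.P.parabolic (simpleSet D F J) := helper8.B_le_parabolic C.P _
  obtain ⟨nJ, hnJc, w, hw, hactJ⟩ := C.exists_long_rep J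
  have hnJN : nJ ∈ C.P.N := helper8.closure_le_N C.P (C.simpleSet_subset J) hnJc
  have hnJ' := (C.memN nJ).mp hnJN
  have hnJP : nJ ∈ C.P.parabolic (simpleSet D F J) :=
    (le_sup_right : Subgroup.closure (simpleSet D F J) ≤ C.P.parabolic _) hnJc
  have hUG : D.posUnipotent F ≤ D.group F := fun z hz => C.hBG (Subgroup.mem_sup_left hz)
  have hφ : ∀ c : {c : ↥(D.group F) ⧸ C.P.B // C.LongAt J (C.cellQ c) ∧ u • c = c},
      C.InRad J u (QuotientGroup.mk c.1.out :
        ↥(D.group F) ⧸ C.P.parabolic (simpleSet D F J)) := by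
    rintro ⟨c, hlg, hfx⟩
    rw [C.inRad_mk]
    apply C.fix_long_mem_rad J hu hlg
    have h1 : u • (QuotientGroup.mk c.out : ↥(D.group F) ⧸ C.P.B) = QuotientGroup.mk c.out := by
      rw [QuotientGroup.out_eq']
      exact hfx
    rwa [smul_mk_eq_mk_iff] at h1
  let φ : {c : ↥(D.group F) ⧸ C.P.B // C.LongAt J (C.cellQ c) ∧ u • c = c} →
      {e : ↥(D.group F) ⧸ C.P.parabolic (simpleSet D F J) // C.InRad J u e} :=
    fun c => ⟨QuotientGroup.mk c.1.out, hφ c⟩
  have hfin : Fintype {e : ↥(D.group F) ⧸ C.P.parabolic (simpleSet D F J) // C.InRad J u e} :=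
    Fintype.ofFinite _
  have hfib : ∀ e : {e : ↥(D.group F) ⧸ C.P.parabolic (simpleSet D F J) // C.InRad J u e},
      Nat.card {c // φ c = e} * Nat.card (C.radG J) = Fintype.card F ^ (D.nroots / 2) := by
    rintro ⟨e0, he0⟩
    obtain ⟨p0, hp0, d, hcell, hred⟩ := C.exists_red J e0.out
    have hdx := C.cellW_eq hcell
    rw [← hdx] at hred
    have hdW := (C.cellW_spec (e0.out * p0)).1
    have hxe : (QuotientGroup.mk (e0.out * p0) :
        ↥(D.group F) ⧸ C.P.parabolic (simpleSet D F J)) = e0 := by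
      conv_rhs => rw [← QuotientGroup.out_eq' e0]
      rw [QuotientGroup.eq]
      have : (e0.out * p0)⁻¹ * e0.out = p0⁻¹ := by group
      rw [this]
      exact inv_mem hp0
    have hxu : (e0.out * p0)⁻¹ * u * (e0.out * p0) ∈ C.radG J := by
      rw [← C.inRad_mk, hxe]
      exact he0
    -- the three properties of the coset `x a n_J B`
    have hψ1 : ∀ a : ↥(D.group F), a ∈ C.P.B →
        C.LongAt J (C.cellQ (QuotientGroup.mk (e0.out * p0 * a * nJ) :
          ↥(D.group F) ⧸ C.P.B)) := by
      intro a ha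
      rw [C.cellQ_mk]
      have hanJ : a * nJ ∈ C.P.parabolic (simpleSet D F J) := mul_mem (hBP ha) hnJP
      obtain ⟨-, e1⟩ := C.cellW_mul_of_red J hred hanJ
      have e2 : C.cellW (a * nJ) = w := by
        rw [C.cellW_mul_left nJ ha]
        exact C.cellW_eq ⟨nJ, hnJN, helper8.mem_dc_self C.P nJ, hactJ⟩
      have e3 : e0.out * p0 * a * nJ = e0.out * p0 * (a * nJ) := by group
      rw [e3, e1, e2]
      exact (C.X.long_of_red_mul (nodesOf D J) _ _ hdW hred hw.1).mpr hw
    have hψ2 : ∀ a : ↥(D.group F), a ∈ C.P.B →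
        u • (QuotientGroup.mk (e0.out * p0 * a * nJ) : ↥(D.group F) ⧸ C.P.B) =
          QuotientGroup.mk (e0.out * p0 * a * nJ) := by
      intro a ha
      rw [smul_mk_eq_mk_iff]
      have hanJ : a * nJ ∈ C.P.parabolic (simpleSet D F J) := mul_mem (hBP ha) hnJP
      have e3 : (e0.out * p0 * a * nJ)⁻¹ * u * (e0.out * p0 * a * nJ) =
          (a * nJ)⁻¹ * ((e0.out * p0)⁻¹ * u * (e0.out * p0)) * (a * nJ) := by group
      rw [e3]
      exact C.radG_le_B J (C.radG_conj' J hanJ hxu)
    have hψ3 : ∀ a : ↥(D.group F), a ∈ C.P.B →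
        (QuotientGroup.mk (QuotientGroup.mk (e0.out * p0 * a * nJ) :
          ↥(D.group F) ⧸ C.P.B).out :
          ↥(D.group F) ⧸ C.P.parabolic (simpleSet D F J)) = e0 := by
      intro a ha
      obtain ⟨b, hb⟩ := QuotientGroup.mk_out_eq_mul C.P.B (e0.out * p0 * a * nJ)
      rw [hb]
      refine Eq.trans ?_ hxe
      rw [QuotientGroup.eq]
      have e3 : (e0.out * p0 * a * nJ * (b : ↥(D.group F)))⁻¹ * (e0.out * p0) =
          (a * nJ * (b : ↥(D.group F)))⁻¹ := by group
      rw [e3]
      exact inv_mem (mul_mem (mul_mem (hBP ha) hnJP) (hBP b.2))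
    have hUB : ∀ a : ↥((D.posUnipotent F).subgroupOf (D.group F)),
        (a : ↥(D.group F)) ∈ C.P.B := fun a =>
      (C.memB _).mpr (Subgroup.mem_sup_left (Subgroup.mem_subgroupOf.mp a.2))
    -- the bijection with the cosets of the radical in `U`
    have hbij : Function.Bijective
        (fun q : ↥((D.posUnipotent F).subgroupOf (D.group F)) ⧸
            (C.radG J).subgroupOf ((D.posUnipotent F).subgroupOf (D.group F)) =>
          (⟨⟨QuotientGroup.mk (e0.out * p0 * (q.out : ↥(D.group F)) * nJ),
              hψ1 _ (hUB q.out), hψ2 _ (hUB q.out)⟩,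
            Subtype.ext (hψ3 _ (hUB q.out))⟩ : {c // φ c = ⟨e0, he0⟩})) := by
      constructor
      · intro q q' h
        have h1 : (QuotientGroup.mk (e0.out * p0 * (q.out : ↥(D.group F)) * nJ) :
            ↥(D.group F) ⧸ C.P.B) =
            QuotientGroup.mk (e0.out * p0 * (q'.out : ↥(D.group F)) * nJ) :=
          congrArg (fun z : {c // φ c = ⟨e0, he0⟩} => z.1.1) h
        rw [QuotientGroup.eq] at h1
        have e3 : (e0.out * p0 * (q.out : ↥(D.group F)) * nJ)⁻¹ *
            (e0.out * p0 * (q'.out : ↥(D.group F)) * nJ) =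
            nJ⁻¹ * ((q.out⁻¹ * q'.out : ↥((D.posUnipotent F).subgroupOf (D.group F))) :
              ↥(D.group F)) * nJ := by
          push_cast
          group
        rw [e3] at h1
        have h2 : ((nJ : ↥(D.group F)) : GL D.Idx F)⁻¹ *
            (((q.out⁻¹ * q'.out : ↥((D.posUnipotent F).subgroupOf (D.group F))) :
              ↥(D.group F)) : GL D.Idx F) * (((nJ : ↥(D.group F)) : GL D.Idx F)⁻¹)⁻¹ ∈
            D.borelSubgroup F := by
          rw [inv_inv]
          exact (C.memB _).mp h1
        have h3 := C.mem_posPart_of_conj_borel (inv_mem hnJ')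
          (Subgroup.mem_subgroupOf.mp (q.out⁻¹ * q'.out).2) h2
        have hw' : C.A.IsLong (nodesOf D J) w⁻¹ := by
          rw [C.X.long_inv _ w hw]
          exact hw
        rw [← C.rad_eq_posPart J (inv_mem hnJ') (hactJ.inv C.I C.hp C.hA hnJ') hw'] at h3
        rw [← QuotientGroup.out_eq' q, ← QuotientGroup.out_eq' q', QuotientGroup.eq,
          Subgroup.mem_subgroupOf, mem_radG]
        exact h3
      · rintro ⟨⟨c, hlg, hfx⟩, hce⟩
        have hce' : (QuotientGroup.mk c.out :
            ↥(D.group F) ⧸ C.P.parabolic (simpleSet D F J)) = e0 :=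
          congrArg Subtype.val hce
        have hp : (e0.out * p0)⁻¹ * c.out ∈ C.P.parabolic (simpleSet D F J) := by
          rw [← QuotientGroup.eq, hxe, hce']
        have hlong : C.LongAt J (C.cellW (e0.out * p0 * ((e0.out * p0)⁻¹ * c.out))) := by
          rw [mul_inv_cancel_left]
          exact hlg
        obtain ⟨a, ha, hmk⟩ := C.long_coset_eq J hred hp hlong hnJN hw hactJ
        rw [mul_inv_cancel_left, QuotientGroup.out_eq'] at hmk
        obtain ⟨r, hr⟩ := QuotientGroup.mk_out_eq_mul
          ((C.radG J).subgroupOf ((D.posUnipotent F).subgroupOf (D.group F)))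
          (⟨a, Subgroup.mem_subgroupOf.mpr ha⟩ : ↥((D.posUnipotent F).subgroupOf (D.group F)))
        refine ⟨QuotientGroup.mk ⟨a, Subgroup.mem_subgroupOf.mpr ha⟩, ?_⟩
        apply Subtype.ext
        apply Subtype.ext
        show (QuotientGroup.mk (e0.out * p0 * ((QuotientGroup.mk
          (⟨a, Subgroup.mem_subgroupOf.mpr ha⟩ :
            ↥((D.posUnipotent F).subgroupOf (D.group F))) :
          ↥((D.posUnipotent F).subgroupOf (D.group F)) ⧸
            (C.radG J).subgroupOf ((D.posUnipotent F).subgroupOf (D.group F))).out :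
          ↥(D.group F)) * nJ) : ↥(D.group F) ⧸ C.P.B) = c
        rw [hr, hmk, QuotientGroup.eq]
        have hrR : ((r : ↥((D.posUnipotent F).subgroupOf (D.group F))) : ↥(D.group F)) ∈
            C.radG J := Subgroup.mem_subgroupOf.mp r.2
        have e3 : (e0.out * p0 * (((⟨a, Subgroup.mem_subgroupOf.mpr ha⟩ :
            ↥((D.posUnipotent F).subgroupOf (D.group F))) * r :
            ↥((D.posUnipotent F).subgroupOf (D.group F))) : ↥(D.group F)) * nJ)⁻¹ *
            (e0.out * p0 * a * nJ) =
            (nJ⁻¹ * ((r : ↥((D.posUnipotent F).subgroupOf (D.group F))) : ↥(D.group F)) * nJ)⁻¹ := by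
          push_cast
          group
        rw [e3]
        exact inv_mem (C.radG_le_B J (C.radG_conj' J hnJP hrR))
    rw [← Nat.card_congr (Equiv.ofBijective _ hbij)]
    have hRU : C.radG J ≤ (D.posUnipotent F).subgroupOf (D.group F) := by
      intro z hz
      rw [Subgroup.mem_subgroupOf]
      exact C.rad_le_pos J ((C.mem_radG J z).mp hz)
    have h1 := Subgroup.card_eq_card_quotient_mul_card_subgroup
      ((C.radG J).subgroupOf ((D.posUnipotent F).subgroupOf (D.group F)))
    rw [Nat.card_congr (Subgroup.subgroupOfEquivOfLe hRU).toEquiv,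
      Nat.card_congr (Subgroup.subgroupOfEquivOfLe hUG).toEquiv,
      card_posUnipotent C.I.hSD' C.I.hU C.I.hcomm] at h1
    exact h1.symm
  rw [Nat.card_congr (Equiv.sigmaFiberEquiv φ).symm, Nat.card_sigma, Finset.sum_mul,
    Finset.sum_congr rfl (fun e _ => hfib e), Finset.sum_const, Finset.card_univ, smul_eq_mul,
    Nat.card_eq_fintype_card, mul_comm]

end CellCtx

end Cfsg.Agent.Lib.helper41
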