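import Cfsg.Agent.Lib.helper41.ChevPar3

/-!
The sum over the elements of `p`-power order of the alternating sums of the permutation
characters on the cosets of the parabolic subgroups contained in `P_J`.
-/

set_option autoImplicit false

namespace Cfsg.Agent.Lib.helper41

open Cfsg.Lie Cfsg.Agent.Lib.helper22 Cfsg.Agent.Lib

universe u

/-- an element of `p`-power order is conjugate into a given Sylow `p`-subgroup -/
theorem exists_conj_mem_sylow {G : Type*} [Group G] [Finite G] (p : ℕ) [Fact p.Prime]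
    (P : Sylow p G) (g : G) (hg : ∃ k : ℕ, orderOf g = p ^ k) :
    ∃ x : G, x⁻¹ * g * x ∈ (P : Subgroup G) := by
  obtain ⟨k, hk⟩ := hg
  have hz : IsPGroup p (Subgroup.zpowers g) := by
    apply IsPGroup.of_card (n := k)
    rw [Nat.card_zpowers, hk]
  obtain ⟨Q, hQ⟩ := hz.exists_le_sylow
  obtain ⟨x, hx⟩ := MulAction.exists_smul_eq G P Q
  refine ⟨x, ?_⟩
  have hgQ : g ∈ (Q : Subgroup G) := hQ (Subgroup.mem_zpowers g)
  rw [← hx, Sylow.coe_subgroup_smul, Subgroup.mem_pointwise_smul_iff_inv_smul_mem] at hgQ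
  simpa [MulAut.smul_def, MulAut.conj_inv_apply] using hgQ

/-- the conjugates of the elements of a Sylow `p`-subgroup have `p`-power order -/
theorem pElt_of_mem_sylow {G : Type*} [Group G] (p : ℕ) [Fact p.Prime]
    (P : Sylow p G) (r : G) (hr : r ∈ (P : Subgroup G)) (c : G) :
    ∃ k : ℕ, orderOf (c * r * c⁻¹) = p ^ k := by
  obtain ⟨k, hk⟩ := (IsPGroup.iff_orderOf.mp P.isPGroup') ⟨r, hr⟩
  refine ⟨k, ?_⟩
  rw [← hk, Subgroup.orderOf_mk r hr, ← MulAut.conj_apply, MulEquiv.orderOf_eq]

/-- the permutation characters are class functions -/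
theorem fixedPoint_conj {G : Type*} [Group G] (H : Subgroup G) (x g : G) :
    Cfsg.fixedPointCharacter H (x * g * x⁻¹) = Cfsg.fixedPointCharacter H g := by
  unfold Cfsg.fixedPointCharacter
  congr 1
  apply Nat.card_congr
  exact
    { toFun := fun c => ⟨x⁻¹ • c.1, by
        have h := c.2
        rw [MulAction.mem_fixedBy] at h ⊢
        conv_rhs => rw [← h]
        rw [smul_smul, smul_smul]
        congr 1
        group⟩
      invFun := fun c => ⟨x • c.1, by
        have h := c.2
        rw [MulAction.mem_fixedBy] at h ⊢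
        rw [smul_smul]
        have e : x * g * x⁻¹ * x = x * g := by group
        rw [e, mul_smul, h]⟩
      left_inv := fun c => Subtype.ext (smul_inv_smul x c.1)
      right_inv := fun c => Subtype.ext (inv_smul_smul x c.1) }

/-- Moebius inversion over the subsets of a finite set -/
theorem alt_alt_sum (I : Finset ℕ) : ∀ f : Finset ℕ → ℂ,
    ∑ J ∈ I.powerset, (-1 : ℂ) ^ J.card * ∑ K ∈ J.powerset, (-1 : ℂ) ^ K.card * f K = f I := by
  induction I using Finset.induction_on with
  | empty => intro f; simp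
  | insert a s ha ih =>
    intro f
    rw [Finset.sum_powerset_insert ha]
    have h1 : ∀ J ∈ s.powerset, (-1 : ℂ) ^ (insert a J).card *
        ∑ K ∈ (insert a J).powerset, (-1 : ℂ) ^ K.card * f K =
        -((-1 : ℂ) ^ J.card * ∑ K ∈ J.powerset, (-1 : ℂ) ^ K.card * f K) +
          (-1 : ℂ) ^ J.card * ∑ K ∈ J.powerset, (-1 : ℂ) ^ K.card * f (insert a K) := by
      intro J hJ
      have haJ : a ∉ J := fun h => ha (Finset.mem_powerset.mp hJ h)
      rw [Finset.sum_powerset_insert haJ, Finset.card_insert_of_notMem haJ]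
      have h2 : ∑ K ∈ J.powerset, (-1 : ℂ) ^ (insert a K).card * f (insert a K) =
          -∑ K ∈ J.powerset, (-1 : ℂ) ^ K.card * f (insert a K) := by
        rw [← Finset.sum_neg_distrib]
        apply Finset.sum_congr rfl
        intro K hK
        have haK : a ∉ K := fun h => haJ (Finset.mem_powerset.mp hK h)
        rw [Finset.card_insert_of_notMem haK]
        ring
      rw [h2]
      ring
    rw [Finset.sum_congr rfl h1, Finset.sum_add_distrib, Finset.sum_neg_distrib, ← add_assoc,
      add_neg_cancel, zero_add]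
    exact ih (fun K => f (insert a K))

namespace CellCtx

variable {D : ChevalleyDatum} {F : Type u} [Field F] (C : CellCtx D F)

include C in
/-- the parabolic subgroup of all the nodes is the whole group -/
theorem parabolicIn_range : D.parabolicIn F (Finset.range D.rank) = ⊤ := by
  rw [C.parabolicIn_eq]
  have h : simpleSet D F ↑(Finset.range D.rank) = C.P.S := by
    apply Set.Subset.antisymm (C.simpleSet_subset _)
    intro s hs
    rw [C.hPS] at hs
    obtain ⟨j, hj, hs⟩ := hs
    exact ⟨j, by simpa using hj, hj, hs⟩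
  rw [h]
  exact helper8.parabolic_S C.P

/-- the number of cosets of `P_J` conjugating an element into the radical is a class function -/
theorem card_inRad_conj [Fintype F] (J : Set ℕ) (x g : ↥(D.group F)) :
    Nat.card {e : ↥(D.group F) ⧸ C.P.parabolic (simpleSet D F J) //
        C.InRad J (x * g * x⁻¹) e} =
      Nat.card {e : ↥(D.group F) ⧸ C.P.parabolic (simpleSet D F J) // C.InRad J g e} := by
  have key : ∀ e : ↥(D.group F) ⧸ C.P.parabolic (simpleSet D F J),
      C.InRad J (x * g * x⁻¹) e ↔ C.InRad J g (x⁻¹ • e) := by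
    intro e
    obtain ⟨y, rfl⟩ := QuotientGroup.mk_surjective e
    rw [C.inRad_mk]
    have e0 : x⁻¹ • (QuotientGroup.mk y : ↥(D.group F) ⧸ C.P.parabolic (simpleSet D F J)) =
        QuotientGroup.mk (x⁻¹ * y) := rfl
    rw [e0, C.inRad_mk]
    have e1 : y⁻¹ * (x * g * x⁻¹) * y = (x⁻¹ * y)⁻¹ * g * (x⁻¹ * y) := by group
    rw [e1]
  apply Nat.card_congr
  exact
    { toFun := fun e => ⟨x⁻¹ • e.1, (key e.1).mp e.2⟩
      invFun := fun e => ⟨x • e.1, (key (x • e.1)).mpr (by rw [inv_smul_smul]; exact e.2)⟩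
      left_inv := fun e => Subtype.ext (smul_inv_smul x e.1)
      right_inv := fun e => Subtype.ext (inv_smul_smul x e.1) }

/-- the alternating sum at an element of `p`-power order, through the cosets of `P_J`
conjugating it into the radical -/
theorem steinbergJ_mul_rad [Fintype F] (p : ℕ) [Fact p.Prime] (P : Sylow p ↥(D.group F))
    (hP : (P : Subgroup ↥(D.group F)) = (D.posUnipotent F).subgroupOf (D.group F))
    (J : Finset ℕ) (hJ : J ⊆ Finset.range D.rank) (g : ↥(D.group F))
    (hg : ∃ k : ℕ, orderOf g = p ^ k) :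
    (∑ K ∈ J.powerset, (-1 : ℂ) ^ K.card * Cfsg.fixedPointCharacter (D.parabolicIn F K) g) *
        (Nat.card (C.radG ↑J) : ℂ) =
      (Fintype.card F : ℂ) ^ (D.nroots / 2) *
        (Nat.card {e : ↥(D.group F) ⧸ C.P.parabolic (simpleSet D F ↑J) // C.InRad ↑J g e} : ℂ) := by
  obtain ⟨x, hx⟩ := exists_conj_mem_sylow p P g hg
  rw [hP, Subgroup.mem_subgroupOf] at hx
  have hg' : g = x * (x⁻¹ * g * x) * x⁻¹ := by group
  have hb : x⁻¹ * g * x ∈ C.P.B := (C.memB _).mpr (Subgroup.mem_sup_left hx)
  have h1 : ∑ K ∈ J.powerset, (-1 : ℂ) ^ K.card * Cfsg.fixedPointCharacter (D.parabolicIn F K) g =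
      ∑ K ∈ J.powerset, (-1 : ℂ) ^ K.card *
        Cfsg.fixedPointCharacter (D.parabolicIn F K) (x⁻¹ * g * x) := by
    apply Finset.sum_congr rfl
    intro K _
    conv_lhs => rw [hg']
    rw [fixedPoint_conj]
  have h2 : Nat.card {e : ↥(D.group F) ⧸ C.P.parabolic (simpleSet D F ↑J) // C.InRad ↑J g e} =
      Nat.card {e : ↥(D.group F) ⧸ C.P.parabolic (simpleSet D F ↑J) //
        C.InRad ↑J (x⁻¹ * g * x) e} := by
    conv_lhs => rw [hg']
    exact C.card_inRad_conj ↑J x (x⁻¹ * g * x)
  rw [h1, h2, C.steinbergJ_borel J hJ hb]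
  have h3 := C.card_fixed_long ↑J hx
  exact_mod_cast h3

/-- the pairs of an element of `p`-power order and a coset of `P_J` conjugating it into the
radical -/
theorem sum_card_inRad [Fintype F] (p : ℕ) [Fact p.Prime] (P : Sylow p ↥(D.group F))
    (hP : (P : Subgroup ↥(D.group F)) = (D.posUnipotent F).subgroupOf (D.group F))
    (J : Set ℕ) :
    Nat.card {z : {g : ↥(D.group F) // ∃ k : ℕ, orderOf g = p ^ k} ×
        (↥(D.group F) ⧸ C.P.parabolic (simpleSet D F J)) // C.InRad J z.1.1 z.2} =
      Nat.card (↥(D.group F) ⧸ C.P.parabolic (simpleSet D F J)) * Nat.card (C.radG J) := by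
  have hRP : C.radG J ≤ (P : Subgroup ↥(D.group F)) := by
    rw [hP]
    intro z hz
    rw [Subgroup.mem_subgroupOf]
    exact C.rad_le_pos J ((C.mem_radG J z).mp hz)
  rw [← Nat.card_prod]
  apply Nat.card_congr
  exact
    { toFun := fun z => (z.1.2, ⟨z.1.2.out⁻¹ * z.1.1.1 * z.1.2.out, z.2⟩)
      invFun := fun y => ⟨(⟨y.1.out * (y.2 : ↥(D.group F)) * y.1.out⁻¹,
          pElt_of_mem_sylow p P _ (hRP y.2.2) _⟩, y.1), by
        show y.1.out⁻¹ * (y.1.out * (y.2 : ↥(D.group F)) * y.1.out⁻¹) * y.1.out ∈ C.radG J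
        have e : y.1.out⁻¹ * (y.1.out * (y.2 : ↥(D.group F)) * y.1.out⁻¹) * y.1.out =
            (y.2 : ↥(D.group F)) := by group
        rw [e]
        exact y.2.2⟩
      left_inv := fun z => by
        apply Subtype.ext
        apply Prod.ext
        · apply Subtype.ext
          show z.1.2.out * (z.1.2.out⁻¹ * z.1.1.1 * z.1.2.out) * z.1.2.out⁻¹ = z.1.1.1
          group
        · rfl
      right_inv := fun y => by
        apply Prod.ext
        · rfl
        · apply Subtype.ext
          show y.1.out⁻¹ * (y.1.out * (y.2 : ↥(D.group F)) * y.1.out⁻¹) * y.1.out =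
            (y.2 : ↥(D.group F))
          group }

include C in
/-- the sum over the elements of `p`-power order of the alternating sum of the permutation
characters on the cosets of the parabolic subgroups contained in `P_J` -/
theorem sum_steinbergJ [Fintype F] (p : ℕ) [Fact p.Prime] (P : Sylow p ↥(D.group F))
    (hP : (P : Subgroup ↥(D.group F)) = (D.posUnipotent F).subgroupOf (D.group F))
    (J : Finset ℕ) (hJ : J ⊆ Finset.range D.rank)
    [Fintype {g : ↥(D.group F) // ∃ k : ℕ, orderOf g = p ^ k}] :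
    ∑ g : {g : ↥(D.group F) // ∃ k : ℕ, orderOf g = p ^ k},
        ∑ K ∈ J.powerset, (-1 : ℂ) ^ K.card *
          Cfsg.fixedPointCharacter (D.parabolicIn F K) g.1 =
      (Fintype.card F : ℂ) ^ (D.nroots / 2) *
        Cfsg.fixedPointCharacter (D.parabolicIn F J) 1 := by
  have hR : (Nat.card (C.radG ↑J) : ℂ) ≠ 0 := Nat.cast_ne_zero.mpr Nat.card_pos.ne'
  apply mul_right_cancel₀ hR
  rw [Finset.sum_mul,
    Finset.sum_congr rfl (fun g _ => C.steinbergJ_mul_rad p P hP J hJ g.1 g.2),
    ← Finset.mul_sum, mul_assoc]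
  congr 1
  have h1 := C.sum_card_inRad p P hP ↑J
  rw [Nat.card_congr (Equiv.subtypeProdEquivSigmaSubtype
    (fun (g : {g : ↥(D.group F) // ∃ k : ℕ, orderOf g = p ^ k})
      (e : ↥(D.group F) ⧸ C.P.parabolic (simpleSet D F ↑J)) => C.InRad ↑J g.1 e)),
    Nat.card_sigma] at h1
  have h2 : Cfsg.fixedPointCharacter (D.parabolicIn F J) 1 =
      (Nat.card (↥(D.group F) ⧸ C.P.parabolic (simpleSet D F ↑J)) : ℂ) := by
    show (Nat.card (MulAction.fixedBy (↥(D.group F) ⧸ D.parabolicIn F J)
      (1 : ↥(D.group F))) : ℂ) = _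
    rw [C.parabolicIn_eq J, MulAction.fixedBy_one_eq_univ, Nat.card_congr (Equiv.Set.univ _)]
  rw [h2, ← Nat.cast_mul, ← h1]
  push_cast
  rfl

end CellCtx

end Cfsg.Agent.Lib.helper41
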