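import Cfsg.Agent.Lib.helper41.ChevPar4
import Cfsg.Agent.Lib.helper41.ChevSteinAll
import Cfsg.Agent.Lib.helper41.ChevSylow

/-!
Steinberg's count of the elements of `p`-power order of the seven tabulated Chevalley groups
over a finite field of characteristic `p`.
-/

set_option autoImplicit false

namespace Cfsg.Agent.Lib.helper41

open Cfsg.Lie Cfsg.Agent.Lib.helper22 Cfsg.Agent.Lib

universe u

set_option synthInstance.maxHeartbeats 1000000 in
/-- the number of elements of `p`-power order is `q ^ (2 N)` -/
theorem card_pElements_all (D : ChevalleyDatum)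
    (hD : D ∈ [chevG2, chevB2, chevD4, chevF4, chevE6, chevE7, chevE8]) (F : Type u) [Field F]
    [Fintype F] (p : ℕ) [Fact p.Prime] [CharP F p] :
    Nat.card {g : ↥(D.group F) // ∃ k : ℕ, orderOf g = p ^ k} =
      Fintype.card F ^ (2 * (D.nroots / 2)) := by
  classical
  obtain ⟨C⟩ := cellCtx_all D hD F
  have hUH := (Cfsg.Agent.S1036.result (F := F) D hD).2
  obtain ⟨P, hP⟩ := sylow_posUnipotent p C.I C.hp C.hA C.hpn C.hN C.hBG C.hNG C.hG hUH
    (diag_card_all D hD F)
  have : Fintype ↥(D.group F) := Fintype.ofFinite _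
  have : Fintype {g : ↥(D.group F) // ∃ k : ℕ, orderOf g = p ^ k} := Fintype.ofFinite _
  have htop := C.parabolicIn_range
  have hone : ∀ g : ↥(D.group F),
      Cfsg.fixedPointCharacter (D.parabolicIn F (Finset.range D.rank)) g = 1 := by
    intro g
    show (Nat.card (MulAction.fixedBy (↥(D.group F) ⧸ D.parabolicIn F (Finset.range D.rank))
      g) : ℂ) = 1
    rw [htop]
    have hsub : Subsingleton (↥(D.group F) ⧸ (⊤ : Subgroup ↥(D.group F))) :=
      QuotientGroup.subsingleton_quotient_top
    have hne : Nonempty (MulAction.fixedBy (↥(D.group F) ⧸ (⊤ : Subgroup ↥(D.group F))) g) :=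
      ⟨⟨QuotientGroup.mk 1, Subsingleton.elim _ _⟩⟩
    rw [Nat.card_unique, Nat.cast_one]
  have hmain : (Nat.card {g : ↥(D.group F) // ∃ k : ℕ, orderOf g = p ^ k} : ℂ) =
      (Fintype.card F : ℂ) ^ (D.nroots / 2) * (Fintype.card F : ℂ) ^ (D.nroots / 2) := by
    calc (Nat.card {g : ↥(D.group F) // ∃ k : ℕ, orderOf g = p ^ k} : ℂ)
        = ∑ _g : {g : ↥(D.group F) // ∃ k : ℕ, orderOf g = p ^ k}, (1 : ℂ) := by
          rw [Finset.sum_const, Finset.card_univ, Nat.card_eq_fintype_card]
          simp
      _ = ∑ g : {g : ↥(D.group F) // ∃ k : ℕ, orderOf g = p ^ k},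
            ∑ J ∈ (Finset.range D.rank).powerset, (-1 : ℂ) ^ J.card *
              ∑ K ∈ J.powerset, (-1 : ℂ) ^ K.card *
                Cfsg.fixedPointCharacter (D.parabolicIn F K) g.1 := by
          apply Finset.sum_congr rfl
          intro g _
          rw [alt_alt_sum (Finset.range D.rank)
            (fun K => Cfsg.fixedPointCharacter (D.parabolicIn F K) g.1), hone]
      _ = ∑ J ∈ (Finset.range D.rank).powerset, (-1 : ℂ) ^ J.card *
            ∑ g : {g : ↥(D.group F) // ∃ k : ℕ, orderOf g = p ^ k},
              ∑ K ∈ J.powerset, (-1 : ℂ) ^ K.card *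
                Cfsg.fixedPointCharacter (D.parabolicIn F K) g.1 := by
          rw [Finset.sum_comm]
          apply Finset.sum_congr rfl
          intro J _
          rw [Finset.mul_sum]
      _ = ∑ J ∈ (Finset.range D.rank).powerset, (-1 : ℂ) ^ J.card *
            ((Fintype.card F : ℂ) ^ (D.nroots / 2) *
              Cfsg.fixedPointCharacter (D.parabolicIn F J) 1) := by
          apply Finset.sum_congr rfl
          intro J hJ
          rw [C.sum_steinbergJ p P hP J (Finset.mem_powerset.mp hJ)]
      _ = (Fintype.card F : ℂ) ^ (D.nroots / 2) * D.steinbergCharacter F 1 := by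
          unfold ChevalleyDatum.steinbergCharacter
          rw [Finset.mul_sum]
          apply Finset.sum_congr rfl
          intro J _
          ring
      _ = _ := by rw [steinberg_degree_all D hD F]
  rw [two_mul, pow_add]
  exact_mod_cast hmain

end Cfsg.Agent.Lib.helper41
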