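import Cfsg.Agent.Lib.helper41.ChevCell
import Cfsg.Agent.Lib.helper41.WeylPar

/-!
The unipotent radical of a standard parabolic subgroup of a Chevalley group: the subgroup
generated by the root subgroups of the positive roots outside the subsystem of `J` is
`U ∩ n⁻¹ U n` for `n` acting as the longest element of `W_J`, and is normalised by `P_J`.
-/

set_option autoImplicit false

namespace Cfsg.Agent.Lib.helper41

open Cfsg.Lie Cfsg.Agent.Lib.helper22 Cfsg.Agent.Lib

universe u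

/-- the root elements of the roots `r` with `p r` -/
def rootSetOf (D : ChevalleyDatum) (F : Type u) [Field F] (p : Fin D.nroots → Prop) :
    Set (GL D.Idx F) :=
  {g | ∃ (r : Fin D.nroots) (t : F), p r ∧ (g : Matrix D.Idx D.Idx F) = D.x F r.val t}

namespace CellCtx

variable {D : ChevalleyDatum} {F : Type u} [Field F] (C : CellCtx D F)

theorem rootSetOf_le_pos (p : Fin D.nroots → Prop) (hp : ∀ r, p r → C.A.pos r) :
    Subgroup.closure (rootSetOf D F p) ≤ D.posUnipotent F := by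
  rw [Subgroup.closure_le]
  rintro g ⟨r, t, hr, hg⟩
  exact x_mem_pos C.I r.isLt ((C.hA.pos r).mp (hp r hr)) hg

/-- conjugation by an element acting as `v` on the root elements -/
theorem conj_rootSetOf {n : GL D.Idx F} {v : Equiv.Perm (Fin D.nroots)} (hact : ActsAs D F n v)
    (p p' : Fin D.nroots → Prop) (hpp : ∀ r, p r → p' (v r)) :
    ∀ x ∈ Subgroup.closure (rootSetOf D F p), n * x * n⁻¹ ∈ Subgroup.closure (rootSetOf D F p') := by
  obtain ⟨π, c, hπ, hw⟩ := hact
  intro x hx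
  induction hx using Subgroup.closure_induction with
  | mem x hx =>
    obtain ⟨r, t, hr, hg⟩ := hx
    have e := rootAct_conj hπ r.isLt hg
    rw [hw r] at e
    exact Subgroup.subset_closure ⟨v r, c r.val * t, hpp r hr, e⟩
  | one =>
    rw [mul_one, mul_inv_cancel]
    exact one_mem _
  | mul a b _ _ ha hb =>
    have : n * (a * b) * n⁻¹ = (n * a * n⁻¹) * (n * b * n⁻¹) := by group
    rw [this]
    exact mul_mem ha hb
  | inv a _ ha =>
    have : n * a⁻¹ * n⁻¹ = (n * a * n⁻¹)⁻¹ := by group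
    rw [this]
    exact inv_mem ha

/-- an element of `U` conjugated into `B` by `n` is conjugated into `U` -/
theorem mem_posPart_of_conj_borel (C : CellCtx D F) {n y : GL D.Idx F}
    (hn : n ∈ D.monomialSubgroup F)
    (hy : y ∈ D.posUnipotent F) (h : n * y * n⁻¹ ∈ D.borelSubgroup F) : y ∈ posPart D F n := by
  obtain ⟨a, ha, c, hc, hconj, rfl⟩ := splitU_all C.I C.hpn C.hN C.hBG C.hNG C.hG n hn y hy
  have h1 : n * c * n⁻¹ ∈ D.borelSubgroup F := by
    have e : n * c * n⁻¹ = (n * a * n⁻¹)⁻¹ * (n * (a * c) * n⁻¹) := by group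
    rw [e]
    exact mul_mem (inv_mem (Subgroup.mem_sup_left hconj)) h
  have h2 := borel_inf_neg C.I C.hN h1 (conj_negSet_mem n c hc)
  have h3 : c = 1 := by
    have : c = n⁻¹ * (n * c * n⁻¹) * n := by group
    rw [this, h2]
    group
  rw [h3, mul_one]
  exact (mem_posPart n a).mpr ⟨ha, hconj⟩

/-- `U ∩ n⁻¹ U n` is generated by the root subgroups of the positive roots kept positive -/
theorem posPart_eq_closure [Fintype F] {n : GL D.Idx F} (hn : n ∈ D.monomialSubgroup F)
    {v : Equiv.Perm (Fin D.nroots)} (hact : ActsAs D F n v) :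
    posPart D F n =
      Subgroup.closure (rootSetOf D F (fun r => C.A.pos r ∧ C.A.pos (v r))) := by
  classical
  have hfin : Finite (GL D.Idx F) := inferInstance
  symm
  have hle : Subgroup.closure (rootSetOf D F (fun r => C.A.pos r ∧ C.A.pos (v r))) ≤
      posPart D F n := by
    intro x hx
    rw [mem_posPart]
    exact ⟨C.rootSetOf_le_pos _ (fun r hr => hr.1) hx,
      C.rootSetOf_le_pos _ (fun r hr => hr) (conj_rootSetOf hact _ _ (fun r hr => hr.2) x hx)⟩
  apply Subgroup.eq_of_le_of_card_ge hle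
  have hU := card_posUnipotent C.I.hSD' C.I.hU C.I.hcomm (F := F)
  have hsplit := card_split C.I C.hpn C.hN C.hBG C.hNG C.hG hn
  have hneg := card_negSet C.I C.hp C.hA C.hpn C.hN C.hBG C.hNG C.hG hn hact
  have hb2 : Fintype.card F ^ Fintype.card {r : Fin D.nroots // C.A.pos r ∧ C.A.pos (v r)} ≤
      Nat.card (Subgroup.closure (rootSetOf D F (fun r => C.A.pos r ∧ C.A.pos (v r)))) := by
    apply card_ge_of_ordProd C.I C.hp _ (fun r hr => (C.hA.pos r).mp hr.1)
    intro r hr g t hg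
    exact Subgroup.subset_closure ⟨r, t, hr, hg⟩
  have hcnt : Fintype.card {r : Fin D.nroots // C.A.pos r ∧ ¬ C.A.pos (v r)} +
      Fintype.card {r : Fin D.nroots // C.A.pos r ∧ C.A.pos (v r)} = D.nroots / 2 := by
    have h1 := card_pos_eq C.A
    have h2 : Fintype.card {r : Fin D.nroots // C.A.pos r ∧ ¬ C.A.pos (v r)} +
        Fintype.card {r : Fin D.nroots // C.A.pos r ∧ C.A.pos (v r)} =
        Fintype.card {r : Fin D.nroots // C.A.pos r} := by
      rw [Fintype.card_subtype, Fintype.card_subtype, Fintype.card_subtype, add_comm,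
        ← Finset.filter_filter, ← Finset.filter_filter]
      exact Finset.card_filter_add_card_filter_not _
    omega
  have hell : C.A.ell v = Fintype.card {r : Fin D.nroots // C.A.pos r ∧ ¬ C.A.pos (v r)} := by
    unfold WeylData.ell
    rw [Fintype.card_subtype]
  rw [hneg, hU, ← hcnt, hell, pow_add, mul_comm] at hsplit
  have hpos : 0 < Fintype.card F ^
      Fintype.card {r : Fin D.nroots // C.A.pos r ∧ ¬ C.A.pos (v r)} :=
    pow_pos Fintype.card_pos _
  have h3 := Nat.eq_of_mul_eq_mul_left hpos hsplit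
  rw [h3]
  exact hb2

/-- the subgroup generated by the root subgroups of the positive roots outside the subsystem of
`J` -/
def rad (J : Set ℕ) : Subgroup (GL D.Idx F) :=
  Subgroup.closure (rootSetOf D F (fun r => C.A.pos r ∧ r ∉ C.X.Sub (nodesOf D J)))

theorem rad_le_pos (J : Set ℕ) : C.rad J ≤ D.posUnipotent F :=
  C.rootSetOf_le_pos _ (fun r hr => hr.1)

/-- the elements acting as elements of `W_J` normalise the radical -/
theorem rad_conj_W (J : Set ℕ) {n : GL D.Idx F} {v : Equiv.Perm (Fin D.nroots)}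
    (hact : ActsAs D F n v) (hv : v ∈ C.A.W (nodesOf D J)) :
    ∀ x ∈ C.rad J, n * x * n⁻¹ ∈ C.rad J :=
  conj_rootSetOf hact _ _ (fun r hr => C.X.out_W (nodesOf D J) v hv r hr.1 hr.2)

/-- the radical is `U ∩ n⁻¹ U n` for `n` acting as the long element of `W_J` -/
theorem rad_eq_posPart [Fintype F] (J : Set ℕ) {n : GL D.Idx F} (hn : n ∈ D.monomialSubgroup F)
    {w : Equiv.Perm (Fin D.nroots)} (hact : ActsAs D F n w)
    (hw : C.A.IsLong (nodesOf D J) w) : C.rad J = posPart D F n := by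
  rw [C.posPart_eq_closure hn hact]
  unfold rad
  have e : (fun r : Fin D.nroots => C.A.pos r ∧ r ∉ C.X.Sub (nodesOf D J)) =
      (fun r : Fin D.nroots => C.A.pos r ∧ C.A.pos (w r)) := by
    funext r
    apply propext
    constructor
    · rintro ⟨h1, h2⟩
      exact ⟨h1, (C.X.out_W (nodesOf D J) w hw.1 r h1 h2).1⟩
    · rintro ⟨h1, h2⟩
      exact ⟨h1, fun hS => C.X.neg_of_long (nodesOf D J) w hw r hS h1 h2⟩
  rw [e]

/-- `g` and `g⁻¹` conjugate the radical into itself -/
def Nrm (J : Set ℕ) (g : GL D.Idx F) : Prop :=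
  ∀ y ∈ C.rad J, g * y * g⁻¹ ∈ C.rad J ∧ g⁻¹ * y * g ∈ C.rad J

theorem nrm_mul (J : Set ℕ) {g g' : GL D.Idx F} (hg : C.Nrm J g) (hg' : C.Nrm J g') :
    C.Nrm J (g * g') := by
  intro y hy
  constructor
  · have : g * g' * y * (g * g')⁻¹ = g * (g' * y * g'⁻¹) * g⁻¹ := by group
    rw [this]
    exact (hg _ (hg' y hy).1).1
  · have : (g * g')⁻¹ * y * (g * g') = g'⁻¹ * (g⁻¹ * y * g) * g' := by group
    rw [this]
    exact (hg' _ (hg y hy).2).2

theorem nrm_inv (J : Set ℕ) {g : GL D.Idx F} (hg : C.Nrm J g) : C.Nrm J g⁻¹ := by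
  intro y hy
  rw [inv_inv]
  exact ⟨(hg y hy).2, (hg y hy).1⟩

theorem nrm_one (J : Set ℕ) : C.Nrm J (1 : GL D.Idx F) := by
  intro y hy
  simp only [inv_one, one_mul, mul_one]
  exact ⟨hy, hy⟩

theorem nrm_of_mem (J : Set ℕ) {g : GL D.Idx F} (hg : g ∈ C.rad J) : C.Nrm J g := fun y hy =>
  ⟨mul_mem (mul_mem hg hy) (inv_mem hg), mul_mem (mul_mem (inv_mem hg) hy) hg⟩

/-- the elements of `N` acting as elements of `W_J` normalise the radical -/
theorem nrm_of_actsAs (J : Set ℕ) {n : GL D.Idx F} (hn : n ∈ D.monomialSubgroup F)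
    {v : Equiv.Perm (Fin D.nroots)} (hact : ActsAs D F n v) (hv : v ∈ C.A.W (nodesOf D J)) :
    C.Nrm J n := by
  intro y hy
  refine ⟨C.rad_conj_W J hact hv y hy, ?_⟩
  have h := C.rad_conj_W J (hact.inv C.I C.hp C.hA hn) (inv_mem hv) y hy
  rwa [inv_inv] at h

theorem nrm_of_diag (J : Set ℕ) {h : GL D.Idx F} (hh : h ∈ D.diagonalSubgroup F) :
    C.Nrm J h :=
  C.nrm_of_actsAs J ((le_sup_left : D.diagonalSubgroup F ≤ D.monomialSubgroup F) hh)
    (actsAs_diag C.I hh) (one_mem _)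

/-- the root elements of the simple roots of `J` normalise the radical -/
theorem conj_simple_rad [Fintype F] (J : Set ℕ) (j : Fin D.rank) (hj : j ∈ nodesOf D J)
    {x : GL D.Idx F} (hx : x ∈ D.rootSubgroup F (D.simple j.val)) :
    ∀ y ∈ C.rad J, x * y * x⁻¹ ∈ C.rad J := by
  intro y hy
  obtain ⟨w, hw⟩ := C.A.exists_long (nodesOf D J)
  have hwW : w ∈ C.A.W Set.univ := C.A.W_mono (Set.subset_univ _) hw.1
  obtain ⟨n, hn, hact⟩ := exists_monomial_actsAs C.I C.hp C.hA hwW
  obtain ⟨j', hj', hwj⟩ := C.X.long_simple (nodesOf D J) w hw j hj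
  rw [C.rad_eq_posPart J hn hact hw, mem_posPart]
  have hp : D.simple j.val < D.nroots := (C.I.hS j).1
  obtain ⟨S⟩ := C.I.hSD' ⟨D.simple j.val, hp⟩
  obtain ⟨t, rfl⟩ := rootSubgroup_elt S hx
  have hxU : sl2Hom S (sl2u t) ∈ D.posUnipotent F := by
    apply x_mem_pos C.I hp _ (sl2Hom_sl2u S t)
    have h1 := (C.hA.pos _).mp (C.A.pos_simple j)
    rwa [C.hA.simple] at h1
  have hyU := C.rad_le_pos J hy
  refine ⟨mul_mem (mul_mem hxU hyU) (inv_mem hxU), ?_⟩
  -- conjugate by `n`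
  have hny := C.rad_conj_W J hact hw.1 y hy
  obtain ⟨π, c, hπ, hπw⟩ := hact
  have e1 := rootAct_conj hπ hp (sl2Hom_sl2u S t)
  have e2 : π (D.simple j.val) = D.neg (D.simple j'.val) := by
    have h1 := hπw (C.A.simple j)
    rw [C.hA.simple] at h1
    rw [h1, hwj, ← C.A.σ_simple j', C.hA.σ, C.hA.simple]
    unfold ChevalleyDatum.reflectRoot
    simp
  rw [e2] at e1
  have hx' : n * sl2Hom S (sl2u t) * n⁻¹ ∈ D.rootSubgroup F (D.neg (D.simple j'.val)) :=
    Subgroup.subset_closure ⟨_, e1⟩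
  obtain ⟨hnorm, hsup⟩ := up_normal C.I.hSD' C.I.hU C.I.hNorm C.I.hcomm (F := F) j'.val j'.isLt
  have hup : C.rad J ≤ Subgroup.closure (upSet D F (D.simple j'.val)) := by
    unfold rad
    apply Subgroup.closure_mono
    rintro g ⟨r, t', ⟨hr1, hr2⟩, hg⟩
    refine ⟨r.val, t', (C.I.hU.pos_iff r.val).mpr ⟨(C.hA.pos r).mp hr1, r.isLt⟩, ?_, hg⟩
    intro he
    apply hr2
    have : r = C.A.simple j' := Fin.ext (by rw [he, C.hA.simple])
    rw [this]
    exact C.X.sub_simple (nodesOf D J) j' hj'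
  have h3 := (Subgroup.mem_normalizer_iff.mp ((le_sup_right.trans hnorm) hx') _).mp (hup hny)
  have hUp : Subgroup.closure (upSet D F (D.simple j'.val)) ≤ D.posUnipotent F := by
    rw [← hsup]
    exact le_sup_left
  have e3 : n * (sl2Hom S (sl2u t) * y * (sl2Hom S (sl2u t))⁻¹) * n⁻¹ =
      (n * sl2Hom S (sl2u t) * n⁻¹) * (n * y * n⁻¹) * (n * sl2Hom S (sl2u t) * n⁻¹)⁻¹ := by
    group
  rw [e3]
  exact hUp h3

/-- the root elements of the positive roots normalise the radical -/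
theorem nrm_of_root [Fintype F] (J : Set ℕ) (r : Fin D.nroots) (hr : C.A.pos r) {x : GL D.Idx F}
    {t : F} (hx : (x : Matrix D.Idx D.Idx F) = D.x F r.val t) : C.Nrm J x := by
  have hinv : ((x⁻¹ : GL D.Idx F) : Matrix D.Idx D.Idx F) = D.x F r.val (-t) :=
    gl_inv_eq (by rw [hx, x_mul_neg C.I.hSD'])
  by_cases hS : r ∈ C.X.Sub (nodesOf D J)
  · obtain ⟨v, hv, j, hj, hvr⟩ := C.X.sub_eq_W_simple (nodesOf D J) r hS hr
    have hvW : v ∈ C.A.W Set.univ := C.A.W_mono (Set.subset_univ _) hv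
    obtain ⟨m, hm, hactm⟩ := exists_monomial_actsAs C.I C.hp C.hA hvW
    have hNm := C.nrm_of_actsAs J hm hactm hv
    obtain ⟨π, c, hπ, hπw⟩ := hactm
    have key : ∀ (z : GL D.Idx F) (s : F), (z : Matrix D.Idx D.Idx F) = D.x F r.val s →
        ∀ y ∈ C.rad J, z * y * z⁻¹ ∈ C.rad J := by
      intro z s hz y hy
      have e1 := rootAct_conj hπ r.isLt hz
      have e2 : π r.val = D.simple j.val := by rw [hπw r, hvr, C.hA.simple]
      rw [e2] at e1
      have hz' : m * z * m⁻¹ ∈ D.rootSubgroup F (D.simple j.val) :=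
        Subgroup.subset_closure ⟨_, e1⟩
      have h1 := C.conj_simple_rad J j hj hz' _ (hNm y hy).1
      have h2 := (hNm _ h1).2
      have e3 : m⁻¹ * (m * z * m⁻¹ * (m * y * m⁻¹) * (m * z * m⁻¹)⁻¹) * m = z * y * z⁻¹ := by
        group
      rwa [e3] at h2
    intro y hy
    refine ⟨key x t hx y hy, ?_⟩
    have := key x⁻¹ (-t) hinv y hy
    rwa [inv_inv] at this
  · exact C.nrm_of_mem J (Subgroup.subset_closure ⟨r, t, ⟨hr, hS⟩, hx⟩)

/-- `U` normalises the radical -/
theorem nrm_of_pos [Fintype F] (J : Set ℕ) {u : GL D.Idx F} (hu : u ∈ D.posUnipotent F) :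
    C.Nrm J u := by
  unfold ChevalleyDatum.posUnipotent at hu
  induction hu using Subgroup.closure_induction with
  | mem x hx =>
    obtain ⟨r, t, hr, hx⟩ := hx
    have hr' := (C.I.hU.pos_iff r).mp hr
    exact C.nrm_of_root J ⟨r, hr'.2⟩ ((C.hA.pos _).mpr hr'.1) hx
  | one => exact C.nrm_one J
  | mul a b _ _ ha hb => exact C.nrm_mul J ha hb
  | inv a _ ha => exact C.nrm_inv J ha

/-- `B` normalises the radical -/
theorem nrm_of_borel [Fintype F] (J : Set ℕ) {b : GL D.Idx F} (hb : b ∈ D.borelSubgroup F) :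
    C.Nrm J b := by
  obtain ⟨u, hu, h, hh, rfl⟩ := borel_decomp C.I hb
  exact C.nrm_mul J (C.nrm_of_pos J hu) (C.nrm_of_diag J hh)

end CellCtx

end Cfsg.Agent.Lib.helper41
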