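import Cfsg.Agent.Lib.helper41.WeylDesc

/-!
Double cosets of parabolic subgroups of a Weyl group acting on its roots: each contains exactly
one element reduced on both sides, and the alternating sum of their numbers.
-/

set_option autoImplicit false

namespace Cfsg.Agent.Lib.helper41

namespace WeylData

variable {n l : ℕ} {A : WeylData n l}

/-- for a right `K`-reduced `d` and `u ∈ W_J`, the right `K`-reduced part of `u d` lies in
`W_J d` -/
theorem Coord.exists_red_of_mul (J K : Set (Fin l)) (d : Equiv.Perm (Fin n))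
    (hd : d ∈ A.W Set.univ) (hred : A.Red K d) (t : List (Fin l)) (ht : ∀ i ∈ t, i ∈ J) :
    ∃ u₁ ∈ A.W J, ∃ v₁ ∈ A.W K, A.pw t * d = u₁ * d * v₁ ∧ A.Red K (u₁ * d) := by
  induction t with
  | nil =>
    exact ⟨1, one_mem _, 1, one_mem _, by rw [pw_nil, one_mul, mul_one],
      by rwa [one_mul]⟩
  | cons j t ih =>
    obtain ⟨u₁, hu₁, v₁, hv₁, e, hr⟩ := ih (fun i hi => ht i (List.mem_cons_of_mem _ hi))
    have hj : j ∈ J := ht j List.mem_cons_self
    by_cases h : A.Red K (A.σ j * (u₁ * d))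
    · refine ⟨A.σ j * u₁, mul_mem (A.σ_mem_W J j hj) hu₁, v₁, hv₁, ?_, ?_⟩
      · rw [pw_cons, mul_assoc, e]
        group
      · rwa [mul_assoc]
    · unfold Red at h
      push Not at h
      obtain ⟨k, hk, hneg⟩ := h
      have hpos := hr k hk
      have heq : (u₁ * d) (A.simple k) = A.simple j := by
        by_contra hne
        apply hneg
        rw [Equiv.Perm.mul_apply]
        exact A.σ_pos j _ hpos hne
      have hcomp : A.Compat (u₁ * d) :=
        (A.compat_of_mem_W J u₁ hu₁).mul A (A.compat_of_mem_W _ d hd)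
      have hconj := A.conj_simple (u₁ * d) hcomp k j heq
      have hcomm : A.σ j * (u₁ * d) = (u₁ * d) * A.σ k := by
        rw [← hconj]
        group
      refine ⟨u₁, hu₁, A.σ k * v₁, mul_mem (A.σ_mem_W K k hk) hv₁, ?_, hr⟩
      rw [pw_cons, mul_assoc, e]
      calc A.σ j * (u₁ * d * v₁) = (A.σ j * (u₁ * d)) * v₁ := by group
        _ = (u₁ * d) * A.σ k * v₁ := by rw [hcomm]
        _ = u₁ * d * (A.σ k * v₁) := by group

/-- two elements of a double coset reduced on both sides are equal -/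
theorem Coord.lred_unique (X : A.Coord) (J K : Set (Fin l)) (d x u v : Equiv.Perm (Fin n))
    (hd : d ∈ A.W Set.univ) (hdK : A.Red K d) (hdJ : A.Red J d⁻¹)
    (hxK : A.Red K x) (hxJ : A.Red J x⁻¹) (hu : u ∈ A.W J) (hv : v ∈ A.W K)
    (e : x = u * d * v) : x = d := by
  obtain ⟨t, ht, rfl⟩ := (A.mem_W_iff J u).mp hu
  obtain ⟨u₁, hu₁, v₁, hv₁, e1, hr⟩ := Coord.exists_red_of_mul J K d hd hdK t ht
  have hu₁W : u₁ ∈ A.W Set.univ := A.W_mono (Set.subset_univ _) hu₁
  have e2 : x * v⁻¹ = (u₁ * d) * v₁ := by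
    rw [e, ← e1]
    group
  have h1 := X.red_unique K x (u₁ * d) v⁻¹ v₁ (mul_mem hu₁W hd) (inv_mem hv) hv₁ hxK hr e2
  have hx : x = u₁ * d := h1.1
  have hu1 : u₁⁻¹ = 1 := by
    apply A.eq_one_of_pos J _ (inv_mem hu₁)
    intro i hi
    by_contra hneg
    have hS : u₁⁻¹ (A.simple i) ∈ X.Sub J :=
      A.W_mem_S J (X.Sub J) (fun i hi r hr => X.sub_σ J i hi r hr) _ (inv_mem hu₁) _
        (X.sub_simple J i hi)
    have h2 := X.pos_of_red J d⁻¹ (inv_mem hd) hdJ (A.neg (u₁⁻¹ (A.simple i)))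
      (X.sub_neg J _ hS) ((A.pos_neg _).mpr hneg)
    rw [(A.compat_of_mem_W _ d⁻¹ (inv_mem hd)).1, A.pos_neg] at h2
    apply h2
    have h3 := hxJ i hi
    rw [hx, mul_inv_rev, Equiv.Perm.mul_apply] at h3
    exact h3
  rw [hx, inv_eq_one.mp hu1, one_mul]

variable (A)

/-- every double coset contains an element reduced on both sides -/
theorem exists_lred (J K : Set (Fin l)) (w : Equiv.Perm (Fin n)) (hw : w ∈ A.W Set.univ) :
    ∃ d, d ∈ A.W Set.univ ∧ A.Red J d⁻¹ ∧ A.Red K d ∧ ∃ u ∈ A.W J, ∃ v ∈ A.W K, w = u * d * v := by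
  induction' hm : A.ell w using Nat.strong_induction_on with m ih generalizing w
  have hc := A.compat_of_mem_W _ w hw
  by_cases hK : A.Red K w
  · by_cases hJ : A.Red J w⁻¹
    · exact ⟨w, hw, hJ, hK, 1, one_mem _, 1, one_mem _, by rw [one_mul, mul_one]⟩
    · unfold Red at hJ
      push Not at hJ
      obtain ⟨j, hj, hneg⟩ := hJ
      have hw' : A.σ j * w ∈ A.W Set.univ := mul_mem (A.σ_mem_W _ j (Set.mem_univ _)) hw
      have hci := hc.inv A
      have h1 : A.pos ((w⁻¹ * A.σ j) (A.simple j)) := by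
        rw [Equiv.Perm.mul_apply, A.σ_simple, hci.pos_iff A]
        exact hneg
      have h2 := A.ell_mul_σ (w⁻¹ * A.σ j) (hci.mul A (A.compat_σ j)) j h1
      rw [mul_assoc, A.σ_mul_self, mul_one, A.ell_inv w hc] at h2
      have h3 : A.ell (A.σ j * w) = A.ell (w⁻¹ * A.σ j) := by
        rw [← A.ell_inv (A.σ j * w) ((A.compat_σ j).mul A hc), mul_inv_rev, A.σ_inv]
      obtain ⟨d, hd, hdJ, hdK, u, hu, v, hv, e⟩ :=
        ih (A.ell (A.σ j * w)) (by omega) (A.σ j * w) hw' rfl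
      refine ⟨d, hd, hdJ, hdK, A.σ j * u, mul_mem (A.σ_mem_W J j hj) hu, v, hv, ?_⟩
      have e' : w = A.σ j * (A.σ j * w) := by rw [← mul_assoc, A.σ_mul_self, one_mul]
      rw [e', e]
      group
  · unfold Red at hK
    push Not at hK
    obtain ⟨k, hk, hneg⟩ := hK
    have hw' : w * A.σ k ∈ A.W Set.univ := mul_mem hw (A.σ_mem_W _ k (Set.mem_univ _))
    have h1 : A.pos ((w * A.σ k) (A.simple k)) := by
      rw [Equiv.Perm.mul_apply, A.σ_simple, hc.pos_iff A]
      exact hneg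
    have h2 := A.ell_mul_σ (w * A.σ k) (hc.mul A (A.compat_σ k)) k h1
    rw [mul_assoc, A.σ_mul_self, mul_one] at h2
    obtain ⟨d, hd, hdJ, hdK, u, hu, v, hv, e⟩ :=
      ih (A.ell (w * A.σ k)) (by omega) (w * A.σ k) hw' rfl
    refine ⟨d, hd, hdJ, hdK, u, hu, v * A.σ k, mul_mem hv (A.σ_mem_W K k hk), ?_⟩
    have e' : w = (w * A.σ k) * A.σ k := by rw [mul_assoc, A.σ_mul_self, mul_one]
    rw [e', e]
    group

open Classical in
/-- the element reduced on both sides in the double coset of `w` -/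
noncomputable def redOf (J K : Set (Fin l)) (w : Equiv.Perm (Fin n)) : Equiv.Perm (Fin n) :=
  if hw : w ∈ A.W Set.univ then Classical.choose (A.exists_lred J K w hw) else 1

theorem redOf_spec (J K : Set (Fin l)) (w : Equiv.Perm (Fin n)) (hw : w ∈ A.W Set.univ) :
    A.redOf J K w ∈ A.W Set.univ ∧ A.Red J (A.redOf J K w)⁻¹ ∧ A.Red K (A.redOf J K w) ∧
      ∃ u ∈ A.W J, ∃ v ∈ A.W K, w = u * A.redOf J K w * v := by
  unfold redOf
  rw [dif_pos hw]
  exact Classical.choose_spec (A.exists_lred J K w hw)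

variable {A}

theorem Coord.redOf_eq (X : A.Coord) (J K : Set (Fin l)) (w d u v : Equiv.Perm (Fin n))
    (hw : w ∈ A.W Set.univ) (hd : d ∈ A.W Set.univ) (hdJ : A.Red J d⁻¹) (hdK : A.Red K d)
    (hu : u ∈ A.W J) (hv : v ∈ A.W K) (e : w = u * d * v) : A.redOf J K w = d := by
  obtain ⟨hx, hxJ, hxK, u', hu', v', hv', e'⟩ := A.redOf_spec J K w hw
  apply X.lred_unique J K d (A.redOf J K w) (u'⁻¹ * u) (v * v'⁻¹) hd hdK hdJ hxK hxJ
    (mul_mem (inv_mem hu') hu) (mul_mem hv (inv_mem hv'))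
  have e2 : A.redOf J K w = u'⁻¹ * w * v'⁻¹ := by
    conv_rhs => rw [e']
    group
  rw [e2, e]
  group

/-- the alternating sum over `K` of the numbers of `(J, K)`-reduced elements -/
theorem Coord.alt_sum_dc (X : A.Coord) (J : Set (Fin l)) :
    ∑ K ∈ (Finset.range l).powerset, (-1 : ℂ) ^ K.card *
      (Nat.card {x : Equiv.Perm (Fin n) // x ∈ A.W Set.univ ∧ A.Red J x⁻¹ ∧
        A.Red {i : Fin l | i.val ∈ K} x} : ℂ) = if J = ∅ then 1 else 0 := by
  classical
  obtain ⟨w0, hw0W, hw0⟩ := A.exists_longest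
  have hw0neg : ∀ r, A.pos r → ¬ A.pos (w0 r) := X.neg_of_simple w0 hw0W hw0
  have hcard : ∀ K : Finset ℕ,
      (Nat.card {x : Equiv.Perm (Fin n) // x ∈ A.W Set.univ ∧ A.Red J x⁻¹ ∧
        A.Red {i : Fin l | i.val ∈ K} x} : ℂ) =
      ∑ w : Equiv.Perm (Fin n), (if w ∈ A.W Set.univ ∧ A.Red J w⁻¹ ∧
        A.Red {i : Fin l | i.val ∈ K} w then (1 : ℂ) else 0) := by
    intro K
    rw [Nat.card_eq_fintype_card, Fintype.card_subtype, Finset.card_filter]
    push_cast
    rfl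
  rw [Finset.sum_congr rfl (fun K _ => by rw [hcard K])]
  rw [X.alt_sum (fun w => if w ∈ A.W Set.univ ∧ A.Red J w⁻¹ then (1 : ℂ) else 0)
    (fun K w => if w ∈ A.W Set.univ ∧ A.Red J w⁻¹ ∧ A.Red {i : Fin l | i.val ∈ K} w
      then (1 : ℂ) else 0) ?_ ?_ w0 hw0W hw0]
  · show (if w0 ∈ A.W Set.univ ∧ A.Red J w0⁻¹ then (1 : ℂ) else 0) = _
    by_cases hJ : J = ∅
    · rw [if_pos hJ, if_pos]
      refine ⟨hw0W, ?_⟩
      rw [hJ]
      intro j hj
      exact absurd hj (Set.notMem_empty j)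
    · rw [if_neg hJ, if_neg]
      rintro ⟨-, hred⟩
      obtain ⟨j, hj⟩ := Set.nonempty_iff_ne_empty.mpr hJ
      have h1 := hred j hj
      have h2 := hw0neg _ h1
      rw [perm_apply_inv] at h2
      exact h2 (A.pos_simple j)
  · intro K w hcond
    show (if _ then (1 : ℂ) else 0) = (if _ then (1 : ℂ) else 0)
    by_cases h : A.Red J w⁻¹
    · rw [if_pos ⟨hcond.1, h, fun i hi => hcond.2 i hi⟩, if_pos ⟨hcond.1, h⟩]
    · rw [if_neg (fun hh => h hh.2.1), if_neg (fun hh => h hh.2)]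
  · intro K w hcond
    show (if _ then (1 : ℂ) else 0) = 0
    rw [if_neg]
    rintro ⟨h1, -, h3⟩
    exact hcond ⟨h1, fun i hi => h3 i hi⟩

end WeylData

end Cfsg.Agent.Lib.helper41
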