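import Cfsg.Agent.Lib.helper41.ChevStein
import Cfsg.Agent.Lib.helper41.WeylDC
import Cfsg.Prelude.Def_Characters

/-!
The double cosets of two standard parabolic subgroups of a Chevalley group are labelled by the
elements of the Weyl group reduced on both sides; the inner products of the permutation
characters on the cosets of the parabolic subgroups, and the norm of their alternating sum.
-/

set_option autoImplicit false

namespace Cfsg.Agent.Lib.helper41

open Cfsg.Lie Cfsg.Agent.Lib.helper22 Cfsg.Agent.Lib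

universe u

section orbits

variable {G : Type*} [Group G]

theorem card_fixedBy_prod_eq {X Y : Type*} [MulAction G X] [MulAction G Y] (g : G) :
    Nat.card (MulAction.fixedBy (X × Y) g) =
      Nat.card (MulAction.fixedBy X g) * Nat.card (MulAction.fixedBy Y g) := by
  rw [← Nat.card_prod]
  apply Nat.card_congr
  exact
    { toFun := fun p => (⟨p.1.1, congrArg Prod.fst p.2⟩, ⟨p.1.2, congrArg Prod.snd p.2⟩)
      invFun := fun q => ⟨(q.1.1, q.2.1), Prod.ext q.1.2 q.2.2⟩
      left_inv := fun p => rfl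
      right_inv := fun q => rfl }

/-- the inner product of two permutation characters is the number of orbits on the pairs of
cosets -/
theorem inner_fixedPoint [Fintype G] (H K : Subgroup G) :
    (Nat.card G : ℂ)⁻¹ * ∑ g : G, Cfsg.fixedPointCharacter H g * Cfsg.fixedPointCharacter K g =
      (Nat.card (MulAction.orbitRel.Quotient G ((G ⧸ H) × (G ⧸ K))) : ℂ) := by
  classical
  have : Fintype (G ⧸ H) := Fintype.ofFinite _
  have : Fintype (G ⧸ K) := Fintype.ofFinite _
  have : Fintype (MulAction.orbitRel.Quotient G ((G ⧸ H) × (G ⧸ K))) := Fintype.ofFinite _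
  have hB := MulAction.sum_card_fixedBy_eq_card_orbits_mul_card_group G ((G ⧸ H) × (G ⧸ K))
  have h1 : ∀ g : G, Cfsg.fixedPointCharacter H g * Cfsg.fixedPointCharacter K g =
      ((Fintype.card (MulAction.fixedBy ((G ⧸ H) × (G ⧸ K)) g) : ℕ) : ℂ) := by
    intro g
    unfold Cfsg.fixedPointCharacter
    rw [← Nat.card_eq_fintype_card, card_fixedBy_prod_eq, Nat.cast_mul]
  simp_rw [h1]
  rw [← Nat.cast_sum, hB, Nat.card_eq_fintype_card, Nat.card_eq_fintype_card, Nat.cast_mul]
  have hG : (Fintype.card G : ℂ) ≠ 0 := by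
    exact_mod_cast Fintype.card_ne_zero
  field_simp

/-- the orbits on the pairs of cosets are counted by a complete invariant of the double
cosets -/
theorem card_orbits_eq_range {T : Type*} (H K : Subgroup G) (d : G → T)
    (hinv : ∀ h ∈ H, ∀ k ∈ K, ∀ g, d (h * g * k) = d g)
    (hcompl : ∀ g g', d g = d g' → ∃ h ∈ H, ∃ k ∈ K, g' = h * g * k) :
    Nat.card (MulAction.orbitRel.Quotient G ((G ⧸ H) × (G ⧸ K))) = Nat.card (Set.range d) := by
  set Φ : (G ⧸ H) × (G ⧸ K) → T := fun p => d (p.1.out⁻¹ * p.2.out) with hΦ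
  have hΦmk : ∀ x y : G, Φ ((x : G ⧸ H), (y : G ⧸ K)) = d (x⁻¹ * y) := by
    intro x y
    obtain ⟨h, hh⟩ := QuotientGroup.mk_out_eq_mul H x
    obtain ⟨k, hk⟩ := QuotientGroup.mk_out_eq_mul K y
    show d ((x : G ⧸ H).out⁻¹ * (y : G ⧸ K).out) = d (x⁻¹ * y)
    rw [hh, hk]
    have : (x * (h : G))⁻¹ * (y * (k : G)) = (h : G)⁻¹ * (x⁻¹ * y) * (k : G) := by group
    rw [this]
    exact hinv _ (H.inv_mem h.2) _ k.2 _
  have hrange : Set.range Φ = Set.range d := by
    ext t
    constructor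
    · rintro ⟨p, rfl⟩
      exact ⟨_, rfl⟩
    · rintro ⟨g, rfl⟩
      exact ⟨((1 : G), (g : G ⧸ K)), by rw [hΦmk]; simp⟩
  rw [← hrange]
  have hker : (MulAction.orbitRel G ((G ⧸ H) × (G ⧸ K))) = Setoid.ker Φ := by
    ext p p'
    rw [MulAction.orbitRel_apply, Setoid.ker_def]
    obtain ⟨u, v⟩ := p
    obtain ⟨u', v'⟩ := p'
    induction u using QuotientGroup.induction_on with
    | _ x =>
    induction v using QuotientGroup.induction_on with
    | _ y =>
    induction u' using QuotientGroup.induction_on with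
    | _ x' =>
    induction v' using QuotientGroup.induction_on with
    | _ y' =>
    rw [hΦmk, hΦmk]
    constructor
    · rintro ⟨γ, hγ⟩
      have h1 : ((γ * x' : G) : G ⧸ H) = (x : G ⧸ H) := congrArg Prod.fst hγ
      have h2 : ((γ * y' : G) : G ⧸ K) = (y : G ⧸ K) := congrArg Prod.snd hγ
      rw [QuotientGroup.eq] at h1 h2
      have : x⁻¹ * y = ((γ * x')⁻¹ * x)⁻¹ * (x'⁻¹ * y') * ((γ * y')⁻¹ * y) := by group
      rw [this]
      exact hinv _ (H.inv_mem h1) _ h2 _
    · intro h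
      obtain ⟨a, ha, b, hb, hab⟩ := hcompl _ _ h.symm
      refine ⟨x * a * x'⁻¹, ?_⟩
      apply Prod.ext
      · show ((x * a * x'⁻¹ * x' : G) : G ⧸ H) = (x : G ⧸ H)
        rw [QuotientGroup.eq]
        have : (x * a * x'⁻¹ * x')⁻¹ * x = a⁻¹ := by group
        rw [this]
        exact H.inv_mem ha
      · show ((x * a * x'⁻¹ * y' : G) : G ⧸ K) = (y : G ⧸ K)
        rw [QuotientGroup.eq]
        have : (x * a * x'⁻¹ * y')⁻¹ * y = (a * (x'⁻¹ * y'))⁻¹ * (x⁻¹ * y) := by group
        rw [this, hab]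
        have : (a * (x'⁻¹ * y'))⁻¹ * (a * (x'⁻¹ * y') * b) = b := by group
        rw [this]
        exact hb
  have e : MulAction.orbitRel.Quotient G ((G ⧸ H) × (G ⧸ K)) ≃ Set.range Φ :=
    (Quotient.congrRight (fun p p' => by rw [hker])).trans (Setoid.quotientKerEquivRange Φ)
  exact Nat.card_congr e

end orbits

namespace CellCtx

variable {D : ChevalleyDatum} {F : Type u} [Field F] (C : CellCtx D F)

theorem cellW_inv (g : ↥(D.group F)) : C.cellW g⁻¹ = (C.cellW g)⁻¹ := by
  obtain ⟨n, hn, hg, hact⟩ := (C.cellW_spec g).2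
  exact C.cellW_eq ⟨n⁻¹, C.P.N.inv_mem hn, helper8.dc_inv C.P hg,
    hact.inv C.I C.hp C.hA ((C.memN n).mp hn)⟩

/-- left multiplication by an element of `⟨n_p : p ∈ J⟩` changes the cell by an element of
`W_J` -/
theorem cellW_closure_mul (J : Set ℕ) {m : ↥(D.group F)}
    (hm : m ∈ Subgroup.closure (simpleSet D F J)) :
    ∀ g : ↥(D.group F), ∃ u ∈ C.A.W (nodesOf D J), C.cellW (m * g) = u * C.cellW g := by
  induction hm using Subgroup.closure_induction with
  | mem s hs =>
    intro g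
    obtain ⟨j, hjJ, hj, hsm⟩ := hs
    obtain ⟨n, hn, hg, hact⟩ := (C.cellW_spec g).2
    have hsS : s ∈ C.P.S := C.simpleSet_subset J ⟨j, hjJ, hj, hsm⟩
    rcases helper8.s_mul_dc C.P hsS hn hg with h | h
    · refine ⟨C.A.σ ⟨j, hj⟩, C.A.σ_mem_W _ _ hjJ, ?_⟩
      exact C.cellW_eq ⟨s * n, C.P.N.mul_mem (C.P.subset hsS) hn, h,
        (actsAs_simple C.I C.hA ⟨j, hj⟩ hsm).mul hact⟩
    · refine ⟨1, one_mem _, ?_⟩
      rw [one_mul]
      exact C.cellW_eq ⟨n, hn, h, hact⟩
  | one =>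
    intro g
    exact ⟨1, one_mem _, by rw [one_mul, one_mul]⟩
  | mul x y _ _ hx hy =>
    intro g
    obtain ⟨u, hu, e⟩ := hx (y * g)
    obtain ⟨u', hu', e'⟩ := hy g
    exact ⟨u * u', mul_mem hu hu', by rw [mul_assoc, e, e', mul_assoc]⟩
  | inv x _ hx =>
    intro g
    obtain ⟨u, hu, e⟩ := hx (x⁻¹ * g)
    refine ⟨u⁻¹, inv_mem hu, ?_⟩
    rw [mul_inv_cancel_left] at e
    rw [e, inv_mul_cancel_left]

/-- left multiplication by an element of `P_J` changes the cell by an element of `W_J` -/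
theorem cellW_parabolic_mul (J : Set ℕ) {p : ↥(D.group F)}
    (hp : p ∈ C.P.parabolic (simpleSet D F J)) (g : ↥(D.group F)) :
    ∃ u ∈ C.A.W (nodesOf D J), C.cellW (p * g) = u * C.cellW g := by
  obtain ⟨m, hm, hpm⟩ := (helper8.mem_parabolic_iff C.P (C.simpleSet_subset J) p).mp hp
  obtain ⟨x, hx, y, hy, rfl⟩ := (helper8.mem_dc_iff C.P).mp hpm
  obtain ⟨u, hu, e⟩ := C.cellW_closure_mul J hm (y * g)
  refine ⟨u, hu, ?_⟩
  have e1 : x * m * y * g = x * (m * (y * g)) := by group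
  rw [e1, C.cellW_mul_left _ hx, e, C.cellW_mul_left _ hy]

/-- right multiplication by an element of `P_K` changes the cell by an element of `W_K` -/
theorem cellW_mul_parabolic (K : Set ℕ) {p : ↥(D.group F)}
    (hp : p ∈ C.P.parabolic (simpleSet D F K)) (g : ↥(D.group F)) :
    ∃ v ∈ C.A.W (nodesOf D K), C.cellW (g * p) = C.cellW g * v := by
  obtain ⟨v, hv, e⟩ := C.cellW_parabolic_mul K (inv_mem hp) g⁻¹
  refine ⟨v⁻¹, inv_mem hv, ?_⟩
  have e1 : g * p = (p⁻¹ * g⁻¹)⁻¹ := by group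
  rw [e1, C.cellW_inv, e, C.cellW_inv, mul_inv_rev, inv_inv]

/-- elements whose cells differ by elements of `W_J` and `W_K` lie in the same double coset of
`P_J` and `P_K` -/
theorem exists_parabolic_of_cellW (J K : Set ℕ) {g g' : ↥(D.group F)}
    {u v : Equiv.Perm (Fin D.nroots)} (hu : u ∈ C.A.W (nodesOf D J))
    (hv : v ∈ C.A.W (nodesOf D K)) (e : C.cellW g' = u * C.cellW g * v) :
    ∃ h ∈ C.P.parabolic (simpleSet D F J), ∃ k ∈ C.P.parabolic (simpleSet D F K),
      g' = h * g * k := by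
  obtain ⟨n, hn, hg, hact⟩ := (C.cellW_spec g).2
  obtain ⟨n', hn', hg', hact'⟩ := (C.cellW_spec g').2
  obtain ⟨mu, hmu, hactu⟩ := C.exists_closure_actsAs J hu
  obtain ⟨mv, hmv, hactv⟩ := C.exists_closure_actsAs K hv
  have hmuN : mu ∈ C.P.N := helper8.closure_le_N C.P (C.simpleSet_subset J) hmu
  have hmvN : mv ∈ C.P.N := helper8.closure_le_N C.P (C.simpleSet_subset K) hmv
  have hN : mu * n * mv ∈ C.P.N := C.P.N.mul_mem (C.P.N.mul_mem hmuN hn) hmvN
  have hact2 : ActsAs D F ((mu * n * mv : ↥(D.group F)) : GL D.Idx F) (u * C.cellW g * v) :=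
    (hactu.mul hact).mul hactv
  have hact3 : ActsAs D F (((mu * n * mv)⁻¹ * n' : ↥(D.group F)) : GL D.Idx F) 1 := by
    have h := (hact2.inv C.I C.hp C.hA ((C.memN _).mp hN)).mul hact'
    rw [e, inv_mul_cancel] at h
    exact h
  have ht : (mu * n * mv)⁻¹ * n' ∈ C.P.B :=
    C.memB_of_diag _ (mem_diag_of_actsAs_one C.I C.hp C.hA C.hBG C.hNG C.hG _
      ((C.memN _).mp (C.P.N.mul_mem (C.P.N.inv_mem hN) hn')) hact3)
  obtain ⟨b1, hb1, b2, hb2, eg⟩ := (helper8.mem_dc_iff C.P).mp hg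
  obtain ⟨b1', hb1', b2', hb2', eg'⟩ := (helper8.mem_dc_iff C.P).mp hg'
  have hBJ := helper8.B_le_parabolic C.P (simpleSet D F J)
  have hBK := helper8.B_le_parabolic C.P (simpleSet D F K)
  have hcJ : Subgroup.closure (simpleSet D F J) ≤ C.P.parabolic (simpleSet D F J) := le_sup_right
  have hcK : Subgroup.closure (simpleSet D F K) ≤ C.P.parabolic (simpleSet D F K) := le_sup_right
  refine ⟨b1' * mu * b1⁻¹, ?_, b2⁻¹ * mv * ((mu * n * mv)⁻¹ * n') * b2', ?_, ?_⟩
  · exact mul_mem (mul_mem (hBJ hb1') (hcJ hmu)) (hBJ (inv_mem hb1))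
  · exact mul_mem (mul_mem (mul_mem (hBK (inv_mem hb2)) (hcK hmv)) (hBK ht)) (hBK hb2')
  · rw [eg', eg]
    group

/-- the label of the double coset `P_J g P_K` -/
noncomputable def dcLabel (J K : Set ℕ) (g : ↥(D.group F)) : Equiv.Perm (Fin D.nroots) :=
  C.A.redOf (nodesOf D J) (nodesOf D K) (C.cellW g)

theorem dcLabel_mul (J K : Set ℕ) {h k : ↥(D.group F)}
    (hh : h ∈ C.P.parabolic (simpleSet D F J)) (hk : k ∈ C.P.parabolic (simpleSet D F K))
    (g : ↥(D.group F)) : C.dcLabel J K (h * g * k) = C.dcLabel J K g := by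
  obtain ⟨v, hv, e1⟩ := C.cellW_mul_parabolic K hk (h * g)
  obtain ⟨u, hu, e2⟩ := C.cellW_parabolic_mul J hh g
  obtain ⟨hdW, hdJ, hdK, u0, hu0, v0, hv0, e0⟩ :=
    C.A.redOf_spec (nodesOf D J) (nodesOf D K) _ (C.cellW_spec g).1
  unfold dcLabel
  apply C.X.redOf_eq (nodesOf D J) (nodesOf D K) _ _ (u * u0) (v0 * v) (C.cellW_spec _).1
    hdW hdJ hdK (mul_mem hu hu0) (mul_mem hv0 hv)
  rw [e1, e2]
  conv_lhs => rw [e0]
  group

theorem exists_of_dcLabel_eq (J K : Set ℕ) {g g' : ↥(D.group F)}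
    (e : C.dcLabel J K g = C.dcLabel J K g') :
    ∃ h ∈ C.P.parabolic (simpleSet D F J), ∃ k ∈ C.P.parabolic (simpleSet D F K),
      g' = h * g * k := by
  obtain ⟨-, -, -, u0, hu0, v0, hv0, e0⟩ :=
    C.A.redOf_spec (nodesOf D J) (nodesOf D K) _ (C.cellW_spec g).1
  obtain ⟨-, -, -, u1, hu1, v1, hv1, e1⟩ :=
    C.A.redOf_spec (nodesOf D J) (nodesOf D K) _ (C.cellW_spec g').1
  apply C.exists_parabolic_of_cellW J K (u := u1 * u0⁻¹) (v := v0⁻¹ * v1)
    (mul_mem hu1 (inv_mem hu0)) (mul_mem (inv_mem hv0) hv1)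
  unfold dcLabel at e
  have e2 : C.A.redOf (nodesOf D J) (nodesOf D K) (C.cellW g) = u0⁻¹ * C.cellW g * v0⁻¹ := by
    conv_rhs => rw [e0]
    group
  conv_lhs => rw [e1]
  rw [← e, e2]
  group

theorem range_dcLabel (J K : Set ℕ) :
    Set.range (C.dcLabel J K) = {x | x ∈ C.A.W Set.univ ∧ C.A.Red (nodesOf D J) x⁻¹ ∧
      C.A.Red (nodesOf D K) x} := by
  ext x
  constructor
  · rintro ⟨g, rfl⟩
    obtain ⟨h1, h2, h3, -⟩ := C.A.redOf_spec (nodesOf D J) (nodesOf D K) _ (C.cellW_spec g).1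
    exact ⟨h1, h2, h3⟩
  · rintro ⟨h1, h2, h3⟩
    obtain ⟨n', hn', hact⟩ := exists_monomial_actsAs C.I C.hp C.hA h1
    refine ⟨⟨n', C.hNG hn'⟩, ?_⟩
    have hc : C.cellW (⟨n', C.hNG hn'⟩ : ↥(D.group F)) = x :=
      C.cellW_eq ⟨⟨n', C.hNG hn'⟩, (C.memN _).mpr hn', helper8.mem_dc_self C.P _, hact⟩
    unfold dcLabel
    rw [hc]
    exact C.X.redOf_eq (nodesOf D J) (nodesOf D K) x x 1 1 h1 h1 h2 h3 (one_mem _) (one_mem _)
      (by rw [one_mul, mul_one])

/-- the inner product of the permutation characters on the cosets of `P_J` and `P_K` is the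
number of elements of the Weyl group reduced on both sides -/
theorem inner_parabolic [Fintype ↥(D.group F)] (J K : Finset ℕ) :
    (Nat.card ↥(D.group F) : ℂ)⁻¹ * ∑ g : ↥(D.group F),
      Cfsg.fixedPointCharacter (D.parabolicIn F J) g *
        Cfsg.fixedPointCharacter (D.parabolicIn F K) g =
    (Nat.card {x : Equiv.Perm (Fin D.nroots) // x ∈ C.A.W Set.univ ∧
      C.A.Red (nodesOf D ↑J) x⁻¹ ∧ C.A.Red {i : Fin D.rank | i.val ∈ K} x} : ℂ) := by
  rw [C.parabolicIn_eq J, C.parabolicIn_eq K, inner_fixedPoint,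
    card_orbits_eq_range _ _ (C.dcLabel ↑J ↑K) (fun h hh k hk g => C.dcLabel_mul ↑J ↑K hh hk g)
      (fun g g' e => C.exists_of_dcLabel_eq ↑J ↑K e), C.range_dcLabel]
  rfl

/-- the alternating sum of the permutation characters on the cosets of the parabolic subgroups
has norm `1` -/
theorem steinberg_norm (C : CellCtx D F) [Fintype ↥(D.group F)] :
    Cfsg.classInner (D.steinbergCharacter F) (D.steinbergCharacter F) = 1 := by
  classical
  have hconj : ∀ g : ↥(D.group F),
      (starRingEnd ℂ) (D.steinbergCharacter F g) = D.steinbergCharacter F g := by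
    intro g
    unfold ChevalleyDatum.steinbergCharacter
    rw [map_sum]
    apply Finset.sum_congr rfl
    intro J _
    rw [map_mul, map_pow, map_neg, map_one]
    unfold Cfsg.fixedPointCharacter
    rw [Complex.conj_natCast]
  have hexp : ∀ g : ↥(D.group F), D.steinbergCharacter F g * D.steinbergCharacter F g =
      ∑ J ∈ (Finset.range D.rank).powerset, ∑ K ∈ (Finset.range D.rank).powerset,
        (-1 : ℂ) ^ J.card * ((-1 : ℂ) ^ K.card *
          (Cfsg.fixedPointCharacter (D.parabolicIn F J) g *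
            Cfsg.fixedPointCharacter (D.parabolicIn F K) g)) := by
    intro g
    unfold ChevalleyDatum.steinbergCharacter
    rw [Finset.sum_mul_sum]
    apply Finset.sum_congr rfl
    intro J _
    apply Finset.sum_congr rfl
    intro K _
    ring
  have hJ : ∀ J ∈ (Finset.range D.rank).powerset,
      (Nat.card ↥(D.group F) : ℂ)⁻¹ * ∑ g : ↥(D.group F),
        ∑ K ∈ (Finset.range D.rank).powerset,
          (-1 : ℂ) ^ J.card * ((-1 : ℂ) ^ K.card *
            (Cfsg.fixedPointCharacter (D.parabolicIn F J) g *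
              Cfsg.fixedPointCharacter (D.parabolicIn F K) g)) =
      (-1 : ℂ) ^ J.card * (if nodesOf D ↑J = ∅ then 1 else 0) := by
    intro J _
    rw [Finset.sum_comm, ← C.X.alt_sum_dc (nodesOf D ↑J)]
    simp only [Finset.mul_sum]
    apply Finset.sum_congr rfl
    intro K _
    rw [← C.inner_parabolic J K]
    simp only [Finset.mul_sum]
    apply Finset.sum_congr rfl
    intro g _
    ring
  unfold Cfsg.classInner
  rw [Finset.sum_congr rfl (fun g _ => by rw [hconj g, hexp g]), Finset.sum_comm, Finset.mul_sum,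
    Finset.sum_congr rfl hJ, Finset.sum_eq_single ∅]
  · rw [Finset.card_empty, pow_zero, one_mul, if_pos]
    ext i
    simp [nodesOf]
  · intro J hJ' hne
    rw [if_neg, mul_zero]
    intro h0
    apply hne
    rw [Finset.mem_powerset] at hJ'
    apply Finset.eq_empty_of_forall_notMem
    intro j hj
    have hjl : j < D.rank := Finset.mem_range.mp (hJ' hj)
    have hmem : (⟨j, hjl⟩ : Fin D.rank) ∈ nodesOf D ↑J := hj
    rw [h0] at hmem
    exact hmem
  · intro h
    exact absurd (Finset.empty_mem_powerset _) h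

end CellCtx

end Cfsg.Agent.Lib.helper41
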