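import Cfsg.Agent.Lib.helper41.ChevUniTab
import Cfsg.Agent.S1023
import Cfsg.Agent.S1024

/-!
The normal form of the elements of `U` and the order of `U`, for the seven tabulated Chevalley
data, from the commutator formula (taken as a hypothesis `CommFormula D F`, the statement of
S1025 for the datum `D` over `F`).
-/

set_option autoImplicit false

namespace Cfsg.Agent.Lib.helper41

open Cfsg.Lie Cfsg.Agent.Lib.helper22

/-- the commutator formula for all pairs of non-proportional roots -/
def CommFormula (D : ChevalleyDatum) (F : Type*) [Field F] : Prop :=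
  ∀ (r s : ℕ), r < D.nroots → s < D.nroots → s ≠ r → s ≠ D.neg r → ∀ t u : F,
    D.x F s u * D.x F r t = D.x F r t * D.x F s u * D.wordMat F (D.commWord F r s t u)

theorem addHyp_all (D : ChevalleyDatum)
    (hD : D ∈ [chevG2, chevB2, chevD4, chevF4, chevE6, chevE7, chevE8]) (F : Type*) [Field F] :
    AddHyp D F :=
  ⟨fun r hr a b => Cfsg.Agent.S1023.result D hD r hr a b,
    fun r hr => (Cfsg.Agent.S1024.result D hD r hr 0).mpr rfl⟩

theorem commHyp_all (D : ChevalleyDatum)
    (hD : D ∈ [chevG2, chevB2, chevD4, chevF4, chevE6, chevE7, chevE8]) {F : Type*} [Field F]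
    (h : CommFormula D F) : CommHyp D F := by
  intro r s hr hs hrs
  obtain ⟨h1, h2⟩ := ordOK_all D hD
  refine ⟨fun t u => h r s hr.1 hs.1 (by omega) ?_ t u,
    fun c hc => commTerms_pos D h1 h2 r s hr hs hrs c hc⟩
  have h3 := (posOK_of_triOK D (triOK_all D hD) r hr).2.1
  have h4 := ((isPosRoot_iff D h1 s).mp hs).1
  omega

theorem ordProd_unique_all (D : ChevalleyDatum)
    (hD : D ∈ [chevG2, chevB2, chevD4, chevF4, chevE6, chevE7, chevE8]) {F : Type*} [Field F]
    (t t' : ℕ → F) (h : ordProd D D.posRoots t = ordProd D D.posRoots t') :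
    ∀ r, D.IsPosRoot r → t r = t' r := by
  obtain ⟨h1, -⟩ := ordOK_all D hD
  intro r hr
  exact ordProd_unique D (posOK_of_triOK D (triOK_all D hD)) (fun r hr => (ordOK_spec D h1 r hr).1)
    (fun r hr δ h => prim_of_corGcd D r (ordOK_spec D h1 r hr.1).2.2 δ h) (addHyp_all D hD F)
    D.posRoots (posRoots_pairwise D) (fun r hr => (mem_posRoots D r).mp hr) t t' h r
    ((mem_posRoots D r).mpr hr)

/-- the statement of S1026, from the commutator formula -/
theorem posUnipotent_normalForm (D : ChevalleyDatum)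
    (hD : D ∈ [chevG2, chevB2, chevD4, chevF4, chevE6, chevE7, chevE8]) {F : Type*} [Field F]
    (hc : CommFormula D F) :
    (∀ g : GL D.Idx F, g ∈ D.posUnipotent F →
      ∃! t : ℕ → F, (∀ r, ¬ D.IsPosRoot r → t r = 0) ∧
        (g : Matrix D.Idx D.Idx F) = D.wordMat F (D.posRoots.map fun r => (r, t r))) ∧
    (∀ t : ℕ → F, ∃ g : GL D.Idx F, g ∈ D.posUnipotent F ∧
      (g : Matrix D.Idx D.Idx F) = D.wordMat F (D.posRoots.map fun r => (r, t r))) := by
  have hadd := addHyp_all D hD F
  have hcomm := commHyp_all D hD hc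
  constructor
  · intro g hg
    obtain ⟨t0, ht0⟩ := posUnipotent_ordProd D hadd hcomm g hg
    refine ⟨fun r => if D.IsPosRoot r then t0 r else 0, ⟨fun r hr => if_neg hr, ?_⟩, ?_⟩
    · rw [ht0]
      apply ordProd_congr
      intro r hr
      exact (if_pos ((mem_posRoots D r).mp hr)).symm
    · rintro t' ⟨ht'1, ht'2⟩
      funext r
      by_cases hr : D.IsPosRoot r
      · rw [if_pos hr]
        exact (ordProd_unique_all D hD t0 t' (ht0.symm.trans ht'2) r hr).symm
      · rw [if_neg hr]
        exact ht'1 r hr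
  · intro t
    exact exists_posUnipotent_ordProd D hadd D.posRoots (fun r hr => (mem_posRoots D r).mp hr) t

theorem nroots_even_all (D : ChevalleyDatum)
    (hD : D ∈ [chevG2, chevB2, chevD4, chevF4, chevE6, chevE7, chevE8]) :
    D.nroots - D.nroots / 2 = D.nroots / 2 := by
  simp only [List.mem_cons, List.not_mem_nil, or_false] at hD
  rcases hD with rfl | rfl | rfl | rfl | rfl | rfl | rfl <;> rfl

theorem card_posRoot_all (D : ChevalleyDatum)
    (hD : D ∈ [chevG2, chevB2, chevD4, chevF4, chevE6, chevE7, chevE8]) :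
    Nat.card {r : ℕ // D.IsPosRoot r} = D.nroots / 2 := by
  obtain ⟨h1, -⟩ := ordOK_all D hD
  have e : {r : ℕ // D.IsPosRoot r} ≃ {r : ℕ // r ∈ Finset.Ico (D.nroots / 2) D.nroots} :=
    Equiv.subtypeEquivRight (fun r => by rw [Finset.mem_Ico]; exact isPosRoot_iff D h1 r)
  rw [Nat.card_congr e, Nat.card_eq_fintype_card, Fintype.card_coe, Nat.card_Ico,
    nroots_even_all D hD]

/-- the statement of S1027, from the commutator formula -/
theorem card_posUnipotent (D : ChevalleyDatum)
    (hD : D ∈ [chevG2, chevB2, chevD4, chevF4, chevE6, chevE7, chevE8]) {F : Type*} [Field F]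
    [Fintype F] (hc : CommFormula D F) :
    Nat.card (D.posUnipotent F) = Fintype.card F ^ (D.nroots / 2) := by
  classical
  obtain ⟨hN1, hN2⟩ := posUnipotent_normalForm D hD hc
  let S := {t : ℕ → F // ∀ r, ¬ D.IsPosRoot r → t r = 0}
  have hex : ∀ g : ↥(D.posUnipotent F), ∃ t : S,
      ((g : GL D.Idx F) : Matrix D.Idx D.Idx F) = ordProd D D.posRoots t.1 := by
    intro g
    obtain ⟨t, ⟨ht1, ht2⟩, -⟩ := hN1 g.1 g.2
    exact ⟨⟨t, ht1⟩, ht2⟩
  choose Φ hΦ using hex
  have hinj : Function.Injective Φ := by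
    intro g1 g2 h
    apply Subtype.ext
    apply Units.ext
    rw [hΦ g1, hΦ g2, h]
  have hsurj : Function.Surjective Φ := by
    intro t
    obtain ⟨g, hg, hgm⟩ := hN2 t.1
    refine ⟨⟨g, hg⟩, ?_⟩
    apply Subtype.ext
    funext r
    by_cases hr : D.IsPosRoot r
    · exact ordProd_unique_all D hD _ _ ((hΦ ⟨g, hg⟩).symm.trans hgm) r hr
    · rw [(Φ ⟨g, hg⟩).2 r hr, t.2 r hr]
  have e2 : S ≃ ({r : ℕ // D.IsPosRoot r} → F) :=
    { toFun := fun t r => t.1 r.1
      invFun := fun τ => ⟨fun r => if h : D.IsPosRoot r then τ ⟨r, h⟩ else 0,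
        fun r hr => dif_neg hr⟩
      left_inv := by
        intro t
        apply Subtype.ext
        funext r
        by_cases hr : D.IsPosRoot r
        · simp [hr]
        · simp only [hr, dite_false]
          exact (t.2 r hr).symm
      right_inv := by
        intro τ
        funext r
        simp [r.2] }
  have hfin : Finite {r : ℕ // D.IsPosRoot r} :=
    Finite.of_injective (fun r : {r : ℕ // D.IsPosRoot r} => (⟨r.1, r.2.1⟩ : Fin D.nroots))
      (fun a b h => Subtype.ext (congrArg Fin.val h))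
  rw [Nat.card_congr (Equiv.ofBijective Φ ⟨hinj, hsurj⟩), Nat.card_congr e2, Nat.card_fun,
    card_posRoot_all D hD, Nat.card_eq_fintype_card]

end Cfsg.Agent.Lib.helper41
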