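import Cfsg.Agent.Lib.helper41.FGF1core
import Cfsg.Agent.Lib.helper15.FGF0

/-!
S1915 piece F1 (racing copy by helper41): the verbatim statement, from the core and F0 (`four_max`).
-/

set_option autoImplicit false

namespace Cfsg.Agent.Lib.helper42.FG

variable {G : Type*} [Group G] [Finite G]

/-- F1 -/
theorem h41_norm_fixes_z {A S : Subgroup G} (hSA : S ≤ A)
    (hSyl : Nat.card S = 2 ^ (Nat.card A).factorization 2) {z : G} (hz : ZData S z)
    (c : G) (hcA : c ∉ A) (hcN : ∀ a ∈ A, c * a * c⁻¹ ∈ A) (hcS : ∀ y ∈ S, c * y = y * c)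
    (hcc : c * c = z) (V : Subgroup G) (hVS : V ≤ S) (hV : IsKleinFour V) (m : G) (hm : m ∈ A)
    (hmV : ∀ v ∈ V, m * v * m⁻¹ ∈ V) : m * z * m⁻¹ = z :=
  h41_norm_fixes_z_core hSA hz c hcA hcN hcS hcc V hVS hV
    (fun R hRA hR hVR hRV => four_max hSA hSyl hz V hVS hV R hRA hR hVR hRV) m hm hmV

end Cfsg.Agent.Lib.helper42.FG
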