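import Cfsg.Agent.Lib.helper42.FGDefs

/-!
S1915 piece F1 (racing copy by helper41): core with the statement of F0 (`four_max`, specialised to `V`)
as a hypothesis.
-/

set_option autoImplicit false

namespace Cfsg.Agent.Lib.helper42.FG

variable {G : Type*} [Group G] [Finite G]

theorem h41_pg_zpowers {H : Type*} [Group H] (x : H) (hx : x ^ 4 = 1) :
    IsPGroup 2 (Subgroup.zpowers x) := by
  have h1 : orderOf x ∣ 2 ^ 2 := orderOf_dvd_of_pow_eq_one hx
  obtain ⟨k, -, hk⟩ := (Nat.dvd_prime_pow Nat.prime_two).1 h1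
  exact IsPGroup.of_card (n := k) (by rw [Nat.card_zpowers, hk])

/-- the subgroup `A ∪ A c` -/
def h41_T (A : Subgroup G) (c : G) (hcN : ∀ a ∈ A, c * a * c⁻¹ ∈ A) (hcc : c * c ∈ A) :
    Subgroup G where
  carrier := {g | g ∈ A ∨ g * c⁻¹ ∈ A}
  one_mem' := Or.inl A.one_mem
  mul_mem' := by
    rintro g g' (hg | hg) (hg' | hg')
    · exact Or.inl (A.mul_mem hg hg')
    · right
      have h0 : g * g' * c⁻¹ = g * (g' * c⁻¹) := by group
      rw [h0]
      exact A.mul_mem hg hg'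
    · right
      have h0 : g * g' * c⁻¹ = (g * c⁻¹) * (c * g' * c⁻¹) := by group
      rw [h0]
      exact A.mul_mem hg (hcN g' hg')
    · left
      have h0 : g * g' = (g * c⁻¹) * (c * (g' * c⁻¹) * c⁻¹) * (c * c) := by group
      rw [h0]
      exact A.mul_mem (A.mul_mem hg (hcN _ hg')) hcc
  inv_mem' := by
    rintro g (hg | hg)
    · exact Or.inl (A.inv_mem hg)
    · right
      have h0 : g⁻¹ * c⁻¹ = (c * c)⁻¹ * (c * (g * c⁻¹)⁻¹ * c⁻¹) := by group
      rw [h0]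
      exact A.mul_mem (A.inv_mem hcc) (hcN _ (A.inv_mem hg))

theorem h41_mem_T (A : Subgroup G) (c : G) (hcN : ∀ a ∈ A, c * a * c⁻¹ ∈ A) (hcc : c * c ∈ A)
    (g : G) : g ∈ h41_T A c hcN hcc ↔ (g ∈ A ∨ g * c⁻¹ ∈ A) := Iff.rfl

/-- F1 core: `four_max` for `V` as the hypothesis `hF0`. -/
theorem h41_norm_fixes_z_core {A S : Subgroup G} (hSA : S ≤ A) {z : G} (hz : ZData S z)
    (c : G) (hcA : c ∉ A) (hcN : ∀ a ∈ A, c * a * c⁻¹ ∈ A) (hcS : ∀ y ∈ S, c * y = y * c)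
    (hcc : c * c = z) (V : Subgroup G) (hVS : V ≤ S) (hV : IsKleinFour V)
    (hF0 : ∀ R : Subgroup G, R ≤ A → IsPGroup 2 R → V ≤ R →
      (∀ r ∈ R, ∀ v ∈ V, r * v = v * r) → R = V)
    (m : G) (hm : m ∈ A) (hmV : ∀ v ∈ V, m * v * m⁻¹ ∈ V) : m * z * m⁻¹ = z := by
  classical
  have hzV : z ∈ V := (hz.h4 V hVS hV).1
  have hVA : V ≤ A := hVS.trans hSA
  have hzA : z ∈ A := hVA hzV
  have hz1 : z ≠ 1 := by
    intro h
    have h2 := hz.hz2
    rw [h, orderOf_one] at h2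
    exact absurd h2 (by norm_num)
  have hz2 : z * z = 1 := by
    have h2 := pow_orderOf_eq_one z
    rw [hz.hz2, pow_two] at h2
    exact h2
  have hcV : ∀ v ∈ V, c * v = v * c := fun v hv => hcS v (hVS hv)
  have hV2 : ∀ v ∈ V, v * v = 1 := by
    intro v hv
    have h1 : (⟨v, hv⟩ : V) ^ 2 = 1 := by
      have h0 := Monoid.pow_exponent_eq_one (⟨v, hv⟩ : V)
      rwa [hV.exponent_two] at h0
    have h2 := congrArg Subtype.val h1
    simpa [pow_two] using h2
  have hVc : ∀ v ∈ V, ∀ w ∈ V, v * w = w * v := by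
    intro v hv w hw
    have h1 := mul_comm_of_exponent_two hV.exponent_two (⟨v, hv⟩ : V) ⟨w, hw⟩
    exact congrArg Subtype.val h1
  have hmV' : ∀ v ∈ V, ∃ w ∈ V, v = m * w * m⁻¹ := by
    let f : V → V := fun w => ⟨m * w * m⁻¹, hmV w w.2⟩
    have hinj : Function.Injective f := by
      intro w w' h
      have h0 : m * (w : G) * m⁻¹ = m * (w' : G) * m⁻¹ := congrArg Subtype.val h
      apply Subtype.ext
      exact mul_left_cancel (mul_right_cancel h0)
    have hsurj := Finite.surjective_of_injective hinj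
    intro v hv
    obtain ⟨w, hw⟩ := hsurj ⟨v, hv⟩
    exact ⟨w, w.2, (congrArg Subtype.val hw).symm⟩
  have hccA : c * c ∈ A := by rw [hcc]; exact hzA
  have hCmem : ∀ g : G, g ∈ h41_T A c hcN hccA ⊓ Subgroup.centralizer (V : Set G) ↔
      ((g ∈ A ∨ g * c⁻¹ ∈ A) ∧ ∀ v ∈ V, v * g = g * v) := fun g => Iff.rfl
  have hcC : c ∈ h41_T A c hcN hccA ⊓ Subgroup.centralizer (V : Set G) := by
    rw [hCmem]
    refine ⟨Or.inr ?_, fun v hv => (hcV v hv).symm⟩
    rw [mul_inv_cancel]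
    exact A.one_mem
  have hVC : V ≤ h41_T A c hcN hccA ⊓ Subgroup.centralizer (V : Set G) := by
    intro v hv
    rw [hCmem]
    exact ⟨Or.inl (hVA hv), fun w hw => hVc w hw v hv⟩
  have hc'C : m * c * m⁻¹ ∈ h41_T A c hcN hccA ⊓ Subgroup.centralizer (V : Set G) := by
    rw [hCmem]
    refine ⟨Or.inr ?_, ?_⟩
    · have h0 : m * c * m⁻¹ * c⁻¹ = m * (c * m⁻¹ * c⁻¹) := by group
      rw [h0]
      exact A.mul_mem hm (hcN _ (A.inv_mem hm))
    · intro v hv
      obtain ⟨w, hw, rfl⟩ := hmV' v hv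
      have h1 := hcV w hw
      calc m * w * m⁻¹ * (m * c * m⁻¹) = m * (w * c) * m⁻¹ := by group
        _ = m * (c * w) * m⁻¹ := by rw [h1]
        _ = m * c * m⁻¹ * (m * w * m⁻¹) := by group
  have hc4 : c ^ 4 = 1 := by
    have h0 : c ^ 4 = (c * c) * (c * c) := by
      rw [show (4 : ℕ) = 2 + 2 from rfl, pow_add, pow_two]
    rw [h0, hcc, hz2]
  have hc'4 : (m * c * m⁻¹) ^ 4 = 1 := by
    rw [conj_pow, hc4]
    group
  have hnorm : Subgroup.zpowers c ≤ Subgroup.normalizer (V : Set G) := by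
    rw [Subgroup.zpowers_le]
    apply Subgroup.centralizer_le_normalizer
    intro v hv
    exact (hcV v hv).symm
  have hD : IsPGroup 2 (Subgroup.zpowers c ⊔ V : Subgroup G) :=
    IsPGroup.to_sup_of_normal_right' (h41_pg_zpowers c hc4)
      (IsPGroup.of_card (n := 2) (by rw [hV.card_four]; norm_num)) hnorm
  have hDC : Subgroup.zpowers c ⊔ V ≤ h41_T A c hcN hccA ⊓ Subgroup.centralizer (V : Set G) :=
    sup_le (Subgroup.zpowers_le.2 hcC) hVC
  -- Sylow theory in `C`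
  have hD' : IsPGroup 2 ((Subgroup.zpowers c ⊔ V).subgroupOf
      (h41_T A c hcN hccA ⊓ Subgroup.centralizer (V : Set G))) :=
    hD.comap_of_injective _ (Subgroup.subtype_injective _)
  obtain ⟨P, hP⟩ := hD'.exists_le_sylow
  have hQ0 : IsPGroup 2 (Subgroup.zpowers (⟨m * c * m⁻¹, hc'C⟩ :
      ↥(h41_T A c hcN hccA ⊓ Subgroup.centralizer (V : Set G)))) :=
    h41_pg_zpowers _ (by
      apply Subtype.ext
      simpa using hc'4)
  obtain ⟨Q, hQ⟩ := hQ0.exists_le_sylow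
  obtain ⟨k, hk⟩ := MulAction.exists_smul_eq
    (↥(h41_T A c hcN hccA ⊓ Subgroup.centralizer (V : Set G))) Q P
  have hdP : k * (⟨m * c * m⁻¹, hc'C⟩ :
      ↥(h41_T A c hcN hccA ⊓ Subgroup.centralizer (V : Set G))) * k⁻¹ ∈ P := by
    have hx : (⟨m * c * m⁻¹, hc'C⟩ :
        ↥(h41_T A c hcN hccA ⊓ Subgroup.centralizer (V : Set G))) ∈ Q :=
      hQ (Subgroup.mem_zpowers _)
    rw [← hk, Sylow.smul_def]
    exact Subgroup.smul_mem_pointwise_smul _ _ _ hx
  -- the image `R` of `P` in `G`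
  have hR2 : IsPGroup 2 ((P : Subgroup ↥(h41_T A c hcN hccA ⊓
      Subgroup.centralizer (V : Set G))).map (Subgroup.subtype _)) := P.isPGroup'.map _
  have hRC : (P : Subgroup ↥(h41_T A c hcN hccA ⊓
      Subgroup.centralizer (V : Set G))).map (Subgroup.subtype _) ≤
      h41_T A c hcN hccA ⊓ Subgroup.centralizer (V : Set G) := by
    rintro _ ⟨x, -, rfl⟩
    exact x.2
  have hVR : V ≤ (P : Subgroup ↥(h41_T A c hcN hccA ⊓
      Subgroup.centralizer (V : Set G))).map (Subgroup.subtype _) := by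
    intro v hv
    exact ⟨⟨v, hVC hv⟩, hP (Subgroup.mem_subgroupOf.2 (Subgroup.mem_sup_right hv)), rfl⟩
  have hcR : c ∈ (P : Subgroup ↥(h41_T A c hcN hccA ⊓
      Subgroup.centralizer (V : Set G))).map (Subgroup.subtype _) :=
    ⟨⟨c, hcC⟩, hP (Subgroup.mem_subgroupOf.2
      (Subgroup.mem_sup_left (Subgroup.mem_zpowers c))), rfl⟩
  have hRA : (P : Subgroup ↥(h41_T A c hcN hccA ⊓
      Subgroup.centralizer (V : Set G))).map (Subgroup.subtype _) ⊓ A = V := by
    apply hF0 _ inf_le_right (hR2.to_le inf_le_left) (le_inf hVR hVA)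
    intro r hr v hv
    exact (((hCmem r).1 (hRC hr.1)).2 v hv).symm
  have hstar : ∀ d ∈ (P : Subgroup ↥(h41_T A c hcN hccA ⊓
      Subgroup.centralizer (V : Set G))).map (Subgroup.subtype _), d * d = 1 ∨ d * d = z := by
    intro d hd
    rcases ((hCmem d).1 (hRC hd)).1 with hdA | hdA
    · left
      have h0 : d ∈ (P : Subgroup ↥(h41_T A c hcN hccA ⊓
          Subgroup.centralizer (V : Set G))).map (Subgroup.subtype _) ⊓ A := ⟨hd, hdA⟩
      rw [hRA] at h0
      exact hV2 d h0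
    · right
      have h1 : d * c⁻¹ ∈ (P : Subgroup ↥(h41_T A c hcN hccA ⊓
          Subgroup.centralizer (V : Set G))).map (Subgroup.subtype _) ⊓ A :=
        ⟨Subgroup.mul_mem _ hd (Subgroup.inv_mem _ hcR), hdA⟩
      rw [hRA] at h1
      have h2 := hV2 _ h1
      have h3 := hcV _ h1
      calc d * d = (d * c⁻¹) * (c * (d * c⁻¹)) * c := by group
        _ = (d * c⁻¹) * ((d * c⁻¹) * c) * c := by rw [h3]
        _ = ((d * c⁻¹) * (d * c⁻¹)) * (c * c) := by group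
        _ = z := by rw [h2, hcc, one_mul]
  have hdR : (k : G) * (m * c * m⁻¹) * (k : G)⁻¹ ∈ (P : Subgroup ↥(h41_T A c hcN hccA ⊓
      Subgroup.centralizer (V : Set G))).map (Subgroup.subtype _) := ⟨_, hdP, rfl⟩
  have hsq : ((k : G) * (m * c * m⁻¹) * (k : G)⁻¹) * ((k : G) * (m * c * m⁻¹) * (k : G)⁻¹) =
      m * z * m⁻¹ := by
    have h1 : (m * c * m⁻¹) * (m * c * m⁻¹) = m * z * m⁻¹ := by
      rw [← hcc]
      group
    have hzV' : m * z * m⁻¹ ∈ V := hmV z hzV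
    have hkc := ((hCmem (k : G)).1 k.2).2 _ hzV'
    calc (k : G) * (m * c * m⁻¹) * (k : G)⁻¹ * ((k : G) * (m * c * m⁻¹) * (k : G)⁻¹)
        = (k : G) * ((m * c * m⁻¹) * (m * c * m⁻¹)) * (k : G)⁻¹ := by group
      _ = (k : G) * (m * z * m⁻¹) * (k : G)⁻¹ := by rw [h1]
      _ = (m * z * m⁻¹) * (k : G) * (k : G)⁻¹ := by rw [hkc]
      _ = m * z * m⁻¹ := by group
  rcases hstar _ hdR with h | h
  · exfalso
    rw [hsq] at h
    apply hz1
    have h0 : z = m⁻¹ * (m * z * m⁻¹) * m := by group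
    rw [h0, h]
    group
  · rw [hsq] at h
    exact h

end Cfsg.Agent.Lib.helper42.FG
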