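import Mathlib
import Cfsg.Agent.Lib.helper44.LODefs

/-!
S2363 split (architect helper44): arithmetic cores for the exceptional families (racing copies by helper41).
Mathlib only; the order formulas enter as hypotheses.
-/

set_option autoImplicit false

namespace Cfsg.Agent.Lib.helper44.LO

/-- own copy of the ARITH piece -/
theorem h41_lo_good {p : ℕ} (hp : p.Prime) (f : ℕ) (hf : 1 ≤ f) (c n N M e : ℕ)
    (hc : c * n = (p ^ f) ^ N * M) (hcp : ¬ p ∣ c) (hMp : ¬ p ∣ M) (hM : M < c * (p ^ f) ^ e)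
    (h1 : e ≤ 2 * N) (h2 : 3 * e ≤ 5 * N) : LOGood p n := by
  have hc0 : c ≠ 0 := by
    rintro rfl
    exact hcp (dvd_zero p)
  have hM0 : M ≠ 0 := by
    rintro rfl
    exact hMp (dvd_zero p)
  have hp1 : 1 ≤ p := hp.one_lt.le
  have hq0 : (p ^ f) ^ N ≠ 0 := pow_ne_zero _ (pow_ne_zero _ hp.ne_zero)
  have hn0 : n ≠ 0 := by
    rintro rfl
    rw [mul_zero] at hc
    exact (mul_ne_zero hq0 hM0) hc.symm
  have hk : n.factorization p = f * N := by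
    have h3 : (c * n).factorization p = ((p ^ f) ^ N * M).factorization p := by rw [hc]
    rw [Nat.factorization_mul hc0 hn0, Nat.factorization_mul hq0 hM0] at h3
    simp only [Finsupp.add_apply] at h3
    rw [Nat.factorization_eq_zero_of_not_dvd hcp, Nat.factorization_eq_zero_of_not_dvd hMp,
      ← pow_mul, Nat.Prime.factorization_pow hp] at h3
    simpa using h3
  have hlt : n < (p ^ f) ^ (N + e) := by
    have h3 : c * n < c * (p ^ f) ^ (N + e) := by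
      rw [hc, pow_add]
      calc (p ^ f) ^ N * M < (p ^ f) ^ N * (c * (p ^ f) ^ e) :=
            (Nat.mul_lt_mul_left (Nat.pos_of_ne_zero hq0)).2 hM
        _ = c * ((p ^ f) ^ N * (p ^ f) ^ e) := by ring
    exact Nat.lt_of_mul_lt_mul_left h3
  unfold LOGood
  rw [hk]
  constructor
  · refine lt_of_lt_of_le hlt ?_
    rw [← pow_mul]
    apply Nat.pow_le_pow_right hp1
    calc f * (N + e) ≤ f * (3 * N) := Nat.mul_le_mul_left f (by omega)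
      _ = 3 * (f * N) := by ring
  · have h3 : n ^ 3 < ((p ^ f) ^ (N + e)) ^ 3 := Nat.pow_lt_pow_left hlt (by norm_num)
    refine lt_of_lt_of_le h3 ?_
    rw [← pow_mul, ← pow_mul]
    apply Nat.pow_le_pow_right hp1
    calc f * ((N + e) * 3) ≤ f * (8 * N) := Nat.mul_le_mul_left f (by omega)
      _ = 8 * (f * N) := by ring

theorem h41_lo_ndvd_one {p : ℕ} (hp : p.Prime) : ¬ p ∣ 1 :=
  fun h => hp.one_lt.ne' (Nat.dvd_one.1 h)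

theorem h41_lo_ndvd_sub {p q : ℕ} (hp : p.Prime) (hpq : p ∣ q) (hq : 1 ≤ q) (j : ℕ) (hj : 1 ≤ j) :
    ¬ p ∣ q ^ j - 1 := by
  intro h
  have h1 : p ∣ q ^ j := dvd_pow hpq (by omega)
  have h2 : 1 ≤ q ^ j := Nat.one_le_pow _ _ hq
  have h3 : p ∣ (q ^ j - 1) + 1 := by rwa [Nat.sub_add_cancel h2]
  exact h41_lo_ndvd_one hp ((Nat.dvd_add_right h).1 h3)

theorem h41_lo_ndvd_add {p q : ℕ} (hp : p.Prime) (hpq : p ∣ q) (j : ℕ) (hj : 1 ≤ j) :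
    ¬ p ∣ q ^ j + 1 := by
  intro h
  have h1 : p ∣ q ^ j := dvd_pow hpq (by omega)
  exact h41_lo_ndvd_one hp ((Nat.dvd_add_right h1).1 h)

theorem h41_lo_ndvd_mul {p a b : ℕ} (hp : p.Prime) (ha : ¬ p ∣ a) (hb : ¬ p ∣ b) : ¬ p ∣ a * b :=
  fun h => (hp.dvd_mul.1 h).elim ha hb

theorem h41_lo_sub_lt {q : ℕ} (hq : 1 ≤ q) (j : ℕ) : q ^ j - 1 < q ^ j := by
  have h0 : 1 ≤ q ^ j := Nat.one_le_pow _ _ hq
  omega

theorem h41_lo_pair {q : ℕ} (hq : 1 ≤ q) (a b : ℕ) (hab : a ≤ b) :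
    (q ^ a - 1) * (q ^ b + 1) < q ^ (a + b) := by
  have h1 : 1 ≤ q ^ a := Nat.one_le_pow _ _ hq
  have h2 : q ^ a ≤ q ^ b := Nat.pow_le_pow_right hq hab
  obtain ⟨A, hA⟩ : ∃ A, q ^ a = A + 1 := ⟨q ^ a - 1, by omega⟩
  rw [pow_add, hA, Nat.add_sub_cancel]
  have h3 : A < q ^ b := by omega
  calc A * (q ^ b + 1) = A * q ^ b + A := by ring
    _ < A * q ^ b + q ^ b := Nat.add_lt_add_left h3 _
    _ = (A + 1) * q ^ b := by ring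

theorem h41_lo_pair_td4 {q : ℕ} (hq : 1 ≤ q) : (q ^ 2 - 1) * (q ^ 8 + q ^ 4 + 1) < q ^ 10 := by
  have h1 : 1 ≤ q ^ 2 := Nat.one_le_pow _ _ hq
  obtain ⟨A, hA⟩ : ∃ A, q ^ 2 = A + 1 := ⟨q ^ 2 - 1, by omega⟩
  have h8 : q ^ 8 = (A + 1) ^ 4 := by rw [← hA, ← pow_mul]
  have h4 : q ^ 4 = (A + 1) ^ 2 := by rw [← hA, ← pow_mul]
  have h10 : q ^ 10 = (A + 1) ^ 5 := by rw [← hA, ← pow_mul]
  rw [h8, h4, h10, hA, Nat.add_sub_cancel]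
  have h5 : (A + 1) ^ 5 = A * ((A + 1) ^ 4 + (A + 1) ^ 2 + 1) +
      (A ^ 4 + 3 * A ^ 3 + 4 * A ^ 2 + 2 * A + 1) := by ring
  rw [h5]
  exact Nat.lt_add_of_pos_right (by positivity)

theorem h41_lo_list_ndvd {p q : ℕ} (hp : p.Prime) (hpq : p ∣ q) (hq : 1 ≤ q) (l : List ℕ)
    (hl : ∀ j ∈ l, 1 ≤ j) : ¬ p ∣ (l.map (fun j => q ^ j - 1)).prod := by
  induction l with
  | nil =>
    rw [List.map_nil, List.prod_nil]
    exact h41_lo_ndvd_one hp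
  | cons a l ih =>
    rw [List.map_cons, List.prod_cons]
    exact h41_lo_ndvd_mul hp (h41_lo_ndvd_sub hp hpq hq a (hl a List.mem_cons_self))
      (ih (fun j hj => hl j (List.mem_cons_of_mem _ hj)))

theorem h41_lo_list_le {q : ℕ} (hq : 1 ≤ q) (l : List ℕ) :
    (l.map (fun j => q ^ j - 1)).prod ≤ q ^ l.sum := by
  induction l with
  | nil => simp
  | cons a l ih =>
    rw [List.map_cons, List.prod_cons, List.sum_cons, pow_add]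
    exact Nat.mul_le_mul (Nat.sub_le _ _) ih

theorem h41_lo_list_lt {q : ℕ} (hq : 1 ≤ q) (a : ℕ) (l : List ℕ) :
    ((a :: l).map (fun j => q ^ j - 1)).prod < q ^ (a :: l).sum := by
  rw [List.map_cons, List.prod_cons, List.sum_cons, pow_add]
  exact Nat.mul_lt_mul_of_lt_of_le (h41_lo_sub_lt hq a) (h41_lo_list_le hq l) (pow_pos hq _)

/-- generic core: `c * n = q ^ N * ∏ (q ^ j - 1)` -/
theorem h41_lo_list_core {p : ℕ} (hp : p.Prime) (f : ℕ) (hf : 1 ≤ f) (c n N : ℕ) (a : ℕ)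
    (l : List ℕ) (hl : ∀ j ∈ a :: l, 1 ≤ j) (hcp : ¬ p ∣ c)
    (h : c * n = (p ^ f) ^ N * ((a :: l).map (fun j => (p ^ f) ^ j - 1)).prod)
    (h1 : (a :: l).sum ≤ 2 * N) (h2 : 3 * (a :: l).sum ≤ 5 * N) : LOGood p n := by
  have hpq : p ∣ p ^ f := dvd_pow_self p (by omega)
  have hq1 : 1 ≤ p ^ f := Nat.one_le_pow _ _ hp.one_lt.le
  have hc0 : 1 ≤ c := by
    rcases Nat.eq_zero_or_pos c with h0 | h0
    · exact absurd (h0 ▸ dvd_zero p) hcp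
    · exact h0
  refine h41_lo_good hp f hf c n N _ (a :: l).sum h hcp (h41_lo_list_ndvd hp hpq hq1 _ hl) ?_ h1 h2
  calc ((a :: l).map (fun j => (p ^ f) ^ j - 1)).prod < (p ^ f) ^ (a :: l).sum :=
        h41_lo_list_lt hq1 a l
    _ ≤ c * (p ^ f) ^ (a :: l).sum := Nat.le_mul_of_pos_left _ hc0

theorem h41_lo_ndvd_gcd_sub {p : ℕ} (hp : p.Prime) (f : ℕ) (hf : 1 ≤ f) (k : ℕ) :
    ¬ p ∣ Nat.gcd k (p ^ f - 1) := by
  intro h
  have hpq : p ∣ p ^ f := dvd_pow_self p (by omega)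
  have hq1 : 1 ≤ p ^ f := Nat.one_le_pow _ _ hp.one_lt.le
  have h1 := h41_lo_ndvd_sub hp hpq hq1 1 le_rfl
  rw [pow_one] at h1
  exact h1 (h.trans (Nat.gcd_dvd_right _ _))

theorem h41_lo_ndvd_gcd_add {p : ℕ} (hp : p.Prime) (f : ℕ) (hf : 1 ≤ f) (k : ℕ) :
    ¬ p ∣ Nat.gcd k (p ^ f + 1) := by
  intro h
  have hpq : p ∣ p ^ f := dvd_pow_self p (by omega)
  have h1 := h41_lo_ndvd_add hp hpq 1 le_rfl
  rw [pow_one] at h1
  exact h1 (h.trans (Nat.gcd_dvd_right _ _))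

theorem h41_lo_g2_core {p : ℕ} (hp : p.Prime) (f : ℕ) (hf : 1 ≤ f) (n : ℕ)
    (h : n = (p ^ f) ^ 6 * ((p ^ f) ^ 2 - 1) * ((p ^ f) ^ 6 - 1)) : LOGood p n := by
  refine h41_lo_list_core hp f hf 1 n 6 2 [6] (by decide) (h41_lo_ndvd_one hp) ?_ (by decide)
    (by decide)
  rw [one_mul, h]
  simp only [List.map_cons, List.map_nil, List.prod_cons, List.prod_nil]
  ring

theorem h41_lo_f4_core {p : ℕ} (hp : p.Prime) (f : ℕ) (hf : 1 ≤ f) (n : ℕ)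
    (h : n = (p ^ f) ^ 24 * ((p ^ f) ^ 2 - 1) * ((p ^ f) ^ 6 - 1) * ((p ^ f) ^ 8 - 1) *
      ((p ^ f) ^ 12 - 1)) : LOGood p n := by
  refine h41_lo_list_core hp f hf 1 n 24 2 [6, 8, 12] (by decide) (h41_lo_ndvd_one hp) ?_
    (by decide) (by decide)
  rw [one_mul, h]
  simp only [List.map_cons, List.map_nil, List.prod_cons, List.prod_nil]
  ring

theorem h41_lo_e6_core {p : ℕ} (hp : p.Prime) (f : ℕ) (hf : 1 ≤ f) (n : ℕ)
    (h : Nat.gcd 3 (p ^ f - 1) * n = (p ^ f) ^ 36 * ((p ^ f) ^ 2 - 1) * ((p ^ f) ^ 5 - 1) *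
      ((p ^ f) ^ 6 - 1) * ((p ^ f) ^ 8 - 1) * ((p ^ f) ^ 9 - 1) * ((p ^ f) ^ 12 - 1)) :
    LOGood p n := by
  refine h41_lo_list_core hp f hf (Nat.gcd 3 (p ^ f - 1)) n 36 2 [5, 6, 8, 9, 12] (by decide)
    (h41_lo_ndvd_gcd_sub hp f hf 3) ?_ (by decide) (by decide)
  rw [h]
  simp only [List.map_cons, List.map_nil, List.prod_cons, List.prod_nil]
  ring

theorem h41_lo_e7_core {p : ℕ} (hp : p.Prime) (f : ℕ) (hf : 1 ≤ f) (n : ℕ)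
    (h : Nat.gcd 2 (p ^ f - 1) * n = (p ^ f) ^ 63 * ((p ^ f) ^ 2 - 1) * ((p ^ f) ^ 6 - 1) *
      ((p ^ f) ^ 8 - 1) * ((p ^ f) ^ 10 - 1) * ((p ^ f) ^ 12 - 1) * ((p ^ f) ^ 14 - 1) *
      ((p ^ f) ^ 18 - 1)) : LOGood p n := by
  refine h41_lo_list_core hp f hf (Nat.gcd 2 (p ^ f - 1)) n 63 2 [6, 8, 10, 12, 14, 18] (by decide)
    (h41_lo_ndvd_gcd_sub hp f hf 2) ?_ (by decide) (by decide)
  rw [h]
  simp only [List.map_cons, List.map_nil, List.prod_cons, List.prod_nil]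
  ring

theorem h41_lo_e8_core {p : ℕ} (hp : p.Prime) (f : ℕ) (hf : 1 ≤ f) (n : ℕ)
    (h : n = (p ^ f) ^ 120 * ((p ^ f) ^ 2 - 1) * ((p ^ f) ^ 8 - 1) * ((p ^ f) ^ 12 - 1) *
      ((p ^ f) ^ 14 - 1) * ((p ^ f) ^ 18 - 1) * ((p ^ f) ^ 20 - 1) * ((p ^ f) ^ 24 - 1) *
      ((p ^ f) ^ 30 - 1)) : LOGood p n := by
  refine h41_lo_list_core hp f hf 1 n 120 2 [8, 12, 14, 18, 20, 24, 30] (by decide)
    (h41_lo_ndvd_one hp) ?_ (by decide) (by decide)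
  rw [one_mul, h]
  simp only [List.map_cons, List.map_nil, List.prod_cons, List.prod_nil]
  ring

theorem h41_lo_te6_core {p : ℕ} (hp : p.Prime) (f : ℕ) (hf : 1 ≤ f) (n : ℕ)
    (h : Nat.gcd 3 (p ^ f + 1) * n = (p ^ f) ^ 36 * ((p ^ f) ^ 2 - 1) * ((p ^ f) ^ 5 + 1) *
      ((p ^ f) ^ 6 - 1) * ((p ^ f) ^ 8 - 1) * ((p ^ f) ^ 9 + 1) * ((p ^ f) ^ 12 - 1)) :
    LOGood p n := by
  have hpq : p ∣ p ^ f := dvd_pow_self p (by omega)
  have hq1 : 1 ≤ p ^ f := Nat.one_le_pow _ _ hp.one_lt.le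
  have hcp := h41_lo_ndvd_gcd_add hp f hf 3
  have hc0 : 1 ≤ Nat.gcd 3 (p ^ f + 1) := Nat.gcd_pos_of_pos_left _ (by norm_num)
  refine h41_lo_good hp f hf (Nat.gcd 3 (p ^ f + 1)) n 36
    ((((p ^ f) ^ 2 - 1) * ((p ^ f) ^ 5 + 1)) * ((p ^ f) ^ 6 - 1) *
      (((p ^ f) ^ 8 - 1) * ((p ^ f) ^ 9 + 1)) * ((p ^ f) ^ 12 - 1)) 42 ?_ hcp ?_ ?_
    (by norm_num) (by norm_num)
  · rw [h]
    ring
  · exact h41_lo_ndvd_mul hp (h41_lo_ndvd_mul hp (h41_lo_ndvd_mul hp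
      (h41_lo_ndvd_mul hp (h41_lo_ndvd_sub hp hpq hq1 2 (by norm_num))
        (h41_lo_ndvd_add hp hpq 5 (by norm_num)))
      (h41_lo_ndvd_sub hp hpq hq1 6 (by norm_num)))
      (h41_lo_ndvd_mul hp (h41_lo_ndvd_sub hp hpq hq1 8 (by norm_num))
        (h41_lo_ndvd_add hp hpq 9 (by norm_num))))
      (h41_lo_ndvd_sub hp hpq hq1 12 (by norm_num))
  · have h0 : (((p ^ f) ^ 2 - 1) * ((p ^ f) ^ 5 + 1)) * ((p ^ f) ^ 6 - 1) *
        (((p ^ f) ^ 8 - 1) * ((p ^ f) ^ 9 + 1)) * ((p ^ f) ^ 12 - 1) <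
        (p ^ f) ^ (2 + 5) * (p ^ f) ^ 6 * (p ^ f) ^ (8 + 9) * (p ^ f) ^ 12 :=
      Nat.mul_lt_mul'' (Nat.mul_lt_mul'' (Nat.mul_lt_mul'' (h41_lo_pair hq1 2 5 (by norm_num))
        (h41_lo_sub_lt hq1 6)) (h41_lo_pair hq1 8 9 (by norm_num))) (h41_lo_sub_lt hq1 12)
    have h3 : (p ^ f) ^ (2 + 5) * (p ^ f) ^ 6 * (p ^ f) ^ (8 + 9) * (p ^ f) ^ 12 = (p ^ f) ^ 42 := by
      rw [← pow_add, ← pow_add, ← pow_add]
    rw [h3] at h0
    exact lt_of_lt_of_le h0 (Nat.le_mul_of_pos_left _ hc0)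

theorem h41_lo_td4_core {p : ℕ} (hp : p.Prime) (f : ℕ) (hf : 1 ≤ f) (n : ℕ)
    (h : n = (p ^ f) ^ 12 * ((p ^ f) ^ 2 - 1) * ((p ^ f) ^ 6 - 1) *
      ((p ^ f) ^ 8 + (p ^ f) ^ 4 + 1)) : LOGood p n := by
  have hpq : p ∣ p ^ f := dvd_pow_self p (by omega)
  have hq1 : 1 ≤ p ^ f := Nat.one_le_pow _ _ hp.one_lt.le
  refine h41_lo_good hp f hf 1 n 12
    ((((p ^ f) ^ 2 - 1) * ((p ^ f) ^ 8 + (p ^ f) ^ 4 + 1)) * ((p ^ f) ^ 6 - 1)) 16 ?_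
    (h41_lo_ndvd_one hp) ?_ ?_ (by norm_num) (by norm_num)
  · rw [one_mul, h]
    ring
  · refine h41_lo_ndvd_mul hp (h41_lo_ndvd_mul hp (h41_lo_ndvd_sub hp hpq hq1 2 (by norm_num)) ?_)
      (h41_lo_ndvd_sub hp hpq hq1 6 (by norm_num))
    intro h0
    have h1 : p ∣ (p ^ f) ^ 8 + (p ^ f) ^ 4 :=
      dvd_add (dvd_pow hpq (by norm_num)) (dvd_pow hpq (by norm_num))
    exact h41_lo_ndvd_one hp ((Nat.dvd_add_right h1).1 h0)
  · have h0 : (((p ^ f) ^ 2 - 1) * ((p ^ f) ^ 8 + (p ^ f) ^ 4 + 1)) * ((p ^ f) ^ 6 - 1) <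
        (p ^ f) ^ 10 * (p ^ f) ^ 6 :=
      Nat.mul_lt_mul'' (h41_lo_pair_td4 hq1) (h41_lo_sub_lt hq1 6)
    rw [← pow_add] at h0
    rw [one_mul]
    exact h0

/-- the field order is a power of the characteristic: `q = p ^ j` when `|K| = q ^ m`, `q` a prime power -/
theorem h41_lo_twist_q {K : Type} [Field K] [Fintype K] (p : ℕ) [CharP K p] (q m : ℕ)
    (hq : IsPrimePow q) (hm : 1 ≤ m) (hK : Fintype.card K = q ^ m) : ∃ j, 1 ≤ j ∧ q = p ^ j := by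
  obtain ⟨n, hp, hn⟩ := FiniteField.card K p
  have h1 : q ∣ p ^ (n : ℕ) := by
    rw [← hn, hK]
    exact dvd_pow_self q (by omega)
  obtain ⟨j, -, hj⟩ := (Nat.dvd_prime_pow hp).1 h1
  refine ⟨j, ?_, hj⟩
  rcases Nat.eq_zero_or_pos j with h0 | h0
  · exfalso
    rw [h0, pow_zero] at hj
    exact hq.ne_one hj
  · exact h0

end Cfsg.Agent.Lib.helper44.LO
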