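import Mathlib
import Cfsg.Prelude.Def_LieTypeChar
import Cfsg.Agent.Lib.helper44.LODefs
import Cfsg.Agent.Lib.helper41.LOExcCore
import Cfsg.Agent.S1059
import Cfsg.Agent.S1062
import Cfsg.Agent.S1063
import Cfsg.Agent.S1064
import Cfsg.Agent.S1065
import Cfsg.Agent.S1066
import Cfsg.Agent.S1067

/-!
S2363 split (architect helper44): the pieces G2, F4, E6, E7, E8, TE6, TD4 (racing copies by helper41,
verbatim statements under prefixed names), from the landed order formulas S1059, S1062-S1067.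
-/

set_option autoImplicit false

namespace Cfsg.Agent.Lib.helper44.LO

open Cfsg

/-- G2. -/
theorem h41_lo_g2 {F : Type} [Field F] [Fintype F] (p : ℕ) (hp : p.Prime) [CharP F p] :
    LOGood p (Nat.card ↥(Cfsg.Lie.chevG2.group F)) := by
  obtain ⟨f, -, hf⟩ := FiniteField.card F p
  exact h41_lo_g2_core hp f f.pos _ (Cfsg.Agent.S1059.result hf)

/-- F4. -/
theorem h41_lo_f4 {F : Type} [Field F] [Fintype F] (p : ℕ) (hp : p.Prime) [CharP F p] :
    LOGood p (Nat.card ↥(Cfsg.Lie.chevF4.group F)) := by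
  obtain ⟨f, -, hf⟩ := FiniteField.card F p
  exact h41_lo_f4_core hp f f.pos _ (Cfsg.Agent.S1062.result hf)

/-- E6. -/
theorem h41_lo_e6 {F : Type} [Field F] [Fintype F] (p : ℕ) (hp : p.Prime) [CharP F p] :
    LOGood p (Nat.card ↥(Cfsg.Lie.chevE6.group F)) := by
  obtain ⟨f, -, hf⟩ := FiniteField.card F p
  exact h41_lo_e6_core hp f f.pos _ (Cfsg.Agent.S1063.result hf)

/-- E7. -/
theorem h41_lo_e7 {F : Type} [Field F] [Fintype F] (p : ℕ) (hp : p.Prime) [CharP F p] :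
    LOGood p (Nat.card ↥(Cfsg.Lie.chevE7.group F)) := by
  obtain ⟨f, -, hf⟩ := FiniteField.card F p
  exact h41_lo_e7_core hp f f.pos _ (Cfsg.Agent.S1064.result hf)

/-- E8. -/
theorem h41_lo_e8 {F : Type} [Field F] [Fintype F] (p : ℕ) (hp : p.Prime) [CharP F p] :
    LOGood p (Nat.card ↥(Cfsg.Lie.chevE8.group F)) := by
  obtain ⟨f, -, hf⟩ := FiniteField.card F p
  exact h41_lo_e8_core hp f f.pos _ (Cfsg.Agent.S1065.result hf)

/-- TE6. -/
theorem h41_lo_te6 {K : Type} [Field K] [Fintype K] (p : ℕ) (hp : p.Prime) [CharP K p] (q : ℕ) (hq : IsPrimePow q)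
    (hK : Fintype.card K = q ^ 2) : LOGood p (Nat.card ↥(Cfsg.Lie.twistedE6 K q)) := by
  obtain ⟨j, hj, rfl⟩ := h41_lo_twist_q p q 2 hq (by norm_num) hK
  exact h41_lo_te6_core hp j hj _ (Cfsg.Agent.S1066.result hq hK)

/-- TD4. -/
theorem h41_lo_td4 {K : Type} [Field K] [Fintype K] (p : ℕ) (hp : p.Prime) [CharP K p] (q : ℕ) (hq : IsPrimePow q)
    (hK : Fintype.card K = q ^ 3) : LOGood p (Nat.card ↥(Cfsg.Lie.twistedD4 K q)) := by
  obtain ⟨j, hj, rfl⟩ := h41_lo_twist_q p q 3 hq (by norm_num) hK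
  exact h41_lo_td4_core hp j hj _ (Cfsg.Agent.S1067.result hq hK)

end Cfsg.Agent.Lib.helper44.LO
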