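/-
helper41: S5075 (McLaughlin), sub-piece QUOT-ORB of helper87's split of the piece QUOT: a set of
pairs (centre, axis) closed under conjugation by all transvections and containing one incident
pair contains every incident pair (dimension at least 3).  Pure linear algebra.
-/
import Mathlib

set_option autoImplicit false

namespace Cfsg.Agent.Lib.helper41.McL

section

variable {F : Type*} [Field F] {X : Type*} [AddCommGroup X] [Module F X]

/-- a functional vanishing on the kernel of a nonzero functional is a multiple of it -/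
theorem h41_dual_smul_of_ker {φ ψ : Module.Dual F X} (hφ : φ ≠ 0)
    (h : ∀ v, φ v = 0 → ψ v = 0) : ∃ a : F, ψ = a • φ := by
  obtain ⟨y, hy⟩ : ∃ y, φ y ≠ 0 := by
    by_contra hcon
    push_neg at hcon
    exact hφ (LinearMap.ext fun v => by simpa using hcon v)
  refine ⟨ψ y / φ y, LinearMap.ext fun v => ?_⟩
  have h1 : φ (v - (φ v / φ y) • y) = 0 := by
    rw [map_sub, map_smul, smul_eq_mul, div_mul_cancel₀ _ hy, sub_self]
  have h2 := h _ h1
  rw [map_sub, map_smul, smul_eq_mul, sub_eq_zero] at h2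
  rw [LinearMap.smul_apply, smul_eq_mul, h2]
  ring

/-- a functional with value `1` at `c` and `0` at `d`, for `c ∉ span {d}` -/
theorem h41_exists_dual {c d : X} (h : c ∉ Submodule.span F {d}) :
    ∃ η : Module.Dual F X, η c = 1 ∧ η d = 0 := by
  obtain ⟨f, hf1, hf2⟩ := Submodule.exists_le_ker_of_notMem h
  refine ⟨(f c)⁻¹ • f, ?_, ?_⟩
  · rw [LinearMap.smul_apply, smul_eq_mul, inv_mul_cancel₀ hf1]
  · have e : f d = 0 := LinearMap.mem_ker.mp (hf2 (Submodule.mem_span_singleton_self d))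
    rw [LinearMap.smul_apply, e, smul_zero]

theorem h41_finrank_ker [FiniteDimensional F X] (φ : Module.Dual F X) :
    Module.finrank F X ≤ Module.finrank F (LinearMap.ker φ) + 1 := by
  have h1 : Module.finrank F (LinearMap.range φ) + Module.finrank F (LinearMap.ker φ) =
      Module.finrank F X := LinearMap.finrank_range_add_finrank_ker φ
  have h2 : Module.finrank F (LinearMap.range φ) ≤ 1 := by
    have h := Submodule.finrank_le (LinearMap.range φ)
    rwa [Module.finrank_self] at h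
  omega

theorem h41_ker_not_le_span [FiniteDimensional F X] (h3 : 3 ≤ Module.finrank F X)
    (φ : Module.Dual F X) (c : X) : ∃ v, φ v = 0 ∧ v ∉ Submodule.span F {c} := by
  have h1 := h41_finrank_ker φ
  have h4 : Module.finrank F (Submodule.span F {c}) ≤ 1 := by
    by_cases hc : c = 0
    · rw [hc, Submodule.span_zero_singleton, finrank_bot]
      exact Nat.zero_le _
    · rw [finrank_span_singleton hc]
  by_contra hcon
  push_neg at hcon
  have h5 : LinearMap.ker φ ≤ Submodule.span F {c} :=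
    fun v hv => hcon v (LinearMap.mem_ker.mp hv)
  have h6 := Submodule.finrank_mono h5
  omega

/-- change the centre inside the kernel of the axis, to a vector independent of the old centre -/
theorem h41_stepC' (S : Set (X × Module.Dual F X))
    (hS : ∀ c φ, (c, φ) ∈ S → ∀ (d : X) (η : Module.Dual F X), η d = 0 →
      (c + η c • d, φ - φ d • η) ∈ S)
    {c : X} {φ : Module.Dual F X} (h : (c, φ) ∈ S) (hc : c ≠ 0) (hφc : φ c = 0)
    {c₁ : X} (hc₁ : φ c₁ = 0) (hn : c₁ ∉ Submodule.span F {c}) : (c₁, φ) ∈ S := by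
  have hnot : c ∉ Submodule.span F {c₁ - c} := by
    intro hmem
    obtain ⟨a, ha⟩ := Submodule.mem_span_singleton.mp hmem
    by_cases ha0 : a = 0
    · rw [ha0, zero_smul] at ha
      exact hc ha.symm
    · apply hn
      rw [Submodule.mem_span_singleton]
      refine ⟨(1 + a) / a, ?_⟩
      have h1 : a • c₁ = c + a • c := sub_eq_iff_eq_add.mp (by rw [← smul_sub]; exact ha)
      have h2 : c₁ = a⁻¹ • (c + a • c) := by
        rw [← h1, smul_smul, inv_mul_cancel₀ ha0, one_smul]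
      rw [h2, div_eq_mul_inv, mul_comm (1 + a) a⁻¹, mul_smul, add_smul, one_smul]
  obtain ⟨η, hη1, hη2⟩ := h41_exists_dual hnot
  have h3 := hS c φ h (c₁ - c) η hη2
  rw [hη1, one_smul, add_sub_cancel, map_sub, hc₁, hφc, sub_zero, zero_smul, sub_zero] at h3
  exact h3

/-- change the centre inside the kernel of the axis -/
theorem h41_stepC [FiniteDimensional F X] (h3 : 3 ≤ Module.finrank F X)
    (S : Set (X × Module.Dual F X))
    (hS : ∀ c φ, (c, φ) ∈ S → ∀ (d : X) (η : Module.Dual F X), η d = 0 →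
      (c + η c • d, φ - φ d • η) ∈ S)
    {c : X} {φ : Module.Dual F X} (h : (c, φ) ∈ S) (hc : c ≠ 0) (hφc : φ c = 0)
    {c₁ : X} (hc₁ : φ c₁ = 0) (hc₁0 : c₁ ≠ 0) : (c₁, φ) ∈ S := by
  by_cases hn : c₁ ∈ Submodule.span F {c}
  · obtain ⟨c₂, hc₂, hc₂n⟩ := h41_ker_not_le_span h3 φ c
    have h2 := h41_stepC' S hS h hc hφc hc₂ hc₂n
    have hc₂0 : c₂ ≠ 0 := by
      rintro rfl
      exact hc₂n (Submodule.zero_mem _)
    apply h41_stepC' S hS h2 hc₂0 hc₂ hc₁
    intro hmem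
    obtain ⟨a, ha⟩ := Submodule.mem_span_singleton.mp hn
    obtain ⟨b, hb⟩ := Submodule.mem_span_singleton.mp hmem
    have hb0 : b ≠ 0 := by
      rintro rfl
      rw [zero_smul] at hb
      exact hc₁0 hb.symm
    apply hc₂n
    rw [Submodule.mem_span_singleton]
    refine ⟨b⁻¹ * a, ?_⟩
    rw [mul_smul, ha, ← hb, smul_smul, inv_mul_cancel₀ hb0, one_smul]
  · exact h41_stepC' S hS h hc hφc hc₁ hn

/-- change the axis among the functionals killing the centre, to a functional independent of the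
old axis -/
theorem h41_stepA' (S : Set (X × Module.Dual F X))
    (hS : ∀ c φ, (c, φ) ∈ S → ∀ (d : X) (η : Module.Dual F X), η d = 0 →
      (c + η c • d, φ - φ d • η) ∈ S)
    {c : X} {φ : Module.Dual F X} (h : (c, φ) ∈ S) (hφc : φ c = 0) (hφ : φ ≠ 0)
    {φ₁ : Module.Dual F X} (hφ₁c : φ₁ c = 0) (hφ₁ : φ₁ ≠ 0)
    (hn1 : ¬ ∃ a : F, φ₁ = a • φ) (hn2 : ¬ ∃ a : F, φ = a • φ₁) : (c, φ₁) ∈ S := by
  obtain ⟨d₁, hd₁, hd₁'⟩ : ∃ d₁, φ d₁ = 0 ∧ φ₁ d₁ ≠ 0 := by
    by_contra hcon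
    push_neg at hcon
    exact hn1 (h41_dual_smul_of_ker hφ hcon)
  obtain ⟨d₂, hd₂, hd₂'⟩ : ∃ d₂, φ₁ d₂ = 0 ∧ φ d₂ ≠ 0 := by
    by_contra hcon
    push_neg at hcon
    exact hn2 (h41_dual_smul_of_ker hφ₁ hcon)
  have e1 : φ ((φ₁ d₁)⁻¹ • d₁ + (φ d₂)⁻¹ • d₂) = 1 := by
    rw [map_add, map_smul, map_smul, hd₁, smul_zero, zero_add, smul_eq_mul, inv_mul_cancel₀ hd₂']
  have e2 : φ₁ ((φ₁ d₁)⁻¹ • d₁ + (φ d₂)⁻¹ • d₂) = 1 := by
    rw [map_add, map_smul, map_smul, hd₂, smul_zero, add_zero, smul_eq_mul, inv_mul_cancel₀ hd₁']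
  have h3 := hS c φ h ((φ₁ d₁)⁻¹ • d₁ + (φ d₂)⁻¹ • d₂) (φ - φ₁)
    (by rw [LinearMap.sub_apply, e1, e2, sub_self])
  rw [LinearMap.sub_apply, hφc, hφ₁c, sub_zero, zero_smul, add_zero, e1, one_smul,
    sub_sub_cancel] at h3
  exact h3

/-- change the axis among the functionals killing the centre -/
theorem h41_stepA [FiniteDimensional F X] (h3 : 3 ≤ Module.finrank F X)
    (S : Set (X × Module.Dual F X))
    (hS : ∀ c φ, (c, φ) ∈ S → ∀ (d : X) (η : Module.Dual F X), η d = 0 →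
      (c + η c • d, φ - φ d • η) ∈ S)
    {c : X} {φ : Module.Dual F X} (h : (c, φ) ∈ S) (hφc : φ c = 0) (hφ : φ ≠ 0)
    {φ₁ : Module.Dual F X} (hφ₁c : φ₁ c = 0) (hφ₁ : φ₁ ≠ 0) : (c, φ₁) ∈ S := by
  by_cases hp : ∃ a : F, φ₁ = a • φ
  · obtain ⟨a, ha⟩ := hp
    obtain ⟨v, hv, hvn⟩ := h41_ker_not_le_span h3 φ c
    obtain ⟨f, hf1, hf2⟩ := Submodule.exists_le_ker_of_notMem hvn
    have hfc : f c = 0 := LinearMap.mem_ker.mp (hf2 (Submodule.mem_span_singleton_self c))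
    have hf0 : f ≠ 0 := by
      rintro rfl
      exact hf1 rfl
    have hnf : ¬ ∃ b : F, f = b • φ := by
      rintro ⟨b, hb⟩
      apply hf1
      rw [hb, LinearMap.smul_apply, hv, smul_zero]
    have hnf' : ¬ ∃ b : F, φ = b • f := by
      rintro ⟨b, hb⟩
      have hb0 : b ≠ 0 := by
        rintro rfl
        rw [zero_smul] at hb
        exact hφ hb
      exact hnf ⟨b⁻¹, by rw [hb, smul_smul, inv_mul_cancel₀ hb0, one_smul]⟩
    have h2 := h41_stepA' S hS h hφc hφ hfc hf0 hnf hnf'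
    apply h41_stepA' S hS h2 hfc hf0 hφ₁c hφ₁
    · rintro ⟨b, hb⟩
      have hb0 : b ≠ 0 := by
        rintro rfl
        rw [zero_smul] at hb
        exact hφ₁ hb
      exact hnf ⟨b⁻¹ * a, by rw [mul_smul, ← ha, hb, smul_smul, inv_mul_cancel₀ hb0, one_smul]⟩
    · rintro ⟨b, hb⟩
      exact hnf ⟨b * a, by rw [hb, ha, smul_smul]⟩
  · have hp' : ¬ ∃ a : F, φ = a • φ₁ := by
      rintro ⟨b, hb⟩
      have hb0 : b ≠ 0 := by
        rintro rfl
        rw [zero_smul] at hb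
        exact hφ hb
      exact hp ⟨b⁻¹, by rw [hb, smul_smul, inv_mul_cancel₀ hb0, one_smul]⟩
    exact h41_stepA' S hS h hφc hφ hφ₁c hφ₁ hp hp'

end

/-- SUB-PIECE QUOT-ORB (pure linear algebra, Mathlib only). -/
theorem tv_orbit {F : Type*} [Field F] {X : Type*} [AddCommGroup X] [Module F X]
    [FiniteDimensional F X] (h3 : 3 ≤ Module.finrank F X) (S : Set (X × Module.Dual F X))
    (hS : ∀ c φ, (c, φ) ∈ S → ∀ (d : X) (η : Module.Dual F X), η d = 0 →
      (c + η c • d, φ - φ d • η) ∈ S)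
    (c₀ : X) (φ₀ : Module.Dual F X) (h0 : (c₀, φ₀) ∈ S) (hc₀ : c₀ ≠ 0) (hφ₀ : φ₀ ≠ 0)
    (hφc : φ₀ c₀ = 0) (x : X) (ξ : Module.Dual F X) (hx : x ≠ 0) (hξ : ξ ≠ 0) (hξx : ξ x = 0) :
    (x, ξ) ∈ S := by
  obtain ⟨c₁, hc₁, hc₁0⟩ : ∃ c₁ ∈ LinearMap.ker φ₀ ⊓ LinearMap.ker ξ, c₁ ≠ 0 := by
    apply Submodule.exists_mem_ne_zero_of_ne_bot
    intro hbot
    have e := Submodule.finrank_sup_add_finrank_inf_eq (LinearMap.ker φ₀) (LinearMap.ker ξ)
    rw [hbot, finrank_bot, add_zero] at e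
    have e1 := Submodule.finrank_le (LinearMap.ker φ₀ ⊔ LinearMap.ker ξ)
    have k1 := h41_finrank_ker φ₀
    have k2 := h41_finrank_ker ξ
    omega
  obtain ⟨hc₁a, hc₁b⟩ := Submodule.mem_inf.mp hc₁
  have ha : φ₀ c₁ = 0 := LinearMap.mem_ker.mp hc₁a
  have hb : ξ c₁ = 0 := LinearMap.mem_ker.mp hc₁b
  have s1 := h41_stepC h3 S hS h0 hc₀ hφc ha hc₁0
  have s2 := h41_stepA h3 S hS s1 ha hφ₀ hb hξ
  exact h41_stepC h3 S hS s2 hc₁0 hb hξx hx

end Cfsg.Agent.Lib.helper41.McL
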