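/-
helper41: the symbol of a pair of opposite root subgroups.  Two families `x`, `y` of elements of a
group, additive in a field `K`, such that `w t = x t * y (-t⁻¹) * x t` conjugates them as in `SL₂`;
`h t = w t * w (-1)`.  If the elements `h t * h u * (h (t * u))⁻¹` are central and `K` is finite,
then `h` is multiplicative (Steinberg).
-/
import Mathlib

set_option autoImplicit false

namespace Cfsg.Agent.Lib.helper41

universe u

/-- two families `x`, `y` of elements of a group, additive in a field `K`, with the conjugation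
relations of `SL₂` for `w t = x t * y (-t⁻¹) * x t` -/
structure SymData (K : Type u) [Field K] (Γ : Type u) [Group Γ] where
  x : K → Γ
  y : K → Γ
  x_add : ∀ a b : K, x (a + b) = x a * x b
  y_add : ∀ a b : K, y (a + b) = y a * y b
  c1 : ∀ t : K, t ≠ 0 → ∀ u : K,
    (x t * y (-t⁻¹) * x t) * x u * (x t * y (-t⁻¹) * x t)⁻¹ = y (-(t⁻¹) ^ 2 * u)
  c2 : ∀ t : K, t ≠ 0 → ∀ u : K,
    (x t * y (-t⁻¹) * x t) * y u * (x t * y (-t⁻¹) * x t)⁻¹ = x (-t ^ 2 * u)

namespace SymData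

variable {K : Type u} [Field K] {Γ : Type u} [Group Γ] (P : SymData K Γ)

/-- `w t = x t * y (-t⁻¹) * x t` -/
def w (t : K) : Γ := P.x t * P.y (-t⁻¹) * P.x t

/-- `h t = w t * w (-1)` -/
def h (t : K) : Γ := P.w t * P.w (-1)

theorem x_zero : P.x 0 = 1 := by
  have h := P.x_add 0 0
  rw [add_zero] at h
  have h2 : P.x 0 * 1 = P.x 0 * P.x 0 := by
    rw [mul_one]
    exact h
  exact (mul_left_cancel h2).symm

theorem y_zero : P.y 0 = 1 := by
  have h := P.y_add 0 0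
  rw [add_zero] at h
  have h2 : P.y 0 * 1 = P.y 0 * P.y 0 := by
    rw [mul_one]
    exact h
  exact (mul_left_cancel h2).symm

theorem x_neg (a : K) : P.x (-a) = (P.x a)⁻¹ := by
  apply eq_inv_of_mul_eq_one_left
  rw [← P.x_add, neg_add_cancel, P.x_zero]

theorem y_neg (a : K) : P.y (-a) = (P.y a)⁻¹ := by
  apply eq_inv_of_mul_eq_one_left
  rw [← P.y_add, neg_add_cancel, P.y_zero]

theorem w_inv (t : K) : (P.w t)⁻¹ = P.w (-t) := by
  unfold w
  rw [mul_inv_rev, mul_inv_rev, ← P.x_neg, ← P.y_neg, inv_neg, neg_neg, mul_assoc]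

theorem cw1 {t : K} (ht : t ≠ 0) (u : K) : P.w t * P.x u = P.y (-(t⁻¹) ^ 2 * u) * P.w t :=
  mul_inv_eq_iff_eq_mul.mp (P.c1 t ht u)

theorem cw2 {t : K} (ht : t ≠ 0) (u : K) : P.w t * P.y u = P.x (-t ^ 2 * u) * P.w t :=
  mul_inv_eq_iff_eq_mul.mp (P.c2 t ht u)

theorem cw1' {t : K} (ht : t ≠ 0) (u : K) : P.x u * P.w t = P.w t * P.y (-(t⁻¹) ^ 2 * u) := by
  have h := P.cw1 (neg_ne_zero.mpr ht) u
  rw [← P.w_inv t] at h
  have e : -((-t)⁻¹) ^ 2 * u = -(t⁻¹) ^ 2 * u := by rw [inv_neg, neg_sq]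
  rw [e] at h
  calc P.x u * P.w t = P.w t * ((P.w t)⁻¹ * P.x u) * P.w t := by group
    _ = P.w t * (P.y (-(t⁻¹) ^ 2 * u) * (P.w t)⁻¹) * P.w t := by rw [h]
    _ = _ := by group

theorem wE {s : K} (hs : s ≠ 0) : P.y (-s⁻¹) * P.x s * P.y (-s⁻¹) = P.w s := by
  have h := P.cw1 hs s
  have e : -(s⁻¹) ^ 2 * s = -s⁻¹ := by field_simp
  rw [e] at h
  unfold w at h ⊢
  have h2 : P.x s * P.y (-s⁻¹) * P.x s * P.x s = P.y (-s⁻¹) * P.x s * P.y (-s⁻¹) * P.x s := by
    rw [h]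
    simp only [mul_assoc]
  exact (mul_right_cancel h2).symm

theorem ww {t u : K} (ht : t ≠ 0) (hu : u ≠ 0) :
    P.w t * P.w u * (P.w t)⁻¹ = P.w (t ^ 2 * u⁻¹) := by
  have hs : t ^ 2 * u⁻¹ ≠ 0 := mul_ne_zero (pow_ne_zero 2 ht) (inv_ne_zero hu)
  rw [← P.wE hs]
  have e1 : P.w t * P.w u * (P.w t)⁻¹ =
      (P.w t * P.x u * (P.w t)⁻¹) * (P.w t * P.y (-u⁻¹) * (P.w t)⁻¹) *
        (P.w t * P.x u * (P.w t)⁻¹) := by
    show P.w t * (P.x u * P.y (-u⁻¹) * P.x u) * (P.w t)⁻¹ = _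
    group
  have a1 : P.w t * P.x u * (P.w t)⁻¹ = P.y (-(t⁻¹) ^ 2 * u) := P.c1 t ht u
  have a2 : P.w t * P.y (-u⁻¹) * (P.w t)⁻¹ = P.x (-t ^ 2 * -u⁻¹) := P.c2 t ht (-u⁻¹)
  rw [e1, a1, a2]
  have e2 : -(t ^ 2 * u⁻¹)⁻¹ = -(t⁻¹) ^ 2 * u := by field_simp
  have e3 : -t ^ 2 * -u⁻¹ = t ^ 2 * u⁻¹ := by ring
  rw [e2, e3]

theorem h_one : P.h 1 = 1 := by
  unfold h
  rw [← P.w_inv 1, mul_inv_cancel]

theorem hw {t u : K} (ht : t ≠ 0) (hu : u ≠ 0) :
    P.h t * P.w u * (P.h t)⁻¹ = P.w (t ^ 2 * u) := by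
  have h1 : P.w (-1) * P.w u * (P.w (-1))⁻¹ = P.w u⁻¹ := by
    rw [P.ww (neg_ne_zero.mpr one_ne_zero) hu]
    congr 1
    ring
  have h2 : P.w t * P.w u⁻¹ * (P.w t)⁻¹ = P.w (t ^ 2 * u) := by
    rw [P.ww ht (inv_ne_zero hu), inv_inv]
  calc P.h t * P.w u * (P.h t)⁻¹
      = P.w t * (P.w (-1) * P.w u * (P.w (-1))⁻¹) * (P.w t)⁻¹ := by
        unfold h
        group
    _ = _ := by rw [h1, h2]

theorem hh {t u : K} (ht : t ≠ 0) (hu : u ≠ 0) :
    P.h t * P.h u * (P.h t)⁻¹ = P.h (t ^ 2 * u) * (P.h (t ^ 2))⁻¹ := by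
  have h1 := P.hw ht hu
  have h2 := P.hw ht (neg_ne_zero.mpr (one_ne_zero (α := K)))
  have e : t ^ 2 * (-1 : K) = -(t ^ 2) := by ring
  rw [e, ← P.w_inv (t ^ 2)] at h2
  calc P.h t * P.h u * (P.h t)⁻¹
      = (P.h t * P.w u * (P.h t)⁻¹) * (P.h t * P.w (-1) * (P.h t)⁻¹) := by
        show P.h t * (P.w u * P.w (-1)) * (P.h t)⁻¹ = _
        group
    _ = P.w (t ^ 2 * u) * (P.w (t ^ 2))⁻¹ := by rw [h1, h2]
    _ = _ := by
        unfold h
        group

theorem sum1 {t u : K} (ht : t ≠ 0) (hu : u ≠ 0) (htu : t + u = 1) :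
    P.w t * P.w u = P.w (t * u) * P.w (u ^ 2) := by
  have htu0 : t * u ≠ 0 := mul_ne_zero ht hu
  have hA : P.w t * P.x (-1) * P.w u = P.x (t ^ 2) * P.w (t * u) * P.x (u ^ 2) := by
    have l1 : P.w t * P.x (-1) * P.w u = P.x t * (P.y (-t⁻¹) * P.y (-u⁻¹)) * P.x u := by
      have e0 : P.x t * P.x (-1) * P.x u = 1 := by
        rw [← P.x_add, ← P.x_add]
        have e00 : t + -1 + u = 0 := by
          rw [← htu]
          ring
        rw [e00, P.x_zero]
      calc P.w t * P.x (-1) * P.w u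
          = P.x t * P.y (-t⁻¹) * (P.x t * P.x (-1) * P.x u) * P.y (-u⁻¹) * P.x u := by
            unfold w
            simp only [mul_assoc]
        _ = _ := by
            rw [e0]
            simp only [mul_assoc, mul_one]
    have l2 : P.x (t ^ 2) * P.w (t * u) * P.x (u ^ 2) = P.x t * P.y (-(t * u)⁻¹) * P.x u := by
      have e1 : P.x (t ^ 2) * P.x (t * u) = P.x t := by
        rw [← P.x_add]
        have e10 : t ^ 2 + t * u = t * (t + u) := by ring
        rw [e10, htu, mul_one]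
      have e2 : P.x (t * u) * P.x (u ^ 2) = P.x u := by
        rw [← P.x_add]
        have e20 : t * u + u ^ 2 = u * (t + u) := by ring
        rw [e20, htu, mul_one]
      calc P.x (t ^ 2) * P.w (t * u) * P.x (u ^ 2)
          = (P.x (t ^ 2) * P.x (t * u)) * P.y (-(t * u)⁻¹) * (P.x (t * u) * P.x (u ^ 2)) := by
            unfold w
            simp only [mul_assoc]
        _ = _ := by rw [e1, e2]
    have e3 : -t⁻¹ + -u⁻¹ = -(t * u)⁻¹ := by
      have e30 : (t * u)⁻¹ = (t + u) * (t⁻¹ * u⁻¹) := by rw [htu, one_mul, mul_inv]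
      rw [e30]
      field_simp
      ring
    rw [l1, l2, ← P.y_add, e3]
  have hB : P.x (-1) * P.w u = P.w u * P.y ((u⁻¹) ^ 2) := by
    rw [P.cw1' hu (-1)]
    have e : -(u⁻¹) ^ 2 * (-1 : K) = (u⁻¹) ^ 2 := by ring
    rw [e]
  have hC : P.x (t ^ 2) * P.w (t * u) = P.w (t * u) * P.y (-(u⁻¹) ^ 2) := by
    rw [P.cw1' htu0 (t ^ 2)]
    have e : -((t * u)⁻¹) ^ 2 * t ^ 2 = -(u⁻¹) ^ 2 := by field_simp
    rw [e]
  have hE := P.wE (pow_ne_zero 2 hu)
  have e4 : -(u ^ 2)⁻¹ = -(u⁻¹) ^ 2 := by rw [inv_pow]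
  rw [e4] at hE
  have h5 : P.w t * P.w u * P.y ((u⁻¹) ^ 2) =
      P.w (t * u) * P.y (-(u⁻¹) ^ 2) * P.x (u ^ 2) := by
    rw [← hC, mul_assoc (P.w t), ← hB, ← mul_assoc]
    exact hA
  have h6 : P.y ((u⁻¹) ^ 2) * P.y (-(u⁻¹) ^ 2) = 1 := by
    rw [← P.y_add, add_neg_cancel, P.y_zero]
  calc P.w t * P.w u = P.w t * P.w u * P.y ((u⁻¹) ^ 2) * P.y (-(u⁻¹) ^ 2) := by
        rw [mul_assoc (P.w t * P.w u), h6, mul_one]
    _ = P.w (t * u) * (P.y (-(u⁻¹) ^ 2) * P.x (u ^ 2) * P.y (-(u⁻¹) ^ 2)) := by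
        rw [h5]
        simp only [mul_assoc]
    _ = _ := by rw [hE]

theorem sum2 {t u : K} (ht : t ≠ 0) (hu : u ≠ 0) (htu : t + u = 1) :
    P.h t * P.h u = P.h (t * u) := by
  have htu0 : t * u ≠ 0 := mul_ne_zero ht hu
  have h1 : P.w t * P.w (-1) * (P.w t)⁻¹ = (P.w (t ^ 2))⁻¹ := by
    rw [P.ww ht (neg_ne_zero.mpr one_ne_zero), P.w_inv]
    congr 1
    rw [inv_neg, inv_one, mul_neg, mul_one]
  have h2 : P.w (t * u) * P.w (u ^ 2) = P.w (t ^ 2) * P.w (t * u) := by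
    have h3 := P.ww htu0 (pow_ne_zero 2 hu)
    have e : (t * u) ^ 2 * (u ^ 2)⁻¹ = t ^ 2 := by field_simp
    rw [e] at h3
    rw [← h3]
    group
  have key : P.w t * P.w (-1) * P.w u = P.w (t * u) := by
    calc P.w t * P.w (-1) * P.w u
        = (P.w t * P.w (-1) * (P.w t)⁻¹) * (P.w t * P.w u) := by group
      _ = (P.w (t ^ 2))⁻¹ * (P.w (t ^ 2) * P.w (t * u)) := by rw [h1, P.sum1 ht hu htu, h2]
      _ = _ := by group
  unfold h
  rw [← mul_assoc, key]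

/-- the symbol `h t * h u * (h (t * u))⁻¹` is central -/
def Central : Prop :=
  ∀ t u : K, t ≠ 0 → u ≠ 0 → P.h t * P.h u * (P.h (t * u))⁻¹ ∈ Subgroup.center Γ

theorem h_pow (hZ : P.Central) {g : K} (hg : g ≠ 0) :
    ∀ n : ℕ, ∃ z ∈ Subgroup.center Γ, P.h (g ^ n) = z * P.h g ^ n := by
  intro n
  induction n with
  | zero => exact ⟨1, one_mem _, by rw [pow_zero, pow_zero, P.h_one, one_mul]⟩
  | succ n ih =>
    obtain ⟨z, hz, e⟩ := ih
    refine ⟨(P.h (g ^ n) * P.h g * (P.h (g ^ n * g))⁻¹)⁻¹ * z,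
      mul_mem (inv_mem (hZ _ _ (pow_ne_zero n hg) hg)) hz, ?_⟩
    rw [pow_succ, pow_succ]
    generalize P.h g ^ n = b at e ⊢
    have e' : (P.h (g ^ n))⁻¹ * z * b = 1 := by
      rw [e]
      group
    calc P.h (g ^ n * g)
        = P.h (g ^ n * g) * (P.h g)⁻¹ * ((P.h (g ^ n))⁻¹ * z * b) * P.h g := by
          rw [e']
          group
      _ = (P.h (g ^ n) * P.h g * (P.h (g ^ n * g))⁻¹)⁻¹ * z * (b * P.h g) := by group

theorem h_comm [Finite K] (hZ : P.Central) {t u : K} (ht : t ≠ 0) (hu : u ≠ 0) :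
    P.h t * P.h u = P.h u * P.h t := by
  obtain ⟨g, hg⟩ := IsCyclic.exists_generator (α := Kˣ)
  have key : ∀ v : K, v ≠ 0 →
      ∃ n : ℕ, ∃ z ∈ Subgroup.center Γ, P.h v = z * P.h (g : K) ^ n := by
    intro v hv
    have h1 : Units.mk0 v hv ∈ Subgroup.zpowers g := hg _
    have h2 : Units.mk0 v hv ∈ Submonoid.powers g :=
      (isOfFinOrder_of_finite g).mem_powers_iff_mem_zpowers.mpr h1
    obtain ⟨n, hn⟩ := (Submonoid.mem_powers_iff _ _).mp h2
    have h3 : (g : K) ^ n = v := by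
      have h4 := congrArg Units.val hn
      simpa using h4
    obtain ⟨z, hz, e⟩ := P.h_pow hZ g.ne_zero n
    exact ⟨n, z, hz, by rw [← e, h3]⟩
  obtain ⟨m, z₁, hz₁, e₁⟩ := key t ht
  obtain ⟨n, z₂, hz₂, e₂⟩ := key u hu
  rw [e₁, e₂]
  have c1 : ∀ a : Γ, Commute z₁ a := fun a => (Subgroup.mem_center_iff.mp hz₁ a).symm
  have c2 : ∀ a : Γ, Commute z₂ a := fun a => (Subgroup.mem_center_iff.mp hz₂ a).symm
  exact (Commute.mul_left (Commute.mul_right (c1 z₂) (c1 _))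
    (Commute.mul_right (c2 _).symm (Commute.pow_pow_self _ m n))).eq

theorem h_sq [Finite K] (hZ : P.Central) {t u : K} (ht : t ≠ 0) (hu : u ≠ 0) :
    P.h u * P.h (t ^ 2) = P.h (t ^ 2 * u) := by
  have h1 := P.hh ht hu
  have h2 : P.h t * P.h u * (P.h t)⁻¹ = P.h u := by
    rw [P.h_comm hZ ht hu, mul_inv_cancel_right]
  rw [h2] at h1
  rw [h1, inv_mul_cancel_right]

/-- over a finite field, a central symbol is trivial -/
theorem h_mul [Finite K] (hZ : P.Central) {t u : K} (ht : t ≠ 0) (hu : u ≠ 0) :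
    P.h t * P.h u = P.h (t * u) := by
  have hA : ∀ (t s : K), t ≠ 0 → s ≠ 0 → P.h t * P.h (s ^ 2) = P.h (t * s ^ 2) := by
    intro t s ht hs
    rw [P.h_sq hZ hs ht, mul_comm]
  have hB : ∀ (s u : K), s ≠ 0 → u ≠ 0 → P.h (s ^ 2) * P.h u = P.h (s ^ 2 * u) := by
    intro s u hs hu
    rw [P.h_comm hZ (pow_ne_zero 2 hs) hu, P.h_sq hZ hs hu]
  haveI := Fintype.ofFinite K
  by_cases h2 : ringChar K = 2
  · obtain ⟨s, hs⟩ := FiniteField.isSquare_of_char_two h2 u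
    have hs0 : s ≠ 0 := by
      rintro rfl
      rw [mul_zero] at hs
      exact hu hs
    have e : u = s ^ 2 := by rw [hs, sq]
    rw [e]
    exact hA t s ht hs0
  · have hodd := FiniteField.odd_card_of_char_ne_two h2
    obtain ⟨a, b, hab⟩ := FiniteField.exists_root_sum_quadratic
      (f := Polynomial.C t * Polynomial.X ^ 2)
      (g := Polynomial.C u * Polynomial.X ^ 2 + Polynomial.C (-1))
      (Polynomial.degree_C_mul_X_pow 2 ht)
      (by
        rw [Polynomial.degree_add_C (by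
          rw [Polynomial.degree_C_mul_X_pow 2 hu]
          decide), Polynomial.degree_C_mul_X_pow 2 hu]
        rfl) hodd
    simp only [Polynomial.eval_mul, Polynomial.eval_C, Polynomial.eval_pow, Polynomial.eval_X,
      Polynomial.eval_add] at hab
    have hab' : t * a ^ 2 + u * b ^ 2 = 1 := by linear_combination hab
    by_cases ha : a = 0
    · have hb : b ≠ 0 := by
        rintro rfl
        rw [ha] at hab'
        simp at hab'
      have e : u = (b⁻¹) ^ 2 := by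
        rw [ha] at hab'
        field_simp
        linear_combination hab'
      rw [e]
      exact hA t b⁻¹ ht (inv_ne_zero hb)
    · by_cases hb : b = 0
      · have e : t = (a⁻¹) ^ 2 := by
          rw [hb] at hab'
          field_simp
          linear_combination hab'
        rw [e]
        exact hB a⁻¹ u (inv_ne_zero ha) hu
      · have h1 := P.sum2 (mul_ne_zero ht (pow_ne_zero 2 ha)) (mul_ne_zero hu (pow_ne_zero 2 hb))
          hab'
        rw [← hA t a ht ha, ← hA u b hu hb] at h1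
        have e : t * a ^ 2 * (u * b ^ 2) = t * u * (a * b) ^ 2 := by ring
        rw [e, ← hA (t * u) (a * b) (mul_ne_zero ht hu) (mul_ne_zero ha hb)] at h1
        have e2 : (a * b) ^ 2 = a ^ 2 * b ^ 2 := by ring
        rw [e2, ← hA (a ^ 2) b (pow_ne_zero 2 ha) hb] at h1
        have c := P.h_comm hZ hu (pow_ne_zero 2 ha)
        have h3 : P.h t * P.h u * (P.h (a ^ 2) * P.h (b ^ 2)) =
            P.h (t * u) * (P.h (a ^ 2) * P.h (b ^ 2)) := by
          rw [← h1]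
          calc P.h t * P.h u * (P.h (a ^ 2) * P.h (b ^ 2))
              = P.h t * (P.h u * P.h (a ^ 2)) * P.h (b ^ 2) := by simp only [mul_assoc]
            _ = P.h t * (P.h (a ^ 2) * P.h u) * P.h (b ^ 2) := by rw [c]
            _ = _ := by simp only [mul_assoc]
        exact mul_right_cancel h3

end SymData

end Cfsg.Agent.Lib.helper41
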