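/-
helper41: Steinberg's presentation: in a group with the relations (R1), (R2) mapping onto the
Chevalley group, `n̄_r(t)` conjugates `X_r` and `X_{-r}` as in `SL₂`, for every root `r`; the
symbols `h̄_r(t) h̄_r(u) h̄_r(tu)⁻¹` are central, and trivial over a finite field.
-/
import Cfsg.Agent.Lib.helper41.StDiag
import Cfsg.Agent.Lib.helper41.StInst
import Cfsg.Agent.Lib.helper41.StSym

set_option autoImplicit false

namespace Cfsg.Agent.Lib.helper41

open Cfsg.Lie Cfsg.Agent.Lib.helper22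

universe u

section

variable {K : Type u} [Field K]

theorem sl2n_mul_sl2u (t : K) (ht : t ≠ 0) (v : K) :
    sl2n t ht * sl2u v = sl2l (-(t⁻¹) ^ 2 * v) * sl2n t ht := by
  apply Subtype.ext
  show !![0, t; -t⁻¹, 0] * !![1, v; 0, 1] = !![1, 0; -(t⁻¹) ^ 2 * v, 1] * !![0, t; -t⁻¹, 0]
  ext i j
  fin_cases i <;> fin_cases j <;> simp [Matrix.mul_apply, Fin.sum_univ_two] <;> field_simp

theorem sl2n_mul_sl2l (t : K) (ht : t ≠ 0) (v : K) :
    sl2n t ht * sl2l v = sl2u (-t ^ 2 * v) * sl2n t ht := by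
  apply Subtype.ext
  show !![0, t; -t⁻¹, 0] * !![1, 0; v, 1] = !![1, -t ^ 2 * v; 0, 1] * !![0, t; -t⁻¹, 0]
  ext i j
  fin_cases i <;> fin_cases j <;> simp [Matrix.mul_apply, Fin.sum_univ_two] <;> field_simp

end

section

variable {D : ChevalleyDatum} {K : Type u} [Field K]

theorem nMat_mul_x_self (C : ChevPkg D K) {r : ℕ} (hr : r < D.nroots) {t : K} (ht : t ≠ 0)
    (v : K) :
    D.nMat K r t * D.x K r v = D.x K (D.neg r) (-(t⁻¹) ^ 2 * v) * D.nMat K r t := by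
  obtain ⟨S0, -⟩ := C.I.hSD ⟨r, hr⟩
  have e := congrArg (fun g => ((sl2Hom S0 g : GL D.Idx K) : Matrix D.Idx D.Idx K))
    (sl2n_mul_sl2u t ht v)
  simp only [map_mul, Units.val_mul] at e
  rw [sl2Hom_sl2n, sl2Hom_sl2u, sl2Hom_sl2l] at e
  exact e

theorem nMat_mul_x_neg (C : ChevPkg D K) {r : ℕ} (hr : r < D.nroots) {t : K} (ht : t ≠ 0)
    (v : K) :
    D.nMat K r t * D.x K (D.neg r) v = D.x K r (-t ^ 2 * v) * D.nMat K r t := by
  obtain ⟨S0, -⟩ := C.I.hSD ⟨r, hr⟩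
  have e := congrArg (fun g => ((sl2Hom S0 g : GL D.Idx K) : Matrix D.Idx D.Idx K))
    (sl2n_mul_sl2l t ht v)
  simp only [map_mul, Units.val_mul] at e
  rw [sl2Hom_sl2n, sl2Hom_sl2u, sl2Hom_sl2l] at e
  exact e

theorem mul_nMat_cancel (C : ChevPkg D K) {r : ℕ} (hr : r < D.nroots) {t : K} (ht : t ≠ 0)
    {A B : Matrix D.Idx D.Idx K} (h : A * D.nMat K r t = B * D.nMat K r t) : A = B := by
  obtain ⟨S0, -⟩ := C.I.hSD ⟨r, hr⟩
  have e : ((sl2Hom S0 (sl2n t ht) : GL D.Idx K) : Matrix D.Idx D.Idx K) = D.nMat K r t :=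
    sl2Hom_sl2n S0 t ht
  rw [← e] at h
  have h2 := congrArg
    (fun M => M * (((sl2Hom S0 (sl2n t ht))⁻¹ : GL D.Idx K) : Matrix D.Idx D.Idx K)) h
  simp only [mul_assoc, ← Units.val_mul, mul_inv_cancel, Units.val_one, mul_one] at h2
  exact h2

end

namespace StData

variable {D : ChevalleyDatum} {K : Type u} [Field K] {Γ : Type u} [Group Γ] (S : StData D K Γ)

/-- the conjugation relations of `n̄_r(t)` on `X_r` and `X_{-r}` -/
def NC (r : ℕ) : Prop := r < D.nroots ∧ D.neg r < D.nroots ∧ ∀ t : K, t ≠ 0 → ∀ u : K,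
    S.nb r t * S.X r u * (S.nb r t)⁻¹ = S.X (D.neg r) (-(t⁻¹) ^ 2 * u) ∧
    S.nb r t * S.X (D.neg r) u * (S.nb r t)⁻¹ = S.X r (-t ^ 2 * u)

theorem NC_simple (C : ChevPkg D K) (T : StTab D) {k : ℕ} (hk : k < D.rank) :
    S.NC (D.simple k) := by
  have he := C.I.hU.even
  obtain ⟨hp1, hp2⟩ := simple_posR C.I hk
  have hnp := C.I.hU.negrev _ hp2
  have hnplt : D.neg (D.simple k) < D.nroots := by omega
  have hne : D.neg (D.simple k) ≠ D.simple k := by omega
  refine ⟨hp2, hnplt, fun t ht u => ?_⟩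
  obtain ⟨c, hR⟩ := rootAct_nMat C.I hk ht
  have hc1 : c (D.simple k) = -(t⁻¹) ^ 2 := by
    have e1 := (hR _ hp2).2.2 1
    rw [reflectRoot_self, nMat_mul_x_self C hp2 ht 1, mul_one, mul_one] at e1
    exact (x_inj C.I hnplt (mul_nMat_cancel C hp2 ht e1)).symm
  have hc2 : c (D.neg (D.simple k)) = -t ^ 2 := by
    have e1 := (hR _ hnplt).2.2 1
    rw [reflectRoot_neg_self D k hne, nMat_mul_x_neg C hp2 ht 1, mul_one, mul_one] at e1
    exact (x_inj C.I hp2 (mul_nMat_cancel C hp2 ht e1)).symm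
  refine ⟨?_, ?_⟩
  · rw [S.nb_act_self C T hk hR u, hc1]
  · rw [S.nb_act_neg_self C T hk ht hR u, hc2]

theorem NC_reflect (C : ChevPkg D K) (T : StTab D) {a : ℕ} (ha : S.NC a) {i : ℕ}
    (hi : i < D.rank) : S.NC (D.reflectRoot i a) := by
  obtain ⟨ha1, ha2, hA⟩ := ha
  obtain ⟨c, hc, hπ, hact⟩ := S.SA_nb C T hi
  generalize S.nb (D.simple i) 1 = m at hact
  have hr1 := (hπ a ha1).1
  have hr2 : D.neg (D.reflectRoot i a) < D.nroots := by
    rw [← (hπ a ha1).2]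
    exact (hπ _ ha2).1
  have hcn : c (D.neg a) = c a := (hc a ha1).2
  have hε : c a * c a = 1 := by
    rcases (hc a ha1).1 with h | h <;> rw [h] <;> simp
  have hX : ∀ u : K, m * S.X a u * m⁻¹ = S.X (D.reflectRoot i a) (c a * u) := hact a ha1
  have hXn : ∀ u : K,
      m * S.X (D.neg a) u * m⁻¹ = S.X (D.neg (D.reflectRoot i a)) (c a * u) := by
    intro u
    rw [hact _ ha2 u, (hπ a ha1).2, hcn]
  have hnb : ∀ t : K, m * S.nb a t * m⁻¹ = S.nb (D.reflectRoot i a) (c a * t) := by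
    intro t
    have e : m * S.nb a t * m⁻¹ =
        (m * S.X a t * m⁻¹) * (m * S.X (D.neg a) (-t⁻¹) * m⁻¹) * (m * S.X a t * m⁻¹) := by
      unfold StData.nb
      group
    rw [e, hX, hXn]
    unfold StData.nb
    have e2 : c a * -t⁻¹ = -(c a * t)⁻¹ := by
      have e3 : (c a)⁻¹ = c a := inv_eq_of_mul_eq_one_right hε
      rw [mul_inv, e3, mul_neg]
    rw [e2]
  refine ⟨hr1, hr2, fun t ht u => ?_⟩
  have ht' : c a * t ≠ 0 := mul_ne_zero (left_ne_zero_of_mul_eq_one hε) ht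
  obtain ⟨h1, h2⟩ := hA (c a * t) ht' (c a * u)
  have et : c a * (c a * t) = t := by rw [← mul_assoc, hε, one_mul]
  have eu : c a * (c a * u) = u := by rw [← mul_assoc, hε, one_mul]
  have esq : (c a * t) ^ 2 = t ^ 2 := by rw [mul_pow, sq (c a), hε, one_mul]
  have esq' : ((c a * t)⁻¹) ^ 2 = (t⁻¹) ^ 2 := by rw [inv_pow, esq, inv_pow]
  constructor
  · have e := congrArg (fun g => m * g * m⁻¹) h1
    have e' : m * (S.nb a (c a * t) * S.X a (c a * u) * (S.nb a (c a * t))⁻¹) * m⁻¹ =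
        (m * S.nb a (c a * t) * m⁻¹) * (m * S.X a (c a * u) * m⁻¹) *
          (m * S.nb a (c a * t) * m⁻¹)⁻¹ := by group
    rw [e', hnb, hX, et, eu, hXn, esq'] at e
    rw [e]
    congr 1
    calc c a * (-(t⁻¹) ^ 2 * (c a * u)) = -(t⁻¹) ^ 2 * (c a * (c a * u)) := by ring
      _ = _ := by rw [eu]
  · have e := congrArg (fun g => m * g * m⁻¹) h2
    have e' : m * (S.nb a (c a * t) * S.X (D.neg a) (c a * u) * (S.nb a (c a * t))⁻¹) * m⁻¹ =
        (m * S.nb a (c a * t) * m⁻¹) * (m * S.X (D.neg a) (c a * u) * m⁻¹) *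
          (m * S.nb a (c a * t) * m⁻¹)⁻¹ := by group
    rw [e', hnb, hXn, et, eu, hX, esq] at e
    rw [e]
    congr 1
    calc c a * (-t ^ 2 * (c a * u)) = -t ^ 2 * (c a * (c a * u)) := by ring
      _ = _ := by rw [eu]

theorem NC_all (C : ChevPkg D K) (T : StTab D) : ∀ r, r < D.nroots → S.NC r :=
  C.I.R.reach (fun r => S.NC r) (fun _ hi => S.NC_simple C T hi)
    (fun _ _ ha _ hi => S.NC_reflect C T ha hi)

/-- the `SL₂`-data of a root -/
def symOf (C : ChevPkg D K) (T : StTab D) {r : ℕ} (hr : r < D.nroots) : SymData K Γ where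
  x := S.X r
  y := S.X (D.neg r)
  x_add := S.add r
  y_add := S.add (D.neg r)
  c1 := fun t ht u => ((S.NC_all C T r hr).2.2 t ht u).1
  c2 := fun t ht u => ((S.NC_all C T r hr).2.2 t ht u).2

theorem θ_hb_root {r : ℕ} (hr : r < D.nroots) (hnr : D.neg r < D.nroots) (t : K) :
    ((S.θ (S.hb r t) : GL D.Idx K) : Matrix D.Idx D.Idx K) = D.hMat K r t := by
  unfold StData.hb
  rw [map_mul, Units.val_mul, S.θ_nb hr hnr, S.θ_nb hr hnr]
  unfold ChevalleyDatum.hMat ChevalleyDatum.hWord ChevalleyDatum.nMat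
  rw [wordMat_append]

theorem hb_symbol_central (C : ChevPkg D K) (T : StTab D) {r : ℕ} (hr : r < D.nroots)
    (hnr : D.neg r < D.nroots) {t u : K} (ht : t ≠ 0) (hu : u ≠ 0) :
    S.hb r t * S.hb r u * (S.hb r (t * u))⁻¹ ∈ Subgroup.center Γ := by
  apply S.ker_le_center C T
  rw [MonoidHom.mem_ker]
  obtain ⟨S0, -⟩ := C.I.hSD ⟨r, hr⟩
  have key : ∀ (v : K) (hv : v ≠ 0), S.θ (S.hb r v) = sl2Hom S0 (sl2h v hv) := by
    intro v hv
    apply Units.ext
    rw [S.θ_hb_root hr hnr v]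
    exact (sl2Hom_sl2h S0 v hv).symm
  rw [map_mul, map_mul, map_inv, key t ht, key u hu, key (t * u) (mul_ne_zero ht hu),
    ← map_mul, sl2h_mul_sl2h, mul_inv_cancel]

/-- over a finite field the relations (R3) follow from (R1) and (R2) -/
theorem hb_mul_of_finite [Finite K] (C : ChevPkg D K) (T : StTab D) {r : ℕ}
    (hr : r < D.nroots) {t u : K} (ht : t ≠ 0) (hu : u ≠ 0) :
    S.hb r t * S.hb r u = S.hb r (t * u) := by
  have hnr := (S.NC_all C T r hr).2.1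
  exact (S.symOf C T hr).h_mul (fun t u ht hu => S.hb_symbol_central C T hr hnr ht hu) ht hu

end StData

end Cfsg.Agent.Lib.helper41
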