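/-
helper41: Steinberg's presentation over a finite field: the group presented by (R1), (R2) is
isomorphic to the group presented by (R1), (R2), (R3), matching the generators.
-/
import Cfsg.Agent.Lib.helper41.StConj
import Cfsg.Agent.Lib.helper41.StDiagInst

set_option autoImplicit false

namespace Cfsg.Agent.Lib.helper41

open Cfsg.Lie Cfsg.Agent.Lib.helper22

universe u

/-- two sets of relators each holding in the group presented by the other present isomorphic
groups -/
theorem pres_iso_of_rels {α : Type u} (R₁ R₂ : Set (FreeGroup α))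
    (h12 : ∀ r ∈ R₁, PresentedGroup.mk R₂ r = 1) (h21 : ∀ r ∈ R₂, PresentedGroup.mk R₁ r = 1) :
    ∃ e : PresentedGroup R₁ ≃* PresentedGroup R₂,
      ∀ w : FreeGroup α, e (PresentedGroup.mk R₁ w) = PresentedGroup.mk R₂ w := by
  have l12 : FreeGroup.lift (fun a : α => PresentedGroup.mk R₂ (FreeGroup.of a)) =
      PresentedGroup.mk R₂ := FreeGroup.ext_hom _ _ (fun a => by simp)
  have l21 : FreeGroup.lift (fun a : α => PresentedGroup.mk R₁ (FreeGroup.of a)) =
      PresentedGroup.mk R₁ := FreeGroup.ext_hom _ _ (fun a => by simp)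
  have h12' : ∀ r ∈ R₁,
      FreeGroup.lift (fun a : α => PresentedGroup.mk R₂ (FreeGroup.of a)) r = 1 := fun r hr => by
    rw [l12]
    exact h12 r hr
  have h21' : ∀ r ∈ R₂,
      FreeGroup.lift (fun a : α => PresentedGroup.mk R₁ (FreeGroup.of a)) r = 1 := fun r hr => by
    rw [l21]
    exact h21 r hr
  have ef : ∀ w, PresentedGroup.toGroup h12' (PresentedGroup.mk R₁ w) =
      PresentedGroup.mk R₂ w := by
    intro w
    have e : PresentedGroup.toGroup h12' (PresentedGroup.mk R₁ w) =
        FreeGroup.lift (fun a : α => PresentedGroup.mk R₂ (FreeGroup.of a)) w := rfl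
    rw [e, l12]
  have eg : ∀ w, PresentedGroup.toGroup h21' (PresentedGroup.mk R₂ w) =
      PresentedGroup.mk R₁ w := by
    intro w
    have e : PresentedGroup.toGroup h21' (PresentedGroup.mk R₂ w) =
        FreeGroup.lift (fun a : α => PresentedGroup.mk R₁ (FreeGroup.of a)) w := rfl
    rw [e, l21]
  refine ⟨MonoidHom.toMulEquiv (PresentedGroup.toGroup h12') (PresentedGroup.toGroup h21') ?_ ?_,
    fun w => ef w⟩
  · apply PresentedGroup.ext
    intro a
    show PresentedGroup.toGroup h21'
      (PresentedGroup.toGroup h12' (PresentedGroup.mk R₁ (FreeGroup.of a))) =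
        PresentedGroup.mk R₁ (FreeGroup.of a)
    rw [ef, eg]
  · apply PresentedGroup.ext
    intro a
    show PresentedGroup.toGroup h12'
      (PresentedGroup.toGroup h21' (PresentedGroup.mk R₂ (FreeGroup.of a))) =
        PresentedGroup.mk R₂ (FreeGroup.of a)
    rw [eg, ef]

/-- over a finite field the group presented by (R1), (R2) is the group presented by
(R1), (R2), (R3) -/
theorem cover_iso (D : ChevalleyDatum)
    (hD : D ∈ [chevG2, chevB2, chevD4, chevF4, chevE6, chevE7, chevE8]) (K : Type u) [Field K]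
    [Finite K] (hSD : ∀ r : Fin D.nroots, Nonempty (StringData D r)) (hcomm : CommFormula D K) :
    ∃ e : PresentedGroup (D.steinbergRelsAB K) ≃* PresentedGroup (D.steinbergRels K),
      ∀ w : FreeGroup (Fin D.nroots × K),
        e (PresentedGroup.mk (D.steinbergRelsAB K) w) = PresentedGroup.mk (D.steinbergRels K) w := by
  obtain ⟨C⟩ := chevPkg_all D hD K
  have T := stTab_all D hD
  have hrelAB := lift_relAB hSD hcomm
  obtain ⟨S, hShb⟩ : ∃ S : StData D K (PresentedGroup (D.steinbergRelsAB K)),
      ∀ (r : ℕ) (t : K), S.hb r t = PresentedGroup.mk (D.steinbergRelsAB K) (D.stH r t) :=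
    ⟨stDataOf hSD (D.steinbergRelsAB K) (subset_refl _) hrelAB,
      hb_stDataOf hSD (D.steinbergRelsAB K) (subset_refl _) hrelAB⟩
  apply pres_iso_of_rels
  · intro r hr
    exact PresentedGroup.one_of_mem (Set.subset_union_left hr)
  · intro g hg
    rcases hg with hg | ⟨r, t₁, t₂, hr, h₁, h₂, rfl⟩
    · exact PresentedGroup.one_of_mem hg
    · rw [map_mul, map_mul, map_inv, ← hShb, ← hShb, ← hShb, S.hb_mul_of_finite C T hr h₁ h₂,
        mul_inv_cancel]

end Cfsg.Agent.Lib.helper41
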