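import Cfsg.Agent.Lib.helper41.WeylTab

/-!
The centre of a Weyl group given by root tables, and its transfer to the presented Coxeter
group: a central element fixes or negates every simple root, with the same sign on adjacent
nodes; so the centre is trivial or generated by the element negating all the roots, which is
a power of the Coxeter element when it lies in the group.
-/

set_option autoImplicit false

namespace Cfsg.Agent.Lib.helper41

namespace WeylData

variable {n l : ℕ} (A : WeylData n l)

theorem central_simple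
    (h1 : ∀ i r, A.σ i r = A.neg r → r = A.simple i ∨ r = A.neg (A.simple i))
    (z : Equiv.Perm (Fin n)) (hz : A.Compat z) (i : Fin l) (hc : z * A.σ i = A.σ i * z) :
    z (A.simple i) = A.simple i ∨ z (A.simple i) = A.neg (A.simple i) := by
  apply h1 i
  have e := congrArg (fun f : Equiv.Perm (Fin n) => f (A.simple i)) hc
  simp only [Equiv.Perm.mul_apply] at e
  rw [A.σ_simple, hz.1] at e
  exact e.symm

theorem central_adj (z : Equiv.Perm (Fin n)) (hz : A.Compat z) (i j : Fin l)
    (hij : A.P (A.simple i) (A.simple j) ≠ 0) (hji : A.P (A.simple j) (A.simple i) ≠ 0)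
    (hi : z (A.simple i) = A.simple i ∨ z (A.simple i) = A.neg (A.simple i))
    (hj : z (A.simple j) = A.simple j ∨ z (A.simple j) = A.neg (A.simple j)) :
    z (A.simple i) = A.simple i ↔ z (A.simple j) = A.simple j := by
  have e1 := hz.2 (A.simple i) (A.simple j)
  have e2 := hz.2 (A.simple j) (A.simple i)
  constructor
  · intro h
    rcases hj with hj | hj
    · exact hj
    · exfalso
      rw [h, hj, A.P_neg] at e1
      exact hij (by omega)
  · intro h
    rcases hi with hi | hi
    · exact hi
    · exfalso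
      rw [h, hi, A.P_neg] at e2
      exact hji (by omega)

theorem simple_ne_neg (i : Fin l) : A.simple i ≠ A.neg (A.simple i) := by
  intro h
  have h1 := A.pos_simple i
  rw [h] at h1
  exact (A.pos_neg _).mp h1 (A.pos_simple i)

/-- the element of `W` negating all the simple roots is unique -/
theorem negAll_unique (z z' : Equiv.Perm (Fin n)) (hz : z ∈ A.W Set.univ)
    (hz' : z' ∈ A.W Set.univ) (h : ∀ i, z (A.simple i) = A.neg (A.simple i))
    (h' : ∀ i, z' (A.simple i) = A.neg (A.simple i)) : z = z' := by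
  have hy : z⁻¹ * z' = 1 := by
    apply A.eq_one_of_pos Set.univ _ (mul_mem (inv_mem hz) hz')
    intro i _
    rw [Equiv.Perm.mul_apply, h' i, ← h i, perm_inv_apply]
    exact A.pos_simple i
  exact inv_mul_eq_one.mp hy

/-- the presented Coxeter group is the group of permutations of the roots, when the Coxeter
relations hold and the orders agree -/
theorem coxeter_equiv (M : CoxeterMatrix (Fin l))
    (hrel : ∀ i j : Fin l, (A.σ i * A.σ j) ^ (M i j) = 1)
    (hcard : Nat.card M.Group = Nat.card (A.W Set.univ)) :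
    ∃ e : M.Group ≃* ↥(A.W Set.univ), ∀ i, (e (M.simple i) : Equiv.Perm (Fin n)) = A.σ i := by
  let f : Fin l → ↥(A.W Set.univ) := fun i => ⟨A.σ i, A.σ_mem_W _ i (Set.mem_univ i)⟩
  have hf : M.IsLiftable f := fun i j => Subtype.ext (hrel i j)
  let θ : M.Group →* ↥(A.W Set.univ) := M.toCoxeterSystem.lift ⟨f, hf⟩
  have hθs : ∀ i, θ (M.simple i) = f i := fun i => M.toCoxeterSystem.lift_apply_simple hf i
  have hθsurj : Function.Surjective θ := by
    rintro ⟨w, hw⟩
    refine Subgroup.closure_induction (p := fun x hx => ∃ y, θ y = ⟨x, hx⟩) ?_ ?_ ?_ ?_ hw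
    · rintro x ⟨i, -, rfl⟩
      exact ⟨M.simple i, hθs i⟩
    · exact ⟨1, map_one θ⟩
    · rintro x y hx hy ⟨a, ha⟩ ⟨b, hb⟩
      exact ⟨a * b, by rw [map_mul, ha, hb]; rfl⟩
    · rintro x hx ⟨a, ha⟩
      exact ⟨a⁻¹, by rw [map_inv, ha]; rfl⟩
  have hfinM : Finite M.Group := by
    apply Nat.finite_of_card_ne_zero
    rw [hcard]
    exact Nat.card_pos.ne'
  have hθbij : Function.Bijective θ := (Nat.bijective_iff_surjective_and_card θ).mpr ⟨hθsurj, hcard⟩
  refine ⟨MulEquiv.ofBijective θ hθbij, fun i => ?_⟩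
  show (θ (M.simple i) : Equiv.Perm (Fin n)) = A.σ i
  rw [hθs i]

theorem coxeter_equiv_prod (M : CoxeterMatrix (Fin l)) (e : M.Group ≃* ↥(A.W Set.univ))
    (he : ∀ i, (e (M.simple i) : Equiv.Perm (Fin n)) = A.σ i) (u : List (Fin l)) :
    (e ((u.map M.simple).prod) : Equiv.Perm (Fin n)) = A.pw u := by
  induction u with
  | nil => simp [WeylData.pw]
  | cons i u ih =>
    rw [List.map_cons, List.prod_cons, map_mul, Subgroup.coe_mul, he i, ih, A.pw_cons]

/-- the centre of the presented Coxeter group, when the centre of `W` is `{1, c^m}` -/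
theorem center_coxeter_two (M : CoxeterMatrix (Fin l)) (e : M.Group ≃* ↥(A.W Set.univ))
    (he : ∀ i, (e (M.simple i) : Equiv.Perm (Fin n)) = A.σ i) (m : ℕ)
    (h1 : ∀ z ∈ A.W Set.univ, (∀ i, z * A.σ i = A.σ i * z) →
      z = 1 ∨ z = (A.pw (List.finRange l)) ^ m)
    (h2 : ∀ w ∈ A.W Set.univ, (A.pw (List.finRange l)) ^ m * w = w * (A.pw (List.finRange l)) ^ m)
    (h3 : (A.pw (List.finRange l)) ^ m ≠ 1) :
    Nat.card (Subgroup.center M.Group) = 2 ∧
      Subgroup.center M.Group ≤ Subgroup.zpowers (((List.finRange l).map M.simple).prod) := by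
  set cox := ((List.finRange l).map M.simple).prod with hcox
  have hc : (e (cox ^ m) : Equiv.Perm (Fin n)) = (A.pw (List.finRange l)) ^ m := by
    rw [map_pow, Subgroup.coe_pow, A.coxeter_equiv_prod M e he]
  have hcen : ∀ g ∈ Subgroup.center M.Group, g = 1 ∨ g = cox ^ m := by
    intro g hg
    rw [Subgroup.mem_center_iff] at hg
    have h4 : ∀ i, (e g : Equiv.Perm (Fin n)) * A.σ i = A.σ i * (e g : Equiv.Perm (Fin n)) := by
      intro i
      have := congrArg (fun x => (e x : Equiv.Perm (Fin n))) (hg (M.simple i))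
      simp only [map_mul, Subgroup.coe_mul, he i] at this
      exact this.symm
    rcases h1 _ (e g).2 h4 with h5 | h5
    · left
      apply e.injective
      rw [map_one]
      exact Subtype.ext h5
    · right
      apply e.injective
      exact Subtype.ext (h5.trans hc.symm)
  have hmem : cox ^ m ∈ Subgroup.center M.Group := by
    rw [Subgroup.mem_center_iff]
    intro x
    apply e.injective
    apply Subtype.ext
    rw [map_mul, map_mul, Subgroup.coe_mul, Subgroup.coe_mul, hc]
    exact (h2 _ (e x).2).symm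
  have hne : cox ^ m ≠ 1 := by
    intro h
    apply h3
    rw [← hc, h, map_one]
    rfl
  constructor
  · rw [Nat.card_eq_two_iff]
    refine ⟨1, ⟨cox ^ m, hmem⟩, fun h => hne (congrArg Subtype.val h).symm, ?_⟩
    ext ⟨g, hg⟩
    simp only [Set.mem_insert_iff, Set.mem_singleton_iff, Set.mem_univ, iff_true]
    rcases hcen g hg with h | h
    · left
      exact Subtype.ext h
    · right
      exact Subtype.ext h
  · intro g hg
    rcases hcen g hg with h | h
    · rw [h]
      exact one_mem _
    · rw [h]
      exact Subgroup.pow_mem _ (Subgroup.mem_zpowers cox) m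

/-- the centre of the presented Coxeter group is trivial when the centre of `W` is -/
theorem center_coxeter_one (M : CoxeterMatrix (Fin l)) (e : M.Group ≃* ↥(A.W Set.univ))
    (he : ∀ i, (e (M.simple i) : Equiv.Perm (Fin n)) = A.σ i)
    (h1 : ∀ z ∈ A.W Set.univ, (∀ i, z * A.σ i = A.σ i * z) → z = 1) :
    Nat.card (Subgroup.center M.Group) = 1 ∧
      Subgroup.center M.Group ≤ Subgroup.zpowers (((List.finRange l).map M.simple).prod) := by
  have hbot : Subgroup.center M.Group = ⊥ := by
    rw [eq_bot_iff]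
    intro g hg
    rw [Subgroup.mem_center_iff] at hg
    have h4 : ∀ i, (e g : Equiv.Perm (Fin n)) * A.σ i = A.σ i * (e g : Equiv.Perm (Fin n)) := by
      intro i
      have := congrArg (fun x => (e x : Equiv.Perm (Fin n))) (hg (M.simple i))
      simp only [map_mul, Subgroup.coe_mul, he i] at this
      exact this.symm
    rw [Subgroup.mem_bot]
    apply e.injective
    rw [map_one]
    exact Subtype.ext (h1 _ (e g).2 h4)
  rw [hbot]
  exact ⟨Subgroup.card_bot, bot_le⟩

end WeylData

namespace RootTab

/-- certificate for the centre: a root negated by a simple reflection is the simple root or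
its negative; the Dynkin diagram is connected (a tree on the nodes with root `0`, parents
`par` and depths `dep`) -/
def cenCheck (R : RootTab) (par dep : ℕ → ℕ) : Bool :=
  (allBelow R.l fun i => allBelow R.n fun r =>
    !(Nat.beq (R.rf i r) (R.n - 1 - r)) ||
      (Nat.beq r (R.simple i) || Nat.beq r (R.n - 1 - R.simple i))) &&
  (allBelow R.l fun j => Nat.beq j 0 || (Nat.blt (par j) R.l && (Nat.blt (dep (par j)) (dep j) &&
    (!(decide (R.cart (par j) (R.simple j) = 0)) && !(decide (R.cart j (R.simple (par j)) = 0))))))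

/-- a central element of `W` is trivial or negates all the simple roots -/
theorem center_cases {R : RootTab} (hR : R.Valid) (par dep : ℕ → ℕ)
    (h : cenCheck R par dep = true) (hl : 0 < R.l) (z : Equiv.Perm (Fin R.n))
    (hz : z ∈ (R.weyl hR).W Set.univ)
    (hc : ∀ i, z * (R.weyl hR).σ i = (R.weyl hR).σ i * z) :
    z = 1 ∨ ∀ i, z ((R.weyl hR).simple i) = (R.weyl hR).neg ((R.weyl hR).simple i) := by
  unfold cenCheck at h
  rw [Bool.and_eq_true] at h
  obtain ⟨ha, hb⟩ := h
  have hzc := (R.weyl hR).compat_of_mem_W Set.univ z hz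
  have h1 : ∀ (i : Fin R.l) (r : Fin R.n), (R.weyl hR).σ i r = (R.weyl hR).neg r →
      r = (R.weyl hR).simple i ∨ r = (R.weyl hR).neg ((R.weyl hR).simple i) := by
    intro i r hr
    have h2 := (allBelow_iff _ _).mp ((allBelow_iff _ _).mp ha i.val i.isLt) r.val r.isLt
    rw [Bool.or_eq_true, Bool.or_eq_true] at h2
    rcases h2 with h2 | h2 | h2
    · exfalso
      have h3 : R.rf i.val r.val = R.n - 1 - r.val := congrArg Fin.val hr
      rw [h3, Nat.beq_refl] at h2
      exact absurd h2 (by decide)
    · left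
      exact Fin.ext (Nat.eq_of_beq_eq_true h2)
    · right
      exact Fin.ext (Nat.eq_of_beq_eq_true h2)
  have hs : ∀ i, z ((R.weyl hR).simple i) = (R.weyl hR).simple i ∨
      z ((R.weyl hR).simple i) = (R.weyl hR).neg ((R.weyl hR).simple i) :=
    fun i => (R.weyl hR).central_simple h1 z hzc i (hc i)
  have key : ∀ d (j : Fin R.l), dep j.val ≤ d →
      (z ((R.weyl hR).simple j) = (R.weyl hR).simple j ↔
        z ((R.weyl hR).simple ⟨0, hl⟩) = (R.weyl hR).simple ⟨0, hl⟩) := by
    intro d
    induction d with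
    | zero =>
      intro j hj
      have h2 := (allBelow_iff _ _).mp hb j.val j.isLt
      rw [Bool.or_eq_true] at h2
      rcases h2 with h2 | h2
      · have : j = ⟨0, hl⟩ := Fin.ext (Nat.eq_of_beq_eq_true h2)
        rw [this]
      · exfalso
        simp only [Bool.and_eq_true] at h2
        have := Nat.blt_eq.mp h2.2.1
        omega
    | succ d ih =>
      intro j hj
      have h2 := (allBelow_iff _ _).mp hb j.val j.isLt
      rw [Bool.or_eq_true] at h2
      rcases h2 with h2 | h2
      · have : j = ⟨0, hl⟩ := Fin.ext (Nat.eq_of_beq_eq_true h2)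
        rw [this]
      · simp only [Bool.and_eq_true] at h2
        obtain ⟨hp, hd, hc1, hc2⟩ := h2
        have hpl := Nat.blt_eq.mp hp
        have hdl := Nat.blt_eq.mp hd
        have ih' := ih ⟨par j.val, hpl⟩ (by show dep (par j.val) ≤ d; omega)
        rw [← ih']
        apply (R.weyl hR).central_adj z hzc j ⟨par j.val, hpl⟩ ?_ ?_ (hs j) (hs _)
        · show R.PP (R.simple j.val) (R.simple (par j.val)) ≠ 0
          rw [hR.PP_simple (par j.val) hpl]
          simpa using hc1
        · show R.PP (R.simple (par j.val)) (R.simple j.val) ≠ 0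
          rw [hR.PP_simple j.val j.isLt]
          simpa using hc2
  by_cases h0 : z ((R.weyl hR).simple ⟨0, hl⟩) = (R.weyl hR).simple ⟨0, hl⟩
  · left
    apply (R.weyl hR).eq_one_of_pos Set.univ z hz
    intro i _
    rw [(key (dep i.val) i le_rfl).mpr h0]
    exact (R.weyl hR).pos_simple i
  · right
    intro i
    rcases hs i with h3 | h3
    · exact absurd ((key (dep i.val) i le_rfl).mp h3) h0
    · exact h3

/-- the word in the simple reflections with letters taken modulo `l` -/
def finWord (l : ℕ) (hl : 0 < l) (u : List ℕ) : List (Fin l) :=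
  u.map fun i => ⟨i % l, Nat.mod_lt i hl⟩

/-- the action of a word on a root index -/
def pwEval (R : RootTab) (u : List ℕ) (r : ℕ) : ℕ := u.foldr (fun i acc => R.rf (i % R.l) acc) r

theorem pw_finWord {R : RootTab} (hR : R.Valid) (hl : 0 < R.l) (u : List ℕ) (r : Fin R.n) :
    (((R.weyl hR).pw (finWord R.l hl u)) r).val = pwEval R u r.val := by
  induction u with
  | nil => rfl
  | cons i u ih =>
    show (((R.weyl hR).pw (⟨i % R.l, Nat.mod_lt i hl⟩ :: finWord R.l hl u)) r).val =
      R.rf (i % R.l) (pwEval R u r.val)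
    rw [WeylData.pw_cons, Equiv.Perm.mul_apply, ← ih]
    rfl

/-- the action of a power of a word on a root index -/
def powEval (R : RootTab) (u : List ℕ) : ℕ → ℕ → ℕ
  | 0, r => r
  | m + 1, r => pwEval R u (powEval R u m r)

theorem pow_finWord {R : RootTab} (hR : R.Valid) (hl : 0 < R.l) (u : List ℕ) (m : ℕ)
    (r : Fin R.n) :
    ((((R.weyl hR).pw (finWord R.l hl u)) ^ m) r).val = powEval R u m r.val := by
  induction m with
  | zero => rfl
  | succ m ih =>
    rw [pow_succ', Equiv.Perm.mul_apply, pw_finWord, ih]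
    rfl

theorem finRange_eq_finWord (l : ℕ) (hl : 0 < l) :
    List.finRange l = finWord l hl (List.range l) := by
  apply List.ext_getElem
  · simp [finWord]
  · intro k h1 h2
    apply Fin.ext
    simp only [finWord, List.getElem_map, List.getElem_range, List.getElem_finRange]
    have hk : k < l := by simpa using h1
    simp [Nat.mod_eq_of_lt hk]

/-- the `m`-th power of the Coxeter element negates every root -/
def negCheck (R : RootTab) (m : ℕ) : Bool :=
  allBelow R.n fun r => Nat.beq (powEval R (List.range R.l) m r) (R.n - 1 - r)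

/-- the centre of `W` is `{1, c^m}`, `c` the Coxeter element, when `c^m` negates every root -/
theorem center_neg {R : RootTab} (hR : R.Valid) (par dep : ℕ → ℕ)
    (hcen : cenCheck R par dep = true) (hl : 0 < R.l) (m : ℕ) (hneg : negCheck R m = true) :
    (∀ z ∈ (R.weyl hR).W Set.univ, (∀ i, z * (R.weyl hR).σ i = (R.weyl hR).σ i * z) →
      z = 1 ∨ z = ((R.weyl hR).pw (List.finRange R.l)) ^ m) ∧
    (∀ w ∈ (R.weyl hR).W Set.univ, ((R.weyl hR).pw (List.finRange R.l)) ^ m * w =
      w * ((R.weyl hR).pw (List.finRange R.l)) ^ m) ∧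
    ((R.weyl hR).pw (List.finRange R.l)) ^ m ≠ 1 := by
  have hcm : ∀ r, (((R.weyl hR).pw (List.finRange R.l)) ^ m) r = (R.weyl hR).neg r := by
    intro r
    apply Fin.ext
    rw [finRange_eq_finWord R.l hl, pow_finWord hR hl]
    exact Nat.eq_of_beq_eq_true ((allBelow_iff _ _).mp hneg r.val r.isLt)
  have hmemW : ((R.weyl hR).pw (List.finRange R.l)) ^ m ∈ (R.weyl hR).W Set.univ :=
    pow_mem ((R.weyl hR).pw_mem_W Set.univ _ (fun i _ => Set.mem_univ i)) m
  refine ⟨fun z hz hc => ?_, fun w hw => ?_, fun h => ?_⟩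
  · rcases center_cases hR par dep hcen hl z hz hc with h | h
    · exact Or.inl h
    · exact Or.inr ((R.weyl hR).negAll_unique z _ hz hmemW h (fun i => hcm _))
  · ext r
    rw [Equiv.Perm.mul_apply, Equiv.Perm.mul_apply, hcm, hcm,
      ((R.weyl hR).compat_of_mem_W Set.univ w hw).1]
  · have h1 := hcm ((R.weyl hR).simple ⟨0, hl⟩)
    rw [h, Equiv.Perm.one_apply] at h1
    exact (R.weyl hR).simple_ne_neg _ h1

/-- certificate that no element of `W` negates all the simple roots: a word sending each simple
root `p_i` to `-p_{π i}`, with `π` not the identity -/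
def w0Check (R : RootTab) (word : List ℕ) (π : ℕ → ℕ) (i0 : ℕ) : Bool :=
  (allBelow R.l fun i => Nat.blt (π i) R.l &&
    Nat.beq (pwEval R word (R.simple i)) (R.n - 1 - R.simple (π i))) &&
  (Nat.blt i0 R.l && !(Nat.beq (R.simple (π i0)) (R.simple i0)))

/-- the centre of `W` is trivial when the longest element is not `-1` -/
theorem center_trivial {R : RootTab} (hR : R.Valid) (par dep : ℕ → ℕ)
    (hcen : cenCheck R par dep = true) (hl : 0 < R.l) (word : List ℕ) (π : ℕ → ℕ) (i0 : ℕ)
    (hw : w0Check R word π i0 = true) :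
    ∀ z ∈ (R.weyl hR).W Set.univ, (∀ i, z * (R.weyl hR).σ i = (R.weyl hR).σ i * z) → z = 1 := by
  intro z hz hc
  rcases center_cases hR par dep hcen hl z hz hc with h | h
  · exact h
  · exfalso
    unfold w0Check at hw
    simp only [Bool.and_eq_true, allBelow_iff] at hw
    obtain ⟨hw1, hi0, hne⟩ := hw
    have hi0' := Nat.blt_eq.mp hi0
    have hw0 : ∀ i : Fin R.l, ((R.weyl hR).pw (finWord R.l hl word)) ((R.weyl hR).simple i) =
        (R.weyl hR).neg ((R.weyl hR).simple ⟨π i.val, Nat.blt_eq.mp (hw1 i.val i.isLt).1⟩) := by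
      intro i
      apply Fin.ext
      rw [pw_finWord hR hl]
      exact Nat.eq_of_beq_eq_true (hw1 i.val i.isLt).2
    have hmemW : (R.weyl hR).pw (finWord R.l hl word) ∈ (R.weyl hR).W Set.univ :=
      (R.weyl hR).pw_mem_W Set.univ _ (fun i _ => Set.mem_univ i)
    have hy : z⁻¹ * (R.weyl hR).pw (finWord R.l hl word) = 1 := by
      apply (R.weyl hR).eq_one_of_pos Set.univ _ (mul_mem (inv_mem hz) hmemW)
      intro i _
      rw [Equiv.Perm.mul_apply, hw0 i, ← h, perm_inv_apply]
      exact (R.weyl hR).pos_simple _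
    have hzw : z = (R.weyl hR).pw (finWord R.l hl word) := inv_mul_eq_one.mp hy
    have h1 := hw0 ⟨i0, hi0'⟩
    rw [← hzw, h ⟨i0, hi0'⟩] at h1
    have h2 := congrArg (R.weyl hR).neg h1
    rw [(R.weyl hR).neg_neg, (R.weyl hR).neg_neg] at h2
    have h3 : R.simple i0 = R.simple (π i0) := congrArg Fin.val h2
    rw [h3, Nat.beq_refl] at hne
    exact absurd hne (by decide)

/-- `(rf i ∘ rf j)^m` on the root indices -/
def relIterC (R : RootTab) (i j : ℕ) : ℕ → ℕ → ℕ
  | 0, r => r
  | m + 1, r => R.rf i (R.rf j (relIterC R i j m r))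

/-- Boolean check of the relations `(σ_i σ_j)^{m i j} = 1` -/
def relOKC (R : RootTab) (m : ℕ → ℕ → ℕ) : Bool :=
  allBelow R.l fun i => allBelow R.l fun j => allBelow R.n fun r =>
    Nat.beq (relIterC R i j (m i j) r) r

theorem relIterC_eq (R : RootTab) (hR : R.Valid) (i j : Fin R.l) (m : ℕ) (r : Fin R.n) :
    ((((R.weyl hR).σ i * (R.weyl hR).σ j) ^ m) r).val = relIterC R i.val j.val m r.val := by
  induction m with
  | zero => rfl
  | succ m ih =>
    rw [pow_succ', Equiv.Perm.mul_apply, Equiv.Perm.mul_apply]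
    show R.rf i.val (R.rf j.val _) = R.rf i.val (R.rf j.val _)
    rw [ih]

theorem rel_of_okC (R : RootTab) (hR : R.Valid) (m : ℕ → ℕ → ℕ) (h : relOKC R m = true)
    (i j : Fin R.l) : ((R.weyl hR).σ i * (R.weyl hR).σ j) ^ (m i.val j.val) = 1 := by
  apply Equiv.ext
  intro r
  apply Fin.ext
  rw [relIterC_eq]
  have h1 := (allBelow_iff _ _).mp ((allBelow_iff _ _).mp ((allBelow_iff _ _).mp h i.val i.isLt)
    j.val j.isLt) r.val r.isLt
  exact Nat.eq_of_beq_eq_true h1

end RootTab

end Cfsg.Agent.Lib.helper41
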